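import Mathlib
import Cfsg.Agent.H254.CopField
import Cfsg.Agent.H565.TwField
import Cfsg.Agent.Schreier.TwDFour
import Cfsg.Agent.Schreier.TwESix

/-!
# Coprime groups of automorphisms of `³D₄(q)` and `²E₆(q)` are cyclic
-/

set_option autoImplicit false

namespace Cfsg.Agent.H565.CopTw

open Cfsg.Agent.H254 Cfsg.Lie

/-- The exponents of the field. -/
theorem exists_params {K : Type*} [Field K] [Fintype K] {q d : ℕ} (hq : IsPrimePow q)
    (hK : Fintype.card K = q ^ d) (hd : d ≠ 0) :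
    ∃ p f : ℕ, p.Prime ∧ CharP K p ∧ 1 ≤ f ∧ q = p ^ f ∧ Fintype.card K = p ^ (d * f) := by
  obtain ⟨p, f, hp, hf, rfl⟩ := (isPrimePow_nat_iff _).1 hq
  refine ⟨p, f, hp, ?_, hf, rfl, by rw [hK, ← pow_mul, mul_comm]⟩
  obtain ⟨r, hr⟩ := CharP.exists K
  obtain ⟨n, hrp, hn⟩ := FiniteField.card K r
  have h1 : r ∣ p := by
    refine hrp.dvd_of_dvd_pow (n := f * d) ?_
    rw [pow_mul, ← hK, hn]
    exact dvd_pow_self r n.pos.ne'
  rwa [(Nat.prime_dvd_prime_iff_eq hrp hp).1 h1] at hr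

/-- **Coprime groups of automorphisms of `³D₄(q)` are cyclic.** -/
theorem copCyc_twD4 {G : Type*} [Group G] (h : Iso3D4 G) : CopCyc G := by
  obtain ⟨K, _, _, q, hq, hK, ⟨e⟩⟩ := h
  refine CopCyc.of_equiv e.symm ?_
  obtain ⟨p, f, hp, hc, hf, rfl, hK'⟩ := exists_params hq hK (by norm_num)
  have : Fact p.Prime := ⟨hp⟩
  obtain ⟨σ, hσ⟩ := TwField.exists_twD4 p f hK' hf
  refine CopCyc.of_field' (isSolvable_out_of_sch (Cfsg.Agent.Schreier.TwDFour.sch hq hK)) σ 1 one_ne_zero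
    (fun r _ hd => hd.trans (one_dvd _)) ?_
  rw [S2129.result p f hK' hf, one_mul]
  exact hσ

theorem three_dvd_twE6 {K : Type} [Field K] [Fintype K] {q : ℕ} (hq : IsPrimePow q) (hK : Fintype.card K = q ^ 2)
    (h3 : 3 ∣ q + 1) : 3 ∣ Nat.card ↥(twistedE6 K q) := by
  have h1 := S1102.result (K := K) hq hK
  have h2 : Nat.gcd 3 (q + 1) = 3 := Nat.gcd_eq_left h3
  rw [h2] at h1
  have h4 : 3 ∣ Nat.card ↥(chevE6.diagonalSubgroup K ⊓ twistedE6 K q) := by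
    obtain ⟨a, ha⟩ := h3
    refine ⟨(q - 1) ^ 4 * a ^ 2, ?_⟩
    have h5 : 3 * Nat.card ↥(chevE6.diagonalSubgroup K ⊓ twistedE6 K q) = 3 * (3 * ((q - 1) ^ 4 * a ^ 2)) := by
      rw [h1, ha]; ring
    exact Nat.eq_of_mul_eq_mul_left (by norm_num) h5
  exact h4.trans (Subgroup.card_dvd_of_le inf_le_right)

/-- **Coprime groups of automorphisms of `²E₆(q)` are cyclic.** -/
theorem copCyc_twE6 {G : Type*} [Group G] (h : Iso2E6 G) : CopCyc G := by
  obtain ⟨K, _, _, q, hq, hK, ⟨e⟩⟩ := h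
  refine CopCyc.of_equiv e.symm ?_
  have hs := isSolvable_out_of_sch (Cfsg.Agent.Schreier.TwESix.sch_of_iso2E6 (G := ↥(twistedE6 K q))
    ⟨K, inferInstance, inferInstance, q, hq, hK, ⟨MulEquiv.refl _⟩⟩)
  obtain ⟨p, f, hp, hc, hf, rfl, hK'⟩ := exists_params hq hK (by norm_num)
  have : Fact p.Prime := ⟨hp⟩
  obtain ⟨σ, hσ⟩ := TwField.exists_twE6 p f hK' hf
  refine CopCyc.of_field' hs σ (Nat.gcd 3 (p ^ f + 1)) (Nat.gcd_pos_of_pos_left _ (by norm_num)).ne' ?_ ?_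
  · intro r hr hd
    have h3 : r = 3 := (Nat.prime_dvd_prime_iff_eq hr Nat.prime_three).1 (hd.trans (Nat.gcd_dvd_left _ _))
    subst h3
    exact three_dvd_twE6 hq hK (hd.trans (Nat.gcd_dvd_right _ _))
  · rw [S2130.result p f hK' hf]
    have : 2 * Nat.gcd 3 (p ^ f + 1) * f = Nat.gcd 3 (p ^ f + 1) * (2 * f) := by ring
    rw [this]
    exact mul_dvd_mul_left _ hσ

end Cfsg.Agent.H565.CopTw
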