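import Cfsg.Agent.H794.DefClosed
import Cfsg.Agent.H248.DichRGD
import Cfsg.Agent.H567.DichLie
import Cfsg.Agent.H463.LieOdd
import Cfsg.Agent.H400.LieSimple
import Cfsg.Agent.H164.HallGen
import Cfsg.Agent.S0004

/-!
# Overgroups of odd order of the Sylow `p`-subgroups of a group of Lie type in characteristic `p`

* `OddLe p G` : every subgroup of odd order containing a Sylow `p`-subgroup `S` normalises `S`;
  `oddLe_of_lie` : all groups of Lie type in odd characteristic `p`;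
* `BorelSolv p G` : `N_G(S)` is solvable for every Sylow `p`-subgroup `S`; `borelSolv_of_lie`;
* `conj_of_hall` : `OddLe p G`, `BorelSolv p G`, `2 ∉ π`, `p ∈ π`: Hall `π`-subgroups are conjugate;
* `conj_of_lie` : the same for groups of Lie type in characteristic `p`.
-/

set_option autoImplicit false
set_option linter.unusedSectionVars false

namespace Cfsg.Agent.H565.OddBorel

open Cfsg Subgroup
open scoped Pointwise

/-- Subgroups of odd order containing a Sylow `p`-subgroup `S` normalise `S`. -/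
def OddLe (p : ℕ) (G : Type*) [Group G] : Prop :=
  ∀ (S : Sylow p G) (H : Subgroup G), (S : Subgroup G) ≤ H → Odd (Nat.card H) →
    H ≤ normalizer ((S : Subgroup G) : Set G)

/-- The normalisers of the Sylow `p`-subgroups are solvable. -/
def BorelSolv (p : ℕ) (G : Type*) [Group G] : Prop :=
  ∀ S : Sylow p G, Group.IsSolvable ↥(normalizer ((S : Subgroup G) : Set G))

theorem mem_conj_iff {p : ℕ} {G : Type*} [Group G] {S Q : Sylow p G} {k : G} (hk : k • S = Q) (y : G) :
    y ∈ (S : Subgroup G) ↔ k * y * k⁻¹ ∈ (Q : Subgroup G) := by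
  rw [← hk, Sylow.coe_subgroup_smul]
  constructor
  · intro hy
    exact ⟨y, hy, rfl⟩
  · rintro ⟨z, hz, hz'⟩
    have : z = y := mul_left_cancel (mul_right_cancel (show k * z * k⁻¹ = k * y * k⁻¹ from hz'))
    rw [← this]
    exact hz

theorem mem_normalizer_conj_iff {p : ℕ} {G : Type*} [Group G] {S Q : Sylow p G} {k : G} (hk : k • S = Q) (g : G) :
    g ∈ normalizer ((S : Subgroup G) : Set G) ↔ k * g * k⁻¹ ∈ normalizer ((Q : Subgroup G) : Set G) := by
  rw [mem_normalizer_iff, mem_normalizer_iff]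
  constructor
  · intro h y
    have h1 := h (k⁻¹ * y * k)
    rw [mem_conj_iff hk, mem_conj_iff hk] at h1
    have e1 : k * (k⁻¹ * y * k) * k⁻¹ = y := by group
    have e2 : k * (g * (k⁻¹ * y * k) * g⁻¹) * k⁻¹ = k * g * k⁻¹ * y * (k * g * k⁻¹)⁻¹ := by group
    rwa [e1, e2] at h1
  · intro h y
    have h1 := h (k * y * k⁻¹)
    rw [mem_conj_iff hk, mem_conj_iff hk]
    have e2 : k * (g * y * g⁻¹) * k⁻¹ = k * g * k⁻¹ * (k * y * k⁻¹) * (k * g * k⁻¹)⁻¹ := by group
    rwa [e2]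

/-- One Sylow subgroup suffices. -/
theorem OddLe.of_one {p : ℕ} [Fact p.Prime] {G : Type*} [Group G] [Finite G] (Q : Sylow p G)
    (h : ∀ H : Subgroup G, (Q : Subgroup G) ≤ H → Odd (Nat.card H) →
      H ≤ normalizer ((Q : Subgroup G) : Set G)) : OddLe p G := by
  intro S H hSH hodd
  obtain ⟨k, hk⟩ := MulAction.exists_smul_eq G S Q
  have h1 := h (H.map (MulAut.conj k).toMonoidHom) (by
    intro y hy
    refine ⟨k⁻¹ * y * k, hSH ?_, ?_⟩
    · rw [mem_conj_iff hk]
      have e1 : k * (k⁻¹ * y * k) * k⁻¹ = y := by group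
      rwa [e1]
    · show k * (k⁻¹ * y * k) * k⁻¹ = y
      group) (by rwa [H164.card_map_conj])
  intro g hg
  rw [mem_normalizer_conj_iff hk]
  exact h1 ⟨g, hg, rfl⟩

theorem BorelSolv.of_one {p : ℕ} [Fact p.Prime] {G : Type*} [Group G] [Finite G] (Q : Sylow p G)
    (h : Group.IsSolvable ↥(normalizer ((Q : Subgroup G) : Set G))) : BorelSolv p G := by
  intro S
  obtain ⟨k, hk⟩ := MulAction.exists_smul_eq G S Q
  let f : ↥(normalizer ((S : Subgroup G) : Set G)) →* ↥(normalizer ((Q : Subgroup G) : Set G)) :=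
    { toFun := fun g => ⟨k * g * k⁻¹, (mem_normalizer_conj_iff hk _).1 g.2⟩
      map_one' := Subtype.ext (by simp)
      map_mul' := fun a b => Subtype.ext (by
        show k * ((a * b : ↥(normalizer ((S : Subgroup G) : Set G))) : G) * k⁻¹ = k * a * k⁻¹ * (k * b * k⁻¹)
        rw [Subgroup.coe_mul]
        group) }
  have hf : Function.Injective f := by
    intro a b hab
    have h1 : k * (a : G) * k⁻¹ = k * (b : G) * k⁻¹ := congrArg Subtype.val hab
    exact Subtype.ext (mul_left_cancel (mul_right_cancel h1))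
  exact Group.isSolvable_of_isSolvable_injective hf

/-- An element of odd order whose square lies in `T` lies in `T`. -/
theorem mem_of_sq_mem {G : Type*} [Group G] {T P : Subgroup G} (hodd : Odd (Nat.card P)) {k : G}
    (hk : k ∈ P) (h2 : k * k ∈ T) : k ∈ T := by
  obtain ⟨j, hj⟩ := hodd
  have h4 : k ^ Nat.card P = 1 := congrArg Subtype.val (pow_card_eq_one' (x := (⟨k, hk⟩ : P)))
  rw [hj] at h4
  have h5 : k = (k * k) ^ (j + 1) := by
    rw [← pow_two, ← pow_mul, show 2 * (j + 1) = (2 * j + 1) + 1 by ring, pow_succ, h4, one_mul]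
  rw [h5]
  exact pow_mem h2 _

section Rgd

open CoxeterSystem Cfsg.Agent.ChevalleyStructure.CoxeterGeom Cfsg.Agent.Tits.Roots Cfsg.Agent.Tits.Core
  Cfsg.Agent.Tits.Exchange Cfsg.Agent.Nodes.Reps Cfsg.Agent.Nodes.BNOf Cfsg.Agent.Nodes.StabComb
  Cfsg.Agent.Nodes.Bruhat Cfsg.Agent.Nodes.OppDec Cfsg.Agent.Nodes.LeviDec
open Cfsg.Agent.H248.TitsRGD

variable {I W Y : Type*} [Fintype I] [DecidableEq I] [Group W] [Group Y] {M : CoxeterMatrix I}
  {cs : CoxeterSystem M W} {A : I → I → ℤ} {h : IsCartan M A} {p : ℕ} {T : Subgroup Y} {n : I → Y}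
  {X : (I → ℤ) → Subgroup Y}

/-- a subgroup of odd order represents no simple reflection -/
theorem JU_eq_empty (R : RGD cs h p T n X) [Finite W] {P : Subgroup Y} (hodd : Odd (Nat.card P)) :
    JU T n P = ∅ := by
  rw [Set.eq_empty_iff_forall_notMem]
  rintro i ⟨t, ht, hk⟩
  have h1 : Rp cs R.nsys (cs.simple i) (t * n i) := by
    have := (rp_of_mem (cs := cs) (hN := R.nsys) ht).mul (rp_simple cs R.nsys i)
    rwa [one_mul] at this
  have h2 : (t * n i) * (t * n i) ∈ T := by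
    have := h1.mul h1
    rw [simple_mul_simple_self] at this
    exact this.mem_of_one
  have h6 := R.eq_one_of_mem_B h1 (RGD.T_le_B (mem_of_sq_mem hodd hk h2))
  have h7 := cs.length_simple i
  rw [h6, cs.length_one] at h7
  exact absurd h7 (by norm_num)

theorem le_normalizer_of_odd (R : RGD cs h p T n X) [Finite W] {P : Subgroup Y}
    (hP : RGD.Sup X (RGD.Pos cs h) ≤ P) (hG : P ≤ GG cs h T X) (hodd : Odd (Nat.card P)) :
    P ≤ normalizer (RGD.Sup X (RGD.Pos cs h) : Set Y) := by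
  have h1 := le_PJ R hP hG
  rw [JU_eq_empty R hodd, KFacts.RgdVJ.PJ_empty R] at h1
  exact h1.trans R.B_le_normalizer_U

theorem oddLe_of_rgd (R : RGD cs h p T n X) [Finite W] [Finite Y] [Fact p.Prime]
    (hG : Nodes.RGDLib.G1 cs h X = ⊤) : OddLe p Y := by
  have hGG : GG cs h T X = ⊤ := by
    rw [eq_top_iff, ← hG]
    exact le_sup_right
  have h1 := KFacts.RgdSyl.not_dvd_relIndex R
  rw [hGG, Subgroup.relIndex_top_right] at h1
  exact OddLe.of_one (R.isPGroup_Upos.toSylow h1) fun H hH hodd =>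
    le_normalizer_of_odd R hH (by rw [hGG]; exact le_top) hodd

end Rgd

theorem oddLe_of_hasRGD {G : Type*} [Group G] [Finite G] {p : ℕ} [Fact p.Prime]
    (hG : Nodes.RGDChev.HasRGD p G) : OddLe p G := by
  obtain ⟨l, M, A, h, T, n, X, h1, R, h2⟩ := hG
  exact oddLe_of_rgd R h2

section Split

open Cfsg.Agent.FixBN

variable {K : Type*} [Group K] {P : Cfsg.BNPair K} {p : ℕ} {U : Subgroup K}

/-- a group with a split (B,N)-pair of positive rank has even order -/
theorem not_odd_of_split (h : FixBN.Split P p U) (hne : P.S.Nonempty) : ¬ Odd (Nat.card K) := by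
  intro hodd
  obtain ⟨s, hs⟩ := hne
  have h1 : s ∈ P.B := mem_of_sq_mem (P := ⊤) (by rwa [Subgroup.card_top]) (mem_top s) (P.sq_mem s hs)
  obtain ⟨V, hV⟩ := h.node s hs
  obtain ⟨u, hu, huV⟩ := hV.ne
  apply huV
  refine hV.stab u hu ?_
  exact mul_mem (mul_mem (inv_mem h1) (h.le hu)) h1

/-- the Borel subgroup is solvable -/
theorem isSolvable_of_split [Finite K] [Fact p.Prime] (h : FixBN.Split P p U)
    (hc : ∀ a ∈ P.B ⊓ P.N, ∀ b ∈ P.B ⊓ P.N, a * b = b * a) : Group.IsSolvable ↥P.B := by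
  have hnor : (U.subgroupOf P.B).Normal := by
    constructor
    intro u hu b
    rw [Subgroup.mem_subgroupOf] at hu ⊢
    exact h.norm b b.2 u hu
  rw [Group.isSolvable_iff_subgroup_quotient (U.subgroupOf P.B)]
  constructor
  · have h1 : IsPGroup p ↥(U.subgroupOf P.B) :=
      h.isP.comap_of_injective P.B.subtype (Subgroup.subtype_injective _)
    have h2 := h1.isNilpotent
    infer_instance
  · apply Group.isSolvable_of_comm
    have key : ∀ x : P.B ⧸ U.subgroupOf P.B, ∃ t : P.B, (t : K) ∈ P.B ⊓ P.N ∧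
        x = (QuotientGroup.mk t : P.B ⧸ U.subgroupOf P.B) := by
      intro x
      obtain ⟨b, rfl⟩ := QuotientGroup.mk_surjective x
      obtain ⟨u, hu, t, ht, e⟩ := h.cover' b.2
      refine ⟨⟨t, ht.1⟩, ht, ?_⟩
      have h1 : b = ⟨u, h.le hu⟩ * ⟨t, ht.1⟩ := Subtype.ext e
      rw [h1, QuotientGroup.mk_mul, (QuotientGroup.eq_one_iff (⟨u, h.le hu⟩ : P.B)).2
        (Subgroup.mem_subgroupOf.2 hu), one_mul]
    intro x y
    obtain ⟨a, ha, rfl⟩ := key x
    obtain ⟨b, hb, rfl⟩ := key y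
    rw [← QuotientGroup.mk_mul, ← QuotientGroup.mk_mul]
    congr 1
    exact Subtype.ext (hc a ha b hb)

end Split

theorem borelSolv_of_splitAb {K : Type*} [Group K] [Finite K] {p : ℕ} [Fact p.Prime] (h : H463.LieAb.SplitAb p K) :
    BorelSolv p K := by
  obtain ⟨P, U, hne, h, hc⟩ := h
  obtain ⟨Q, hQ⟩ := h.isP.exists_le_sylow
  have hQU : (Q : Subgroup K) = U := H794.DefClosed.eq_of_isPGroup h Q.isPGroup' hQ
  apply BorelSolv.of_one Q
  rw [hQU, h.normalizer_eq]
  exact isSolvable_of_split h hc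

theorem borelSolv_of_lie {p : ℕ} [Fact p.Prime] (hp2 : p ≠ 2) {G : Type*} [Group G] [Finite G]
    (hG : IsLieTypeChar p G) : BorelSolv p G :=
  borelSolv_of_splitAb (H463.LieOdd.splitAb hp2 (H400.LieSimple.isSimple_of_lie hG) hG)

theorem not_odd_of_lie {p : ℕ} [Fact p.Prime] (hp2 : p ≠ 2) {G : Type*} [Group G] [Finite G]
    (hG : IsLieTypeChar p G) : ¬ Odd (Nat.card G) := by
  obtain ⟨P, U, hne, h, -⟩ := H463.LieOdd.splitAb hp2 (H400.LieSimple.isSimple_of_lie hG) hG
  exact not_odd_of_split h hne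

/-- `TI p G` and the dichotomy for overgroups of Sylow subgroups -/
theorem oddLe_of_ti {G : Type*} [Group G] [Finite G] {p : ℕ} [Fact p.Prime] (h : H794.TI p G)
    (hd : H248.Ovg.Dich p G) (hodd : ¬ Odd (Nat.card G)) : OddLe p G := by
  obtain ⟨U, hU, hUi, hd⟩ := hd
  refine OddLe.of_one (hU.toSylow hUi) fun H hH hHo => ?_
  have hH' : U ≤ H := hH
  rcases hd H hH' with h1 | ⟨V, hV1, hVp, hVH, hHV⟩
  · subst h1
    rw [Subgroup.card_top] at hHo
    exact absurd hHo hodd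
  · obtain ⟨Q, hQ⟩ := hVp.exists_le_sylow
    obtain ⟨x, hx, hx1⟩ := V.bot_or_exists_ne_one.resolve_left hV1
    have h2 : H ≤ normalizer ((Q : Subgroup G) : Set G) := fun g hg =>
      h Q x (hQ hx) hx1 g (hQ ((mem_normalizer_iff.1 (hHV hg) x).1 hx))
    have h3 : U ≤ Q := by
      have h3 : IsPGroup p ((Q : Subgroup G) ⊔ U : Subgroup G) :=
        IsPGroup.to_sup_of_normal_left' Q.isPGroup' hU (hH'.trans h2)
      have h4 := Q.is_maximal' h3 le_sup_left
      rw [← h4]
      exact le_sup_right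
    have h4 : (Q : Subgroup G) = U := by
      have h5 := (hU.toSylow hUi).is_maximal' Q.isPGroup' h3
      exact h5
    rw [h4] at h2
    exact h2

/-- **Odd order overgroups of the Sylow `p`-subgroups, groups of Lie type in characteristic `p`.** -/
theorem oddLe_of_lie {p : ℕ} [Fact p.Prime] (hp2 : p ≠ 2) {G : Type*} [Group G] [Finite G]
    (hG : IsLieTypeChar p G) : OddLe p G := by
  rcases Nodes.RGDLie.hasRGD_of_lie hG with h1 | ⟨rfl, h1⟩ | ⟨rfl, h1⟩ | ⟨rfl, h1⟩
  · exact oddLe_of_hasRGD h1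
  · exact absurd rfl hp2
  · exact absurd rfl hp2
  · exact oddLe_of_ti (H794.DefClosed.ti_ree h1) (H567.DichLie.dich_of_lie hG) (not_odd_of_lie hp2 hG)

section Hall

variable {G : Type*} [Group G] [Finite G]

theorem odd_card_of_hall {π : Set ℕ} (h2 : 2 ∉ π) {H : Subgroup G} (hH : Cfsg.IsPiHall π H) :
    Odd (Nat.card H) := by
  rw [← Nat.not_even_iff_odd, even_iff_two_dvd]
  exact fun h => h2 (hH.1 2 Nat.prime_two h)

/-- a Hall `π`-subgroup with `p ∈ π` has a conjugate containing the given Sylow subgroup -/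
theorem exists_conj_le {p : ℕ} [hp : Fact p.Prime] {π : Set ℕ} (hpπ : p ∈ π) {H : Subgroup G}
    (hH : Cfsg.IsPiHall π H) (S : Sylow p G) : ∃ g : G, (S : Subgroup G) ≤ H.map (MulAut.conj g).toMonoidHom := by
  obtain ⟨g, hg⟩ := H164.exists_conj_mem_of_isPGroup hp.out (hH.2 p hp.out hpπ) S.isPGroup'
  refine ⟨g, fun x hx => ⟨g⁻¹ * x * g, hg x hx, ?_⟩⟩
  show g * (g⁻¹ * x * g) * g⁻¹ = x
  group

/-- Hall subgroups of `G` lying in a solvable subgroup `N` are conjugate. -/
theorem conj_of_le_solvable {π : Set ℕ} {H K N : Subgroup G} (hH : Cfsg.IsPiHall π H) (hK : Cfsg.IsPiHall π K)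
    (hHN : H ≤ N) (hKN : K ≤ N) (hN : Group.IsSolvable N) : ∃ g : G, K = H.map (MulAut.conj g).toMonoidHom := by
  have hcard : Nat.card H = Nat.card K := H164.hall_card_eq hH hK
  have h1 : Nat.card N = Nat.card H * H.relIndex N := by
    rw [← Subgroup.card_mul_index (H.subgroupOf N)]
    congr 1
    exact Nat.card_congr (Subgroup.subgroupOfEquivOfLe hHN).toEquiv
  have h2 : (Nat.card H).Coprime (H.relIndex N) := by
    rw [Nat.coprime_iff_gcd_eq_one]
    by_contra hne
    obtain ⟨r, hr, hrd⟩ := Nat.exists_prime_and_dvd hne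
    exact hH.2 r hr (hH.1 r hr (hrd.trans (Nat.gcd_dvd_left _ _)))
      ((hrd.trans (Nat.gcd_dvd_right _ _)).trans (Subgroup.relIndex_dvd_index_of_le hHN))
  obtain ⟨g, hg⟩ := S0004.result (G := N) _ _ h1 h2 (H.subgroupOf N) (K.subgroupOf N)
    (Nat.card_congr (Subgroup.subgroupOfEquivOfLe hHN).toEquiv)
    (by rw [hcard]; exact Nat.card_congr (Subgroup.subgroupOfEquivOfLe hKN).toEquiv)
  refine ⟨g, ?_⟩
  ext x
  constructor
  · intro hx
    have h3 : (⟨x, hKN hx⟩ : N) ∈ K.subgroupOf N := Subgroup.mem_subgroupOf.2 hx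
    rw [← hg] at h3
    obtain ⟨y, hy, e⟩ := h3
    refine ⟨y, Subgroup.mem_subgroupOf.1 hy, ?_⟩
    have h4 := congrArg Subtype.val e
    exact h4
  · rintro ⟨y, hy, rfl⟩
    have h3 : g * (⟨y, hHN hy⟩ : N) * g⁻¹ ∈ K.subgroupOf N := by
      rw [← hg]
      exact ⟨⟨y, hHN hy⟩, Subgroup.mem_subgroupOf.2 hy, rfl⟩
    exact Subgroup.mem_subgroupOf.1 h3

/-- **Hall subgroups of odd order whose order is divisible by `p`.** -/
theorem conj_of_hall {p : ℕ} [Fact p.Prime] (hO : OddLe p G) (hB : BorelSolv p G) {π : Set ℕ} (h2 : 2 ∉ π)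
    (hpπ : p ∈ π) {H K : Subgroup G} (hH : Cfsg.IsPiHall π H) (hK : Cfsg.IsPiHall π K) :
    ∃ g : G, K = MulAut.conj g • H := by
  obtain ⟨S⟩ : Nonempty (Sylow p G) := inferInstance
  obtain ⟨a, ha⟩ := exists_conj_le hpπ hH S
  obtain ⟨b, hb⟩ := exists_conj_le hpπ hK S
  have hH' := H164.hall_map_conj hH a
  have hK' := H164.hall_map_conj hK b
  obtain ⟨g, hg⟩ := conj_of_le_solvable hH' hK' (hO S _ ha (odd_card_of_hall h2 hH'))
    (hO S _ hb (odd_card_of_hall h2 hK')) (hB S)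
  refine ⟨b⁻¹ * g * a, ?_⟩
  have h1 : K = (K.map (MulAut.conj b).toMonoidHom).map (MulAut.conj b⁻¹).toMonoidHom := by
    rw [Subgroup.map_map]
    have : ((MulAut.conj b⁻¹).toMonoidHom.comp (MulAut.conj b).toMonoidHom : G →* G) = MonoidHom.id G := by
      ext x
      show b⁻¹ * (b * x * b⁻¹) * b⁻¹⁻¹ = x
      group
    rw [this, Subgroup.map_id]
  rw [h1, hg, Subgroup.map_map, Subgroup.map_map]
  show Subgroup.map _ H = Subgroup.map (MulAut.conj (b⁻¹ * g * a)).toMonoidHom H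
  congr 1
  ext x
  show b⁻¹ * (g * (a * x * a⁻¹) * g⁻¹) * b⁻¹⁻¹ = (b⁻¹ * g * a) * x * (b⁻¹ * g * a)⁻¹
  group

/-- **Hall `π`-subgroups, `2 ∉ π`, `p ∈ π`, of the groups of Lie type in characteristic `p` are conjugate.** -/
theorem conj_of_lie {p : ℕ} (hp : p.Prime) (hG : IsLieTypeChar p G) {π : Set ℕ} (h2 : 2 ∉ π)
    (hpπ : p ∈ π) {H K : Subgroup G} (hH : Cfsg.IsPiHall π H) (hK : Cfsg.IsPiHall π K) :
    ∃ g : G, K = MulAut.conj g • H := by
  have : Fact p.Prime := ⟨hp⟩
  have hp2 : p ≠ 2 := by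
    rintro rfl
    exact h2 hpπ
  exact conj_of_hall (oddLe_of_lie hp2 hG) (borelSolv_of_lie hp2 hG) h2 hpπ hH hK

end Hall

end Cfsg.Agent.H565.OddBorel
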