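import Mathlib

/-!
# Scott's lemma and Ree's inequality for three elements (helper565)

* `Scott.scott`: if `X * Y * Z = 1` in `End V`, then
  `rk (X - 1) + rk (Y - 1) + rk (Z - 1) ≥ dim V - dim C_V(X, Y) + dim [V, ⟨X, Y⟩]`.
* `Scott.ree`: if `x * y * z = 1` and `⟨x, y⟩ = G` acts on `Ω` with orbit representatives in `B`,
  then `2 (|Ω| - |B|) ≤ rk x + rk y + rk z`.
* `Scott.rk_le`: for an element of prime order `p` with at least `f` fixed points,
  `p * rk x ≤ (p - 1) (|Ω| - f)`.
-/

set_option autoImplicit false

namespace Cfsg.Agent.H565.Scott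

open Module

section Lin

variable {k V : Type*} [Field k] [AddCommGroup V] [Module k V]

/-- The map `v ↦ ((X - 1) v, (Y - 1) v, (Z - 1) v)`. -/
def bet (X Y Z : End k V) : V →ₗ[k] (X - 1).range × (Y - 1).range × (Z - 1).range :=
  (X - 1).rangeRestrict.prod ((Y - 1).rangeRestrict.prod (Z - 1).rangeRestrict)

/-- The map `(a, b, c) ↦ a + X b + X Y c`. -/
def del (X Y Z : End k V) : ((X - 1).range × (Y - 1).range × (Z - 1).range) →ₗ[k] V :=
  (X - 1).range.subtype.coprod
    ((X ∘ₗ (Y - 1).range.subtype).coprod ((X * Y) ∘ₗ (Z - 1).range.subtype))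

theorem del_apply (X Y Z : End k V) (a : (X - 1).range) (b : (Y - 1).range) (c : (Z - 1).range) :
    del X Y Z (a, b, c) = (a : V) + (X (b : V) + X (Y (c : V))) := by
  simp [del]

theorem del_bet {X Y Z : End k V} (h : X * Y * Z = 1) (v : V) : del X Y Z (bet X Y Z v) = 0 := by
  have h1 : bet X Y Z v = (⟨(X - 1) v, LinearMap.mem_range_self _ v⟩,
    ⟨(Y - 1) v, LinearMap.mem_range_self _ v⟩, ⟨(Z - 1) v, LinearMap.mem_range_self _ v⟩) := rfl
  rw [h1, del_apply]
  have h2 : X (Y (Z v)) = v := by
    have := LinearMap.congr_fun h v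
    simpa using this
  simp [h2]

/-- **Scott's lemma for three elements.** -/
theorem scott [FiniteDimensional k V] {X Y Z : End k V} (h : X * Y * Z = 1)
    (F R : Submodule k V) (hF : ∀ v, X v = v → Y v = v → v ∈ F)
    (hR : ∀ S : Submodule k V, (∀ v, X v - v ∈ S) → (∀ v, Y v - v ∈ S) → R ≤ S) :
    finrank k V + finrank k R ≤ finrank k F + (finrank k (X - 1).range +
      (finrank k (Y - 1).range + finrank k (Z - 1).range)) := by
  have h1 : finrank k (bet X Y Z).range + finrank k (bet X Y Z).ker = finrank k V :=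
    LinearMap.finrank_range_add_finrank_ker _
  have h2 : finrank k (del X Y Z).range + finrank k (del X Y Z).ker =
      finrank k (X - 1).range + (finrank k (Y - 1).range + finrank k (Z - 1).range) := by
    rw [LinearMap.finrank_range_add_finrank_ker, finrank_prod, finrank_prod]
  have h3 : finrank k (bet X Y Z).ker ≤ finrank k F := by
    apply Submodule.finrank_mono
    intro v hv
    rw [LinearMap.mem_ker] at hv
    have h4 : ((X - 1) v : V) = 0 := by
      have := congrArg (fun t => (t.1 : V)) hv
      exact this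
    have h5 : ((Y - 1) v : V) = 0 := by
      have := congrArg (fun t => (t.2.1 : V)) hv
      exact this
    refine hF v ?_ ?_
    · rw [LinearMap.sub_apply] at h4
      exact sub_eq_zero.1 h4
    · rw [LinearMap.sub_apply] at h5
      exact sub_eq_zero.1 h5
  have h6 : finrank k (bet X Y Z).range ≤ finrank k (del X Y Z).ker := by
    apply Submodule.finrank_mono
    rintro _ ⟨v, rfl⟩
    rw [LinearMap.mem_ker]
    exact del_bet h v
  have h7 : finrank k R ≤ finrank k (del X Y Z).range := by
    apply Submodule.finrank_mono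
    have hX : ∀ v, X v - v ∈ (del X Y Z).range := by
      intro v
      refine ⟨(⟨(X - 1) v, LinearMap.mem_range_self _ v⟩, 0, 0), ?_⟩
      rw [del_apply]
      simp
    refine hR _ hX fun v => ?_
    have h8 : Y v - v = del X Y Z (0, ⟨(Y - 1) v, LinearMap.mem_range_self _ v⟩, 0) -
        (X (Y v - v) - (Y v - v)) := by
      rw [del_apply]
      simp
    rw [h8]
    exact Submodule.sub_mem _ (LinearMap.mem_range_self _ _) (hX _)
  omega

end Lin

section Perm

variable {G Ω : Type*} [Group G] [MulAction G Ω]

/-- The permutation representation over `ℚ`. -/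
noncomputable def rho (G Ω : Type*) [Group G] [MulAction G Ω] : G →* End ℚ (Ω → ℚ) where
  toFun g := LinearMap.funLeft ℚ ℚ fun w : Ω => g⁻¹ • w
  map_one' := by
    ext f w
    simp [LinearMap.funLeft_apply]
  map_mul' g h := by
    apply LinearMap.ext
    intro f
    funext w
    show f ((g * h)⁻¹ • w) = f (h⁻¹ • g⁻¹ • w)
    rw [mul_inv_rev, mul_smul]

theorem rho_apply (g : G) (f : Ω → ℚ) (w : Ω) : rho G Ω g f w = f (g⁻¹ • w) := rfl

theorem rho_single [DecidableEq Ω] (g : G) (a : Ω) :
    rho G Ω g (Pi.single a 1) = Pi.single (g • a) 1 := by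
  funext w
  rw [rho_apply]
  by_cases h : w = g • a
  · rw [h, inv_smul_smul, Pi.single_eq_same, Pi.single_eq_same]
  · rw [Pi.single_eq_of_ne h, Pi.single_eq_of_ne]
    intro h1
    exact h (by rw [← h1, smul_inv_smul])

/-- The rank of `g - 1` in the permutation representation. -/
noncomputable def rk (Ω : Type*) [MulAction G Ω] (g : G) : ℕ :=
  finrank ℚ (rho G Ω g - 1 : End ℚ (Ω → ℚ)).range

/-- **Ree's inequality for three elements.** -/
theorem ree [Fintype Ω] (B : Finset Ω) (hB : ∀ w : Ω, ∃ b ∈ B, ∃ g : G, g • b = w) {x y z : G}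
    (h : x * y * z = 1) (hgen : Subgroup.closure {x, y} = ⊤) :
    2 * Fintype.card Ω ≤ 2 * B.card + (rk Ω x + (rk Ω y + rk Ω z)) := by
  classical
  have hV : finrank ℚ (Ω → ℚ) = Fintype.card Ω := finrank_fintype_fun_eq_card ℚ
  let ev : (Ω → ℚ) →ₗ[ℚ] (B → ℚ) := LinearMap.funLeft ℚ ℚ fun b : B => (b : Ω)
  let F : Submodule ℚ (Ω → ℚ) :=
    { carrier := {v | ∀ g : G, rho G Ω g v = v}
      add_mem' := fun {a b} ha hb g => by rw [map_add, ha g, hb g]
      zero_mem' := fun g => map_zero _
      smul_mem' := fun c v hv g => by rw [map_smul, hv g] }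
  let R : Submodule ℚ (Ω → ℚ) := Submodule.span ℚ {v | ∃ (g : G) (u : Ω → ℚ), v = rho G Ω g u - u}
  have h1 : rho G Ω x * rho G Ω y * rho G Ω z = 1 := by
    rw [← map_mul, ← map_mul, h, map_one]
  have hs := scott h1 F R (fun v hx hy => ?_) fun S hx hy => ?_
  · have hF : finrank ℚ F ≤ B.card := by
      have h2 : Function.Injective (ev.comp F.subtype) := by
        rw [injective_iff_map_eq_zero]
        intro v hv
        apply Subtype.ext
        funext w
        obtain ⟨b, hb, g, rfl⟩ := hB w
        have h3 := v.2 g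
        have h4 : (v : Ω → ℚ) b = 0 := congrFun hv ⟨b, hb⟩
        have h5 := congrFun h3 (g • b)
        rw [rho_apply, inv_smul_smul] at h5
        rw [← h5, h4]
        rfl
      have h3 := LinearMap.finrank_le_finrank_of_injective h2
      rw [finrank_fintype_fun_eq_card, Fintype.card_coe] at h3
      exact h3
    have hR : Fintype.card Ω ≤ finrank ℚ R + B.card := by
      have h2 : (⊤ : Submodule ℚ (Ω → ℚ)) ≤
          R ⊔ Submodule.span ℚ ((B.image fun b => (Pi.single b (1 : ℚ) : Ω → ℚ) : Finset _) : Set (Ω → ℚ)) := by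
        rw [← (Pi.basisFun ℚ Ω).span_eq, Submodule.span_le]
        rintro _ ⟨w, rfl⟩
        rw [Pi.basisFun_apply]
        obtain ⟨b, hb, g, rfl⟩ := hB w
        rw [← rho_single, ← sub_add_cancel (rho G Ω g (Pi.single b 1)) (Pi.single b 1)]
        refine Submodule.add_mem_sup (Submodule.subset_span ⟨g, _, rfl⟩) (Submodule.subset_span ?_)
        exact Finset.mem_coe.2 (Finset.mem_image_of_mem _ hb)
      have h3 := Submodule.finrank_mono h2
      rw [finrank_top, hV] at h3
      have h4 := Submodule.finrank_add_le_finrank_add_finrank R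
        (Submodule.span ℚ ((B.image fun b => (Pi.single b (1 : ℚ) : Ω → ℚ) : Finset _) : Set (Ω → ℚ)))
      have h5 : finrank ℚ (Submodule.span ℚ ((B.image fun b => (Pi.single b (1 : ℚ) : Ω → ℚ) : Finset _) : Set (Ω → ℚ)))
          ≤ (B.image fun b => (Pi.single b (1 : ℚ) : Ω → ℚ)).card := finrank_span_finset_le_card _
      have h6 : (B.image fun b => (Pi.single b (1 : ℚ) : Ω → ℚ)).card ≤ B.card := Finset.card_image_le
      omega
    unfold rk
    omega
  · let K : Subgroup G :=
      { carrier := {g | rho G Ω g v = v}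
        mul_mem' := fun {a b} ha hb => by
          show rho G Ω (a * b) v = v
          rw [map_mul, Module.End.mul_apply, hb, ha]
        one_mem' := by
          show rho G Ω 1 v = v
          rw [map_one, Module.End.one_apply]
        inv_mem' := fun {a} ha => by
          show rho G Ω a⁻¹ v = v
          have h2 : rho G Ω a v = v := ha
          conv_lhs => rw [← h2]
          rw [← Module.End.mul_apply, ← map_mul, inv_mul_cancel, map_one, Module.End.one_apply] }
    have h2 : Subgroup.closure {x, y} ≤ K := by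
      rw [Subgroup.closure_le]
      rintro g (rfl | hg)
      · exact hx
      · rw [Set.mem_singleton_iff] at hg
        rw [hg]
        exact hy
    rw [hgen] at h2
    intro g
    exact h2 (Subgroup.mem_top g)
  · let K : Subgroup G :=
      { carrier := {g | ∀ v, rho G Ω g v - v ∈ S}
        mul_mem' := fun {a b} ha hb v => by
          rw [map_mul, Module.End.mul_apply, ← sub_add_sub_cancel _ (rho G Ω b v) v]
          exact S.add_mem (ha _) (hb v)
        one_mem' := fun v => by
          rw [map_one, Module.End.one_apply, sub_self]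
          exact S.zero_mem
        inv_mem' := fun {a} ha v => by
          have h2 : rho G Ω a (rho G Ω a⁻¹ v) = v := by
            rw [← Module.End.mul_apply, ← map_mul, mul_inv_cancel, map_one, Module.End.one_apply]
          have h3 := ha (rho G Ω a⁻¹ v)
          rw [h2] at h3
          rw [← neg_sub]
          exact S.neg_mem h3 }
    have h2 : Subgroup.closure {x, y} ≤ K := by
      rw [Subgroup.closure_le]
      rintro g (rfl | hg)
      · exact hx
      · rw [Set.mem_singleton_iff] at hg
        rw [hg]
        exact hy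
    rw [hgen] at h2
    rw [Submodule.span_le]
    rintro _ ⟨g, u, rfl⟩
    exact h2 (Subgroup.mem_top g) u

theorem orb_le [Fintype Ω] (x : G) :
    Nat.card (MulAction.orbitRel.Quotient (Subgroup.zpowers x) Ω) + rk Ω x ≤ Fintype.card Ω := by
  classical
  have h1 := LinearMap.finrank_range_add_finrank_ker (rho G Ω x - 1 : End ℚ (Ω → ℚ))
  rw [finrank_fintype_fun_eq_card] at h1
  have : Finite (MulAction.orbitRel.Quotient (Subgroup.zpowers x) Ω) := Quotient.finite _
  have := Fintype.ofFinite (MulAction.orbitRel.Quotient (Subgroup.zpowers x) Ω)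
  let f : (MulAction.orbitRel.Quotient (Subgroup.zpowers x) Ω → ℚ) →ₗ[ℚ] (Ω → ℚ) :=
    LinearMap.funLeft ℚ ℚ Quotient.mk''
  have hf : Function.Injective f :=
    LinearMap.funLeft_injective_of_surjective ℚ ℚ _ Quotient.mk''_surjective
  have h2 : f.range ≤ (rho G Ω x - 1 : End ℚ (Ω → ℚ)).ker := by
    rintro _ ⟨u, rfl⟩
    rw [LinearMap.mem_ker, LinearMap.sub_apply, Module.End.one_apply, sub_eq_zero]
    funext w
    rw [rho_apply]
    show u (Quotient.mk'' _) = u (Quotient.mk'' _)
    congr 1
    rw [Quotient.eq'']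
    exact ⟨⟨x⁻¹, inv_mem (Subgroup.mem_zpowers x)⟩, rfl⟩
  have h3 := Submodule.finrank_mono h2
  rw [LinearMap.finrank_range_of_inj hf, finrank_fintype_fun_eq_card, ← Nat.card_eq_fintype_card] at h3
  unfold rk
  omega

/-- **The rank of an element of prime order.** -/
theorem rk_le [Fintype Ω] [DecidableEq Ω] {x : G} {p f : ℕ} (hp : p.Prime) (hx : orderOf x = p)
    (hf : f ≤ (Finset.univ.filter fun w : Ω => x • w = w).card) :
    p * rk Ω x + (Fintype.card Ω + (p - 1) * f) ≤ p * Fintype.card Ω := by
  classical
  have h1 := orb_le (Ω := Ω) x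
  have : Finite (Subgroup.zpowers x) := by
    apply Nat.finite_of_card_ne_zero
    rw [Nat.card_zpowers, hx]
    exact hp.ne_zero
  have := Fintype.ofFinite (Subgroup.zpowers x)
  have : Finite (MulAction.orbitRel.Quotient (Subgroup.zpowers x) Ω) := Quotient.finite _
  have := Fintype.ofFinite (MulAction.orbitRel.Quotient (Subgroup.zpowers x) Ω)
  have h2 := MulAction.sum_card_fixedBy_eq_card_orbits_mul_card_group (Subgroup.zpowers x) Ω
  rw [← Nat.card_eq_fintype_card (α := Subgroup.zpowers x), Nat.card_zpowers, hx,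
    ← Nat.card_eq_fintype_card (α := Quotient _)] at h2
  have h3 : Fintype.card Ω + (p - 1) * f ≤
      ∑ a : Subgroup.zpowers x, Fintype.card (MulAction.fixedBy Ω a) := by
    rw [← Finset.add_sum_erase Finset.univ _ (Finset.mem_univ (1 : Subgroup.zpowers x))]
    apply add_le_add
    · apply le_of_eq
      rw [Fintype.card_congr ((Equiv.setCongr (MulAction.fixedBy_one_eq_univ Ω _)).trans
        (Equiv.Set.univ Ω))]
    · have h4 : (Finset.univ.erase (1 : Subgroup.zpowers x)).card = p - 1 := by
        rw [Finset.card_erase_of_mem (Finset.mem_univ _), Finset.card_univ,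
          ← Nat.card_eq_fintype_card, Nat.card_zpowers, hx]
      rw [← h4, ← smul_eq_mul]
      apply Finset.card_nsmul_le_sum
      intro a _
      refine hf.trans ?_
      rw [← Fintype.card_subtype]
      apply Fintype.card_le_of_injective (fun w : {w : Ω // x • w = w} =>
        (⟨w.1, ?_⟩ : MulAction.fixedBy Ω a))
      · intro u v huv
        exact Subtype.ext (congrArg (fun t : MulAction.fixedBy Ω a => (t : Ω)) huv)
      · show (a : G) • w.1 = w.1
        have h5 : Subgroup.zpowers x ≤ MulAction.stabilizer G w.1 := by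
          rw [Subgroup.zpowers_le]
          exact w.2
        exact h5 a.2
  rw [h2] at h3
  have h4 := Nat.mul_le_mul_left p h1
  rw [mul_add, mul_comm p (Nat.card _)] at h4
  have h5 : Nat.card (MulAction.orbitRel.Quotient (Subgroup.zpowers x) Ω) =
    Nat.card (Quotient (MulAction.orbitRel (Subgroup.zpowers x) Ω)) := rfl
  rw [h5] at h4
  omega

end Perm

end Cfsg.Agent.H565.Scott
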