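import Mathlib
import Cfsg.Agent.S0024
import Cfsg.Agent.S0025
import Cfsg.Agent.OddOrderCharacters.Wielandt

/-!
# Coprime action: fixed points in invariant Sylow subgroups, Wielandt's formula without solvability of the group

* `card_sylow_inf_centralizer`: `A` acts coprimely on `K`, `P` an `A`-invariant Sylow `p`-subgroup of `K`. Then `C_P(A)`
  is a Sylow `p`-subgroup of `C_K(A)`.
* `wielandt`: Wielandt's fixed point formula for a solvable group acting coprimely on an arbitrary finite group.
-/

set_option autoImplicit false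

namespace Cfsg.Agent.H565.CopSylow

open Subgroup
open scoped Pointwise

variable {G : Type*} [Group G] [Finite G]

/-- `C_P(A)` is a Sylow subgroup of `C_K(A)`, for an `A`-invariant Sylow subgroup `P` of `K` (coprime action). -/
theorem card_sylow_inf_centralizer (A K : Subgroup G) (hAK : A ≤ normalizer (K : Set G))
    (hcop : (Nat.card A).Coprime (Nat.card K)) (hsolv : Group.IsSolvable A ∨ Group.IsSolvable K)
    (p : ℕ) [Fact p.Prime] (P : Sylow p K)
    (hP : A ≤ normalizer ((P : Subgroup K).map K.subtype : Set G)) :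
    Nat.card ↥((P : Subgroup K).map K.subtype ⊓ centralizer (A : Set G)) =
      p ^ (Nat.card ↥(K ⊓ centralizer (A : Set G))).factorization p := by
  have hp : p.Prime := Fact.out
  set C : Subgroup G := K ⊓ centralizer (A : Set G) with hC
  let Q : Sylow p C := default
  set U : Subgroup G := (Q : Subgroup C).map C.subtype with hU
  have hUC : U ≤ C := Subgroup.map_subtype_le _
  have hUK : U ≤ K := hUC.trans inf_le_left
  have hUp : IsPGroup p U := Q.isPGroup'.map _
  have hAU : A ≤ normalizer (U : Set G) := by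
    intro a ha
    rw [mem_normalizer_iff]
    intro u
    have hcomm : ∀ v ∈ U, a * v * a⁻¹ = v := by
      intro v hv
      have h1 := (mem_centralizer_iff.mp (mem_inf.mp (hUC hv)).2) a ha
      rw [h1]; group
    constructor
    · intro hu
      rw [hcomm u hu]; exact hu
    · intro hu
      have h1 := hcomm _ hu
      have h2 : a * u * a⁻¹ = u := by
        have h3 : a⁻¹ * (a * (a * u * a⁻¹) * a⁻¹) * a = a⁻¹ * (a * u * a⁻¹) * a := by rw [h1]
        have h4 : a⁻¹ * (a * (a * u * a⁻¹) * a⁻¹) * a = a * u * a⁻¹ := by group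
        have h5 : a⁻¹ * (a * u * a⁻¹) * a = u := by group
        rw [h4, h5] at h3
        exact h3
      rw [h2] at hu
      exact hu
  obtain ⟨P', hUP', hAP'⟩ := Cfsg.Agent.S0025.result A K hAK hcop hsolv p U hUK hUp hAU
  obtain ⟨c, hcA, hc⟩ := Cfsg.Agent.S0024.result A K hAK hcop hsolv p P' P hAP' hP
  have hcardU : Nat.card U = p ^ (Nat.card C).factorization p := by
    rw [hU, Nat.card_congr ((Q : Subgroup C).equivMapOfInjective C.subtype C.subtype_injective).toEquiv.symm]
    exact Q.card_eq_multiplicity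
  have hle : MulAut.conj (c : G) • U ≤ (P : Subgroup K).map K.subtype ⊓ centralizer (A : Set G) := by
    intro x hx
    rw [Subgroup.mem_smul_pointwise_iff_exists] at hx
    obtain ⟨u, hu, rfl⟩ := hx
    refine mem_inf.mpr ⟨?_, ?_⟩
    · rw [← hc]
      have h3 : ((MulAut.conj c • P' : Sylow p K) : Subgroup K) = MulAut.conj c • (P' : Subgroup K) := rfl
      rw [h3, Cfsg.Agent.S0024.map_conj_smul]
      exact Subgroup.smul_mem_pointwise_smul _ _ _ (hUP' hu)
    · have h1 := (mem_inf.mp (hUC hu)).2
      show (c : G) * u * (c : G)⁻¹ ∈ _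
      exact mul_mem (mul_mem hcA h1) (inv_mem hcA)
  have hpg : IsPGroup p ↥((P : Subgroup K).map K.subtype ⊓ centralizer (A : Set G)) :=
    (P.isPGroup'.map K.subtype).to_le inf_le_left
  obtain ⟨n, hn⟩ := hpg.exists_card_eq
  have h1 : Nat.card ↥((P : Subgroup K).map K.subtype ⊓ centralizer (A : Set G)) ∣ Nat.card C :=
    Subgroup.card_dvd_of_le (inf_le_inf_right _ (Subgroup.map_subtype_le _))
  apply le_antisymm
  · rw [hn] at h1 ⊢
    exact Nat.pow_le_pow_right hp.pos ((hp.pow_dvd_iff_le_factorization Nat.card_pos.ne').mp h1)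
  · rw [← hcardU]
    calc Nat.card U = Nat.card ↥(MulAut.conj (c : G) • U) :=
          (Nat.card_congr (Subgroup.equivSMul (MulAut.conj (c : G)) U).toEquiv)
      _ ≤ _ := Subgroup.card_le_of_le hle

theorem factorization_prod_card (H : Subgroup G) {I : Type*} [Fintype I] (Z : I → Subgroup G) (p : ℕ) :
    (∏ i, Nat.card ↥(H ⊓ centralizer (Z i : Set G)) ^ Nat.card (Z i)).factorization p =
      ∑ i, Nat.card (Z i) * (Nat.card ↥(H ⊓ centralizer (Z i : Set G))).factorization p := by
  rw [Nat.factorization_prod_apply (fun i _ => pow_ne_zero _ Nat.card_pos.ne')]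
  refine Finset.sum_congr rfl fun i _ => ?_
  rw [Nat.factorization_pow]
  rfl

/-- **Wielandt's fixed point formula** for a solvable group `F` acting coprimely on an arbitrary finite group `H`. -/
theorem wielandt (F H : Subgroup G)
    (hFH : F ≤ normalizer (H : Set G)) (hcop : (Nat.card F).Coprime (Nat.card H))
    (hsolv : Group.IsSolvable F)
    {I J : Type*} [Fintype I] [Fintype J] (X : I → Subgroup G) (Y : J → Subgroup G)
    (hX : ∀ i, X i ≤ F) (hY : ∀ j, Y j ≤ F)
    (hXY : ∀ f : G, Nat.card {i // f ∈ X i} = Nat.card {j // f ∈ Y j}) :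
    ∏ i, Nat.card ↥(H ⊓ centralizer (X i : Set G)) ^ Nat.card (X i) =
      ∏ j, Nat.card ↥(H ⊓ centralizer (Y j : Set G)) ^ Nat.card (Y j) := by
  have hne : ∀ Z : Subgroup G, Nat.card ↥(H ⊓ centralizer (Z : Set G)) ^ Nat.card Z ≠ 0 := fun Z =>
    pow_ne_zero _ Nat.card_pos.ne'
  apply Nat.eq_of_factorization_eq (Finset.prod_ne_zero_iff.mpr fun i _ => hne _)
    (Finset.prod_ne_zero_iff.mpr fun i _ => hne _)
  intro p
  by_cases hp : p.Prime
  swap
  · rw [Nat.factorization_eq_zero_of_not_prime _ hp, Nat.factorization_eq_zero_of_not_prime _ hp]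
  have : Fact p.Prime := ⟨hp⟩
  have hAbot : F ≤ normalizer ((⊥ : Subgroup G) : Set G) := by
    rw [Subgroup.normalizer_eq_top (H := (⊥ : Subgroup G))]; exact le_top
  obtain ⟨P, -, hP⟩ := Cfsg.Agent.S0025.result F H hFH hcop (Or.inl hsolv) p ⊥ bot_le (IsPGroup.of_bot) hAbot
  set R : Subgroup G := (P : Subgroup H).map H.subtype with hR
  have hRH : R ≤ H := Subgroup.map_subtype_le _
  have hRp : IsPGroup p R := P.isPGroup'.map _
  have hcard : ∀ Z ≤ F, Nat.card ↥(R ⊓ centralizer (Z : Set G)) =
      p ^ (Nat.card ↥(H ⊓ centralizer (Z : Set G))).factorization p := by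
    intro Z hZ
    exact card_sylow_inf_centralizer Z H (hZ.trans hFH)
      (Nat.Coprime.coprime_dvd_left (Subgroup.card_dvd_of_le hZ) hcop)
      (Or.inl (Group.isSolvable_of_isSolvable_injective (f := Subgroup.inclusion hZ) (Subgroup.inclusion_injective hZ)))
      p P (hZ.trans hP)
  have hRs : Group.IsSolvable R := by
    have := hRp.isNilpotent
    infer_instance
  have hW := Cfsg.Agent.OddOrderCharacters.Wielandt.wielandt F R hP
    (Nat.Coprime.coprime_dvd_right (Subgroup.card_dvd_of_le hRH) hcop) hRs X Y hX hY hXY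
  have e1 : ∏ i, Nat.card ↥(R ⊓ centralizer (X i : Set G)) ^ Nat.card (X i) =
      p ^ (∑ i, Nat.card (X i) * (Nat.card ↥(H ⊓ centralizer (X i : Set G))).factorization p) := by
    rw [← Finset.prod_pow_eq_pow_sum]
    refine Finset.prod_congr rfl fun i _ => ?_
    rw [hcard _ (hX i), ← pow_mul, mul_comm]
  have e2 : ∏ j, Nat.card ↥(R ⊓ centralizer (Y j : Set G)) ^ Nat.card (Y j) =
      p ^ (∑ j, Nat.card (Y j) * (Nat.card ↥(H ⊓ centralizer (Y j : Set G))).factorization p) := by
    rw [← Finset.prod_pow_eq_pow_sum]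
    refine Finset.prod_congr rfl fun i _ => ?_
    rw [hcard _ (hY i), ← pow_mul, mul_comm]
  rw [e1, e2] at hW
  have hexp := Nat.pow_right_injective hp.two_le hW
  rw [factorization_prod_card, factorization_prod_card]
  exact hexp

end Cfsg.Agent.H565.CopSylow
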