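import Mathlib
import Cfsg.Agent.H565.CopSylow

/-!
# Coprime action of an elementary abelian group of order `q²`: bounding an index by the indices of fixed points

`relIndex_le`: `F` elementary abelian of order `q²` acts coprimely on `K` and normalises `D ≤ K`; if
`|C_K(f) : C_D(f)| ≤ m` for `1 ≠ f ∈ F` then `|K : D| ≤ m ^ (q ^ 3)`. (Brauer–Wielandt formula.)
-/

set_option autoImplicit false

namespace Cfsg.Agent.H565.RankTwo

open Subgroup
open scoped Pointwise

variable {G : Type*} [Group G] [Finite G]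

/-- The Brauer–Wielandt formula for an elementary abelian group of order `q²`, in a redundant form. -/
theorem brauer_wielandt {q : ℕ} (hq : q.Prime) (F H : Subgroup G)
    (hFH : F ≤ normalizer (H : Set G)) (hF : Nat.card F = q ^ 2) (hFab : ∀ a ∈ F, ∀ b ∈ F, a * b = b * a)
    (hFexp : ∀ a ∈ F, a ^ q = 1) (hcop : ¬ q ∣ Nat.card H) [Fintype {f : G // f ∈ F ∧ f ≠ 1}] :
    ∏ f : {f : G // f ∈ F ∧ f ≠ 1}, Nat.card ↥(H ⊓ centralizer ({f.1} : Set G)) ^ q =
      Nat.card ↥(H ⊓ centralizer (F : Set G)) ^ (q ^ 2 * (q - 1)) * Nat.card H ^ (q ^ 2 - q) := by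
  classical
  haveI : Fact q.Prime := ⟨hq⟩
  have hcop' : (Nat.card F).Coprime (Nat.card H) := by
    rw [hF]
    exact Nat.Coprime.pow_left _ ((Nat.Prime.coprime_iff_not_dvd hq).mpr hcop)
  have hsolv : Group.IsSolvable F := by
    have h1 : IsPGroup q F := IsPGroup.of_card hF
    have := h1.isNilpotent
    infer_instance
  have hord : ∀ f ∈ F, f ≠ 1 → Nat.card (zpowers f) = q := by
    intro f hf hf1
    rw [Nat.card_zpowers]
    exact orderOf_eq_prime (hFexp f hf) hf1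
  have hq2 : 2 ≤ q := hq.two_le
  have hqq : q ≤ q ^ 2 := by nlinarith
  let X : {f : G // f ∈ F ∧ f ≠ 1} → Subgroup G := fun f => zpowers f.1
  let Y : Fin (q - 1) ⊕ Fin (q ^ 2 - q) → Subgroup G := Sum.elim (fun _ => F) (fun _ => ⊥)
  have hcard1 : Nat.card {f : G // f ∈ F ∧ f ≠ 1} = q ^ 2 - 1 := by
    have h1 : Nat.card {f : F // f ≠ 1} = q ^ 2 - 1 := by
      haveI := Fintype.ofFinite F
      rw [← hF, Nat.card_eq_fintype_card, Nat.card_eq_fintype_card, Fintype.card_subtype_compl]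
      simp
    rw [← h1]
    refine Nat.card_congr ⟨fun f => ⟨⟨f.1, f.2.1⟩, fun h => f.2.2 (congrArg Subtype.val h)⟩,
      fun f => ⟨f.1.1, f.1.2, fun h => f.2 (Subtype.ext h)⟩, fun _ => rfl, fun _ => rfl⟩
  have hXY : ∀ g : G, Nat.card {i // g ∈ X i} = Nat.card {j // g ∈ Y j} := by
    intro g
    have hY : Nat.card {j // g ∈ Y j} = Nat.card {j : Fin (q - 1) // g ∈ F} +
        Nat.card {j : Fin (q ^ 2 - q) // g ∈ (⊥ : Subgroup G)} := by
      rw [← Nat.card_sum]
      exact Nat.card_congr Equiv.subtypeSum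
    rw [hY]
    by_cases hg : g ∈ F
    · by_cases hg1 : g = 1
      · subst hg1
        have h1 : Nat.card {i // (1 : G) ∈ X i} = Nat.card {f : G // f ∈ F ∧ f ≠ 1} :=
          Nat.card_congr (Equiv.subtypeUnivEquiv fun i => one_mem _)
        have h2 : Nat.card {j : Fin (q - 1) // (1 : G) ∈ F} = q - 1 := by
          rw [Nat.card_congr (Equiv.subtypeUnivEquiv fun i => hg)]; simp
        have h3 : Nat.card {j : Fin (q ^ 2 - q) // (1 : G) ∈ (⊥ : Subgroup G)} = q ^ 2 - q := by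
          rw [Nat.card_congr (Equiv.subtypeUnivEquiv fun i => one_mem _)]; simp
        rw [h1, h2, h3, hcard1]
        omega
      · have h2 : Nat.card {j : Fin (q - 1) // g ∈ F} = q - 1 := by
          rw [Nat.card_congr (Equiv.subtypeUnivEquiv fun i => hg)]; simp
        have h3 : Nat.card {j : Fin (q ^ 2 - q) // g ∈ (⊥ : Subgroup G)} = 0 := by
          haveI : IsEmpty {j : Fin (q ^ 2 - q) // g ∈ (⊥ : Subgroup G)} := ⟨fun j => hg1 (mem_bot.mp j.2)⟩
          exact Nat.card_of_isEmpty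
        rw [h2, h3, add_zero]
        -- `g ∈ ⟨f⟩` iff `f ∈ ⟨g⟩`
        have hsw : ∀ a b : G, a ∈ F → b ∈ F → a ≠ 1 → b ≠ 1 → a ∈ zpowers b → b ∈ zpowers a := by
          intro a b ha hb ha1 hb1 hab
          have hle : zpowers a ≤ zpowers b := zpowers_le.mpr hab
          have : zpowers a = zpowers b := Subgroup.eq_of_le_of_card_ge hle (by rw [hord a ha ha1, hord b hb hb1])
          rw [this]; exact mem_zpowers b
        have h4 : Nat.card {i // g ∈ X i} = Nat.card {f : zpowers g // f ≠ 1} := by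
          refine Nat.card_congr ⟨fun f => ⟨⟨f.1.1, hsw g f.1.1 hg f.1.2.1 hg1 f.1.2.2 f.2⟩,
            fun h => f.1.2.2 (congrArg Subtype.val h)⟩,
            fun f => ⟨⟨f.1.1, ?_, fun h => f.2 (Subtype.ext h)⟩, ?_⟩, fun _ => rfl, fun _ => rfl⟩
          · exact (zpowers_le.mpr hg) f.1.2
          · exact hsw f.1.1 g ((zpowers_le.mpr hg) f.1.2) hg (fun h => f.2 (Subtype.ext h)) hg1 f.1.2
        rw [h4]
        have h5 : Nat.card (zpowers g) = q := hord g hg hg1
        haveI := Fintype.ofFinite (zpowers g)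
        rw [Nat.card_eq_fintype_card, Fintype.card_subtype_compl, ← Nat.card_eq_fintype_card, h5]
        simp
    · have h1 : Nat.card {i // g ∈ X i} = 0 := by
        haveI : IsEmpty {i // g ∈ X i} := ⟨fun i => hg ((zpowers_le.mpr i.1.2.1) i.2)⟩
        exact Nat.card_of_isEmpty
      have h2 : Nat.card {j : Fin (q - 1) // g ∈ F} = 0 := by
        haveI : IsEmpty {j : Fin (q - 1) // g ∈ F} := ⟨fun j => hg j.2⟩
        exact Nat.card_of_isEmpty
      have h3 : Nat.card {j : Fin (q ^ 2 - q) // g ∈ (⊥ : Subgroup G)} = 0 := by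
        haveI : IsEmpty {j : Fin (q ^ 2 - q) // g ∈ (⊥ : Subgroup G)} :=
          ⟨fun j => hg (by rw [mem_bot.mp j.2]; exact F.one_mem)⟩
        exact Nat.card_of_isEmpty
      rw [h1, h2, h3]
  have hW := CopSylow.wielandt F H hFH hcop' hsolv X Y (fun i => zpowers_le.mpr i.2.1) (by
    rintro (j | j)
    · exact le_rfl
    · exact bot_le) hXY
  have hL : ∏ i, Nat.card ↥(H ⊓ centralizer (X i : Set G)) ^ Nat.card (X i) =
      ∏ f : {f : G // f ∈ F ∧ f ≠ 1}, Nat.card ↥(H ⊓ centralizer ({f.1} : Set G)) ^ q := by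
    refine Finset.prod_congr rfl fun f _ => ?_
    have h1 : Nat.card (X f) = q := hord f.1 f.2.1 f.2.2
    have h2 : centralizer (X f : Set G) = centralizer ({f.1} : Set G) := by
      show centralizer ((zpowers f.1 : Subgroup G) : Set G) = _
      rw [zpowers_eq_closure, centralizer_closure]
    rw [h1, h2]
  have hR : ∏ j, Nat.card ↥(H ⊓ centralizer (Y j : Set G)) ^ Nat.card (Y j) =
      Nat.card ↥(H ⊓ centralizer (F : Set G)) ^ (q ^ 2 * (q - 1)) * Nat.card H ^ (q ^ 2 - q) := by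
    rw [Fintype.prod_sum_type]
    have h1 : ∀ j : Fin (q - 1), Y (Sum.inl j) = F := fun _ => rfl
    have h2 : ∀ j : Fin (q ^ 2 - q), Y (Sum.inr j) = ⊥ := fun _ => rfl
    have h3 : H ⊓ centralizer ((⊥ : Subgroup G) : Set G) = H := by
      rw [inf_eq_left]
      intro x _
      rw [mem_centralizer_iff]
      intro y hy
      rw [SetLike.mem_coe, mem_bot] at hy
      rw [hy]; simp
    simp only [h1, h2, h3, hF, Finset.prod_const, Finset.card_univ, Fintype.card_fin, Subgroup.card_bot, pow_one,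
      ← pow_mul]
  rw [← hL, ← hR]
  exact hW

/-- An index is bounded by the indices of the fixed points of the elements of a group of order `q²`. -/
theorem relIndex_le {q m : ℕ} (hq : q.Prime) (F K D : Subgroup G)
    (hFK : F ≤ normalizer (K : Set G)) (hFD : F ≤ normalizer (D : Set G)) (hDK : D ≤ K)
    (hF : Nat.card F = q ^ 2) (hFab : ∀ a ∈ F, ∀ b ∈ F, a * b = b * a)
    (hFexp : ∀ a ∈ F, a ^ q = 1) (hcop : ¬ q ∣ Nat.card K)
    (hm : ∀ f ∈ F, f ≠ 1 → (D ⊓ centralizer ({f} : Set G)).relIndex (K ⊓ centralizer ({f} : Set G)) ≤ m) :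
    D.relIndex K ≤ m ^ q ^ 3 := by
  classical
  haveI : Fintype {f : G // f ∈ F ∧ f ≠ 1} := Fintype.ofFinite _
  have hcopD : ¬ q ∣ Nat.card D := fun h => hcop (h.trans (Subgroup.card_dvd_of_le hDK))
  have h1 := brauer_wielandt hq F K hFK hF hFab hFexp hcop
  have h2 := brauer_wielandt hq F D hFD hF hFab hFexp hcopD
  have hq2 : 2 ≤ q := hq.two_le
  have hmul : ∀ A B : Subgroup G, A ≤ B → Nat.card B = Nat.card A * A.relIndex B := by
    intro A B hAB
    rw [← relIndex_bot_left, ← relIndex_bot_left]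
    exact (relIndex_mul_relIndex ⊥ A B bot_le hAB).symm
  set x : {f : G // f ∈ F ∧ f ≠ 1} → ℕ := fun f =>
    (D ⊓ centralizer ({f.1} : Set G)).relIndex (K ⊓ centralizer ({f.1} : Set G)) with hx
  set z : ℕ := (D ⊓ centralizer (F : Set G)).relIndex (K ⊓ centralizer (F : Set G)) with hz
  have e1 : ∏ f : {f : G // f ∈ F ∧ f ≠ 1}, Nat.card ↥(K ⊓ centralizer ({f.1} : Set G)) ^ q =
      (∏ f : {f : G // f ∈ F ∧ f ≠ 1}, Nat.card ↥(D ⊓ centralizer ({f.1} : Set G)) ^ q) * ∏ f, x f ^ q := by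
    rw [← Finset.prod_mul_distrib]
    refine Finset.prod_congr rfl fun f _ => ?_
    rw [← mul_pow, hmul _ _ (inf_le_inf_right (centralizer ({f.1} : Set G)) hDK)]
  rw [e1, h2, hmul _ _ (inf_le_inf_right (centralizer (F : Set G)) hDK), hmul _ _ hDK, mul_pow, mul_pow] at h1
  have hpos : 0 < Nat.card ↥(D ⊓ centralizer (F : Set G)) ^ (q ^ 2 * (q - 1)) * Nat.card D ^ (q ^ 2 - q) := by
    positivity [Nat.card_pos (α := ↥(D ⊓ centralizer (F : Set G))), Nat.card_pos (α := D)]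
  have h3 : ∏ f, x f ^ q = z ^ (q ^ 2 * (q - 1)) * D.relIndex K ^ (q ^ 2 - q) := by
    apply Nat.eq_of_mul_eq_mul_left hpos
    rw [h1]
    ring
  have hri : ∀ A B : Subgroup G, 1 ≤ A.relIndex B := fun A B =>
    Nat.one_le_iff_ne_zero.mpr (by rw [relIndex]; exact index_ne_zero_of_finite)
  have hz1 : 1 ≤ z := hri _ _
  have hd1 : 1 ≤ D.relIndex K := hri _ _
  have hq3 : 1 ≤ q ^ 2 - q := by
    have : q * 2 ≤ q * q := Nat.mul_le_mul_left _ hq2
    rw [pow_two]; omega
  have hcard1 : Fintype.card {f : G // f ∈ F ∧ f ≠ 1} ≤ q ^ 2 := by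
    rw [← hF, ← Nat.card_eq_fintype_card]
    exact Nat.card_le_card_of_injective (fun f : {f : G // f ∈ F ∧ f ≠ 1} => (⟨f.1, f.2.1⟩ : F))
      (fun a b h => Subtype.ext (by simpa using h))
  have hm1 : 1 ≤ m := by
    have hnt : ∃ f ∈ F, f ≠ 1 := by
      by_contra hcon
      push Not at hcon
      have : F = ⊥ := by
        rw [eq_bot_iff]; intro f hf; exact mem_bot.mpr (hcon f hf)
      rw [this, Subgroup.card_bot] at hF
      have : 2 ^ 2 ≤ q ^ 2 := Nat.pow_le_pow_left hq2 2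
      omega
    obtain ⟨f, hf, hf1⟩ := hnt
    exact le_trans (hri _ _) (hm f hf hf1)
  calc D.relIndex K = D.relIndex K ^ 1 := (pow_one _).symm
    _ ≤ D.relIndex K ^ (q ^ 2 - q) := Nat.pow_le_pow_right hd1 hq3
    _ ≤ z ^ (q ^ 2 * (q - 1)) * D.relIndex K ^ (q ^ 2 - q) :=
        Nat.le_mul_of_pos_left _ (Nat.pow_pos hz1)
    _ = ∏ f, x f ^ q := h3.symm
    _ ≤ ∏ _f : {f : G // f ∈ F ∧ f ≠ 1}, m ^ q :=
        Finset.prod_le_prod' fun f _ => Nat.pow_le_pow_left (hm f.1 f.2.1 f.2.2) q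
    _ = (m ^ q) ^ Fintype.card {f : G // f ∈ F ∧ f ≠ 1} := by simp
    _ ≤ (m ^ q) ^ (q ^ 2) := Nat.pow_le_pow_right (Nat.pow_pos hm1) hcard1
    _ = m ^ q ^ 3 := by rw [← pow_mul]; ring_nf

end Cfsg.Agent.H565.RankTwo
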