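import Cfsg.Agent.H565.NoMinExc
import Cfsg.Agent.H565.OddBorel
import Cfsg.Agent.H553.OddHall

/-!
# Conjugacy of Hall subgroups of odd order in the small exceptional groups of Lie type

* `pairN_of_noMin` : `NoMin s t G` implies `PairN t s G`, `s`, `t` odd primes;
* `oddC_of_lie` : `OddC G` for a group of Lie type from `NoMin`;
* `oddC_isoG2`, `oddC_iso3D4`, `oddC_iso2F4`, `oddC_isoTits`, `oddC_isoSuzuki`, `oddC_isoRee`.
-/

set_option autoImplicit false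

namespace Cfsg.Agent.H565.NM

open Subgroup Cfsg Cfsg.Lie Cfsg.Agent.H553.OddHall

universe u

theorem pairN_of_noMin {G : Type*} [Group G] [Finite G] {s t : ℕ} (hs : s.Prime) (ht : t.Prime) (hs2 : s ≠ 2)
    (ht2 : t ≠ 2) (hst : s ≠ t) (h : NoMin s t G) : PairN t s G := by
  intro X hX
  refine ns_of_noMin hs ht hst (solvable_of_pi (π := ({s, t} : Set ℕ)) ?_ hX.1) (fun r hr hrd => ?_) (h.subgroup X)
  · rintro (h | h)
    · exact hs2 h.symm
    · exact ht2 h.symm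
  · rcases hX.1 r hr hrd with h | h
    · exact Or.inl h
    · exact Or.inr h

/-- **`OddC` for a group of Lie type from `NoMin`.** -/
theorem oddC_of_lie {G : Type u} [Group G] [Finite G] {p : ℕ} (hp : p.Prime) (hG : IsLieTypeChar p G)
    (h : ∀ s t : ℕ, s.Prime → t.Prime → s ≠ p → 2 < s → s < t → NoMin s t G) : OddC G :=
  oddC_of_char p (fun π h2 hpπ H K hH hK => OddBorel.conj_of_lie hp hG h2 hpπ hH hK)
    fun s t hs ht hsp _ h3 hst _ _ => pairN_of_noMin hs ht (by omega) (by omega) hst.ne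
      (h s t hs ht hsp h3 hst)

/-- without a characteristic -/
theorem oddC_of_noMin {G : Type u} [Group G] [Finite G]
    (h : ∀ s t : ℕ, s.Prime → t.Prime → 2 < s → s < t → NoMin s t G) : OddC G :=
  oddC_of_pairs fun s t hs ht h3 hst _ _ => pairN_of_noMin hs ht (by omega) (by omega) hst.ne (h s t hs ht h3 hst)

theorem cast_ne_zero_of_char {F : Type*} [Field F] {p s : ℕ} [CharP F p] (hp : p.Prime) (hs : s.Prime) (hsp : s ≠ p) :
    (s : F) ≠ 0 := fun h =>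
  hsp ((Nat.prime_dvd_prime_iff_eq hp hs).1 ((CharP.cast_eq_zero_iff F p s).1 h)).symm

variable {G : Type u} [Group G] [Finite G]

theorem oddC_isoG2 (h : Lie.IsoChevG2 G) : OddC G := by
  obtain ⟨F, iF, iFt, hF, ⟨e⟩⟩ := h
  obtain ⟨p, hp'⟩ := CharP.exists F
  have hp : p.Prime := CharP.char_is_prime F p
  refine oddC_of_lie hp (p := p) ?_ fun s t hs _ hsp hs2 hst =>
    (noMin_g2 (F := F) (cast_ne_zero_of_char hp hs hsp) hs2 hst).of_equiv e
  exact Or.inr <| Or.inr <| Or.inr <| Or.inr <| Or.inr <| Or.inr <| Or.inl ⟨F, iF, iFt, hp', Or.inl ⟨hF, ⟨e⟩⟩⟩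

theorem oddC_iso3D4 (h : Lie.Iso3D4 G) : OddC G := by
  obtain ⟨F, iF, iFt, q, hq, hF, ⟨e⟩⟩ := h
  obtain ⟨p, hp'⟩ := CharP.exists F
  have hp : p.Prime := CharP.char_is_prime F p
  refine oddC_of_lie hp (p := p) ?_ fun s t hs _ hsp hs2 hst =>
    (noMin_3D4 (K := F) hq (cast_ne_zero_of_char hp hs hsp) hs2 hst hF).of_equiv e
  exact Or.inr <| Or.inr <| Or.inr <| Or.inr <| Or.inr <| Or.inr <| Or.inr <| Or.inl
    ⟨F, iF, iFt, hp', q, hq, Or.inr ⟨hF, ⟨e⟩⟩⟩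

theorem oddC_iso2F4 (h : Lie.Iso2F4 G) : OddC G :=
  oddC_of_noMin fun _ _ _ _ hs2 hst => noMin_iso2F4 hs2 hst h

theorem oddC_isoTits (h : Lie.IsoTits G) : OddC G :=
  oddC_of_noMin fun _ _ _ _ hs2 hst => noMin_isoTits hs2 hst h

theorem oddC_isoSuzuki (h : Lie.IsoSuzuki G) : OddC G :=
  oddC_of_noMin fun _ _ _ _ hs2 hst => noMin_isoSuzuki hs2 hst h

theorem oddC_isoRee (h : Lie.IsoRee G) : OddC G :=
  oddC_of_lie Nat.prime_three (p := 3)
    (Or.inr <| Or.inr <| Or.inr <| Or.inr <| Or.inr <| Or.inr <| Or.inr <| Or.inr <| Or.inr <| Or.inr ⟨rfl, h⟩)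
    fun _ _ _ _ hs3 hs2 hst => noMin_isoRee hs2 hst h hs3

end Cfsg.Agent.H565.NM
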