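import Cfsg.Agent.H572.ExcC

/-!
# The number of torus elements of a finite group of Lie type from characters

`card_dvd_TG` : an injective family `A →+ (L →+ ZMod N)` of homomorphisms `c` with `c (θ x) = q c x` gives
`|A| ∣ |TG κ|`.
* `le_im` : all elements of the Weyl group commuting with `θ` are represented, if all fixed points of `τ` are in `G`.
-/

set_option autoImplicit false
set_option linter.unusedSectionVars false

namespace Cfsg.Agent.H565.CharCnt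

open CoxeterSystem Cfsg Cfsg.Lie Cfsg.Lie.ChevalleyDatum
open Cfsg.Agent.ChevalleyStructure Cfsg.Agent.ChevalleyStructure.Elts Cfsg.Agent.ChevalleyStructure.CoxeterGeom
  Cfsg.Agent.ChevalleyStructure.CoxeterGeomTypes Cfsg.Agent.ChevalleyStructure.NPerm
open Cfsg.Agent.Tits.Roots Cfsg.Agent.Tits.Core Cfsg.Agent.Nodes Cfsg.Agent.Nodes.Reps Cfsg.Agent.Nodes.BNOf
  Cfsg.Agent.Nodes.RGDChev Cfsg.Agent.Nodes.Bruhat
open Cfsg.Agent.KFacts.RgdField Cfsg.Agent.KFacts.RgdChevCoord Cfsg.Agent.BpExc.TorCent Cfsg.Agent.BpExc.TorChev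
open Cfsg.Agent.GpExc.Field Cfsg.Agent.BpExc.Tow Cfsg.Agent.BpExc.TowChev Cfsg.Agent.BpExc.Fr
  Cfsg.Agent.BpExc.LangFr Cfsg.Agent.H129.TorusChar Cfsg.Agent.H129.TorusMain Cfsg.Agent.H123.ExcZ
open Cfsg.Agent.BpExc Cfsg.Agent.H795.LangT Cfsg.Agent.H795.Core Cfsg.Agent.H795.NotAbT
open Cfsg.Agent.H572.ExcA Cfsg.Agent.H572.ExcB Cfsg.Agent.H572.ExcC Cfsg.Agent.H572.LatForm
open Subgroup

universe u v

variable {D : ChevalleyDatum} {l : ℕ} {M : CoxeterMatrix (Fin l)} {hp : IsType D l M}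
  {k : Type u} [Field k] [IsAlgClosed k] {hk : LocFin k} {r : ℕ} [Fact r.Prime] [CharP k r]
  {G : Type v} [Group G] {κ : G →* ↥(D.group k)} {e : ℕ} {τ : MulAut ↥(D.group k)} {θ : (Fin l → ℤ) ≃+ (Fin l → ℤ)}

theorem pow_val_add {N : ℕ} [NeZero N] {ζ : k} (hζ : IsPrimitiveRoot ζ N) (x y : ZMod N) :
    ζ ^ (x + y).val = ζ ^ x.val * ζ ^ y.val := by
  rw [← pow_add, ZMod.val_add]
  exact (pow_eq_pow_mod _ hζ.pow_eq_one).symm

theorem pow_val_inj' {N : ℕ} [NeZero N] {ζ : k} (hζ : IsPrimitiveRoot ζ N) {a b : ZMod N}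
    (h : ζ ^ a.val = ζ ^ b.val) : a = b :=
  ZMod.val_injective N (hζ.pow_inj (ZMod.val_lt a) (ZMod.val_lt b) h)

theorem pow_val_mul' {N : ℕ} [NeZero N] {ζ : k} (hζ : IsPrimitiveRoot ζ N) (n : ℕ) (a : ZMod N) :
    ζ ^ ((n : ZMod N) * a).val = (ζ ^ a.val) ^ n := by
  rw [← pow_mul, ZMod.val_mul, ZMod.val_natCast, mul_comm a.val n, pow_eq_pow_mod _ hζ.pow_eq_one,
    pow_eq_pow_mod (n * a.val) hζ.pow_eq_one]
  congr 1
  rw [Nat.mod_mod, Nat.mod_mul_mod]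

/-- a torus element fixed by `τ` with given characters -/
theorem exists_tor_fix (hp : IsType D l M) {d : ℕ} {Bi : Fin l → Fin l → ℤ} (hB : InvC D l d Bi) (hd : d ≠ 0)
    (hτ : IsFrob r e τ) (F : Fr M.toCoxeterSystem hp.isCartan (TT D k) (XX D l k) τ θ) {N : ℕ} [NeZero N] {ζ : k}
    (hζ : IsPrimitiveRoot ζ N) (c : (Fin l → ℤ) →+ ZMod N) (hc : ∀ x, c (θ x) = ((r ^ e : ℕ) : ZMod N) * c x) :
    ∃ t ∈ TT D k, (∀ x, cX hp t x = ζ ^ (c x).val) ∧ t ^ N = 1 ∧ τ t = t := by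
  obtain ⟨t, ht, hct⟩ : ∃ t ∈ TT D k, ∀ x, cX hp t x = ζ ^ (c x).val :=
    exists_cX hp hB hd (φ := fun x => ζ ^ (c x).val)
      ⟨by show ζ ^ (c 0).val = 1; rw [map_zero, ZMod.val_zero, pow_zero], fun x y => by
        show ζ ^ (c (x + y)).val = ζ ^ (c x).val * ζ ^ (c y).val
        rw [map_add, pow_val_add hζ]⟩ (fun i => IsAlgClosed.exists_pow_nat_eq _ (Nat.pos_of_ne_zero hd))
  refine ⟨t, ht, hct, ?_, ?_⟩
  · refine cX_inj hp (pow_mem ht N) (one_mem _) fun i => ?_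
    rw [cX_pow hp ht, hct, cX_one, ← pow_mul, mul_comm, pow_mul, hζ.pow_eq_one, one_pow]
  · have hτt : τ t ∈ TT D k := (F.tor t).2 ht
    refine cX_inj hp hτt ht fun i => ?_
    obtain ⟨x, hx⟩ := θ.surjective (sr i)
    rw [← hx, cX_sigma hp M.toCoxeterSystem hτ F ht, hct, hct, ← pow_val_mul' hζ]
    congr 2
    exact (hc x).symm

/-- **the torus elements from characters** -/
theorem card_dvd_TG (hp : IsType D l M) {d : ℕ} {Bi : Fin l → Fin l → ℤ} (hB : InvC D l d Bi) (hd : d ≠ 0)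
    (hinj : Function.Injective κ)
    (hτ : IsFrob r e τ) (F : Fr M.toCoxeterSystem hp.isCartan (TT D k) (XX D l k) τ θ) {N : ℕ} [NeZero N] {ζ : k}
    (hζ : IsPrimitiveRoot ζ N) (hmem : ∀ t ∈ TT D k, τ t = t → t ^ N = 1 → ∃ x, κ x = t)
    {A : Type*} [AddCommGroup A] (Ψ : A →+ ((Fin l → ℤ) →+ ZMod N)) (hΨ : Function.Injective Ψ)
    (hc : ∀ a x, Ψ a (θ x) = ((r ^ e : ℕ) : ZMod N) * Ψ a x) : Nat.card A ∣ Nat.card (TG κ) := by
  have h1 : ∀ a, ∃ x : G, κ x ∈ TT D k ∧ ∀ y, cX hp (κ x) y = ζ ^ (Ψ a y).val := by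
    intro a
    obtain ⟨t, ht, hct, htN, hτt⟩ := exists_tor_fix hp hB hd hτ F hζ (Ψ a) (hc a)
    obtain ⟨x, rfl⟩ := hmem t ht hτt htN
    exact ⟨x, ht, hct⟩
  choose g hg hgc using h1
  let f : Multiplicative A →* ↥(TG κ) :=
    { toFun := fun a => ⟨g a.toAdd, hg _⟩
      map_one' := by
        apply Subtype.ext
        apply hinj
        show κ (g 0) = κ 1
        rw [map_one]
        refine cX_inj hp (hg 0) (one_mem _) fun i => ?_
        rw [hgc, map_zero, cX_one]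
        show ζ ^ (0 : ZMod N).val = 1
        rw [ZMod.val_zero, pow_zero]
      map_mul' := by
        intro a b
        apply Subtype.ext
        apply hinj
        show κ (g (a.toAdd + b.toAdd)) = κ (g a.toAdd * g b.toAdd)
        rw [map_mul]
        refine cX_inj hp (hg _) (mul_mem (hg _) (hg _)) fun i => ?_
        rw [hgc, cX_mul hp (hg _) (hg _), hgc, hgc, map_add, AddMonoidHom.add_apply, pow_val_add hζ] }
  have hf : Function.Injective f := by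
    intro a b hab
    have h2 : g a.toAdd = g b.toAdd := congrArg Subtype.val hab
    refine hΨ (DFunLike.ext _ _ fun y => ?_)
    have h3 := hgc a.toAdd y
    rw [h2, hgc] at h3
    exact (pow_val_inj' hζ h3).symm
  have h2 := Subgroup.card_dvd_of_injective f hf
  exact h2

/-- the Weyl group elements commuting with `θ` are represented -/
theorem le_im (hk : LocFin k) {d : ℕ} {Bi : Fin l → Fin l → ℤ} (hB : InvC D l d Bi) (hd : d ≠ 0) (he : 0 < e)
    (hτ : IsFrob r e τ) (F : Fr M.toCoxeterSystem hp.isCartan (TT D k) (XX D l k) τ θ)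
    (hmem : ∀ y, τ y = y → ∃ x, κ x = y) : CT hp θ ≤ im hp hk r κ (NG hp hk r κ) := by
  intro w hw
  obtain ⟨m, hm, hτm⟩ := exists_fixed_lift hp hk hB hd he hτ F (v := w) hw
  obtain ⟨x, rfl⟩ := hmem m hτm
  exact ⟨x, ⟨w, hm⟩, hm⟩

end Cfsg.Agent.H565.CharCnt
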