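import Cfsg.Agent.H565.E6Elt
import Cfsg.Agent.H572.ExcE
import Cfsg.Agent.H169.ExcOrd
import Cfsg.Agent.S1093

/-!
# `PairN t 3` for `E₆(q)`, `q ≡ 2 (3)`, and `²E₆(q)`, `q ≡ 1 (3)` (S4350)

* `pair_row` : `θ = ε γ`, `3 ^ a ∣ r ^ e - ε`;
* `pairN_E6`, `pairN_twE6`.
-/

set_option autoImplicit false
set_option linter.unusedSectionVars false

namespace Cfsg.Agent.H565.RowP1

open CoxeterSystem Cfsg Cfsg.Lie Cfsg.Lie.ChevalleyDatum
open Cfsg.Agent.ChevalleyStructure Cfsg.Agent.ChevalleyStructure.Elts Cfsg.Agent.ChevalleyStructure.CoxeterGeom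
  Cfsg.Agent.ChevalleyStructure.CoxeterGeomTypes Cfsg.Agent.ChevalleyStructure.NPerm
open Cfsg.Agent.Tits.Roots Cfsg.Agent.Tits.Core Cfsg.Agent.Nodes Cfsg.Agent.Nodes.Reps Cfsg.Agent.Nodes.BNOf
  Cfsg.Agent.Nodes.RGDChev Cfsg.Agent.Nodes.Bruhat
open Cfsg.Agent.KFacts.RgdField Cfsg.Agent.KFacts.RgdChevCoord Cfsg.Agent.BpExc.TorCent Cfsg.Agent.BpExc.TorChev
open Cfsg.Agent.GpExc.Field Cfsg.Agent.BpExc.Tow Cfsg.Agent.BpExc.TowChev Cfsg.Agent.BpExc.Fr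
  Cfsg.Agent.BpExc.LangFr Cfsg.Agent.H129.TorusChar Cfsg.Agent.H129.TorusMain Cfsg.Agent.H123.ExcZ
open Cfsg.Agent.BpExc Cfsg.Agent.H795.LangT Cfsg.Agent.H795.Core Cfsg.Agent.H795.NotAbT
open Cfsg.Agent.H572.ExcA Cfsg.Agent.H572.ExcB Cfsg.Agent.H572.ExcC Cfsg.Agent.H572.ExcD Cfsg.Agent.H572.ExcE
  Cfsg.Agent.H572.LatQ Cfsg.Agent.H572.LatForm
open Cfsg.Agent.H129.TorusUntw (phi isFrob_phi fr_phi phi_emb coe_phi fix_range fix_split exists_closure)
open Cfsg.Agent.H795.Untw Cfsg.Agent.H795.NotAbRows Cfsg.Agent.BpExc.RowsUntw Cfsg.Agent.PRankPar.CardW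
open Cfsg.Agent.H795.NotAbCert Cfsg.Agent.H720.TwFr
open Cfsg.Agent.H553.OddHall Cfsg.Agent.H565.E6Lat Cfsg.Agent.H565.E6Elt Cfsg.Agent.H565.CharCnt
open Subgroup

universe u v

section Row

variable {hp : IsType chevE6 6 CoxeterMatrix.E₆}
  {k : Type u} [Field k] [IsAlgClosed k] {hk : LocFin k} {r e : ℕ} [Fact r.Prime] [CharP k r]
  {G : Type v} [Group G] {κ : G →* ↥(chevE6.group k)} {τ : MulAut ↥(chevE6.group k)}
  {θ : (Fin 6 → ℤ) ≃+ (Fin 6 → ℤ)}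

/-- the functionals fixed by `γ` -/
def Psi (N : ℕ) : (Fin 4 → ZMod N) →+ ((Fin 6 → ℤ) →+ ZMod N) where
  toFun v :=
    { toFun := fun x => v 0 * ((x 0 + x 5 : ℤ) : ZMod N) + v 1 * ((x 2 + x 4 : ℤ) : ZMod N) +
        v 2 * ((x 1 : ℤ) : ZMod N) + v 3 * ((x 3 : ℤ) : ZMod N)
      map_zero' := by simp
      map_add' := fun x y => by
        simp only [Pi.add_apply]
        push_cast
        ring }
  map_zero' := AddMonoidHom.ext fun x => by simp
  map_add' v w := AddMonoidHom.ext fun x => by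
    simp only [AddMonoidHom.coe_mk, ZeroHom.coe_mk, AddMonoidHom.add_apply, Pi.add_apply]
    ring

theorem Psi_apply {N : ℕ} (v : Fin 4 → ZMod N) (x : Fin 6 → ℤ) :
    Psi N v x = v 0 * ((x 0 + x 5 : ℤ) : ZMod N) + v 1 * ((x 2 + x 4 : ℤ) : ZMod N) +
        v 2 * ((x 1 : ℤ) : ZMod N) + v 3 * ((x 3 : ℤ) : ZMod N) := rfl

theorem Psi_inj (N : ℕ) : Function.Injective (Psi N) := by
  rw [injective_iff_map_eq_zero]
  intro v hv
  have h : ∀ x, Psi N v x = 0 := fun x => by rw [hv]; rfl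
  have h0 := h ![1, 0, 0, 0, 0, 0]
  have h1 := h ![0, 0, 1, 0, 0, 0]
  have h2 := h ![0, 1, 0, 0, 0, 0]
  have h3 := h ![0, 0, 0, 1, 0, 0]
  rw [Psi_apply] at h0 h1 h2 h3
  simp at h0 h1 h2 h3
  funext i
  fin_cases i
  · exact h0
  · exact h1
  · exact h2
  · exact h3

theorem Psi_g {N : ℕ} (v : Fin 4 → ZMod N) (x : Fin 6 → ℤ) : Psi N v (g x) = Psi N v x := by
  obtain ⟨a0, a1, a2, a3, a4, a5⟩ := g_apply x
  rw [Psi_apply, Psi_apply, a0, a1, a2, a3, a4, a5, add_comm (x 5), add_comm (x 4)]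

theorem B_g (hp : IsType chevE6 6 CoxeterMatrix.E₆) (x y : Fin 6 → ℤ) : B (g x) y = B x y := by
  show b (g x + g (g x)) y = b (x + g x) y
  rw [g_g, add_comm]

/-- **The row.** -/
theorem pair_row [Finite G] {ε : ℤ} (h : Emb hp r e κ τ θ) (hθ : ∀ x, θ x = ε • g x) (hε : ε = 1 ∨ ε = -1)
    (hmem : ∀ y, τ y = y → ∃ x, κ x = y) (h3r : 3 ≠ r) {a : ℕ} (ha : 0 < a)
    (hq : ((3 ^ a : ℕ) : ℤ) ∣ (r : ℤ) ^ e - ε) (hord : ¬ 3 ^ (4 * a + 3) ∣ Nat.card G) (hk : LocFin k)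
    {t : ℕ} [ht : Fact t.Prime] (ht2 : t ≠ 2) (ht3 : t ≠ 3)
    (hW : Nat.card CoxeterMatrix.E₆.Group = 51840) : PairN t 3 G := by
  have hWf := finite_W hp (CoxeterMatrix.E₆.toCoxeterSystem)
  have : Fact (Nat.Prime 3) := ⟨Nat.prime_three⟩
  have hθ' : (∀ x, θ x = g x) ∨ ∀ x, θ x = - g x := by
    rcases hε with h1 | h1
    · exact Or.inl fun x => by rw [hθ, h1, one_smul]
    · exact Or.inr fun x => by rw [hθ, h1, neg_smul, one_smul]
  have hB := invC_E6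
  have hcast : ∀ n, 0 < n → n ≤ a → ((r ^ e : ℕ) : ZMod (3 ^ n)) = (ε : ZMod (3 ^ n)) := by
    intro n _ hn
    have h1 : ((3 ^ n : ℕ) : ℤ) ∣ (r : ℤ) ^ e - ε :=
      dvd_trans (Int.natCast_dvd_natCast.2 (pow_dvd_pow 3 hn)) hq
    have h2 := (ZMod.intCast_zmod_eq_zero_iff_dvd _ _).2 h1
    push_cast at h2 ⊢
    exact sub_eq_zero.1 h2
  obtain ⟨ζ, hζ⟩ := exists_zeta_pow (k := k) (r := r) (s := 3) (a := a) h3r
  obtain ⟨ζ₁, hζ₁⟩ := exists_zeta_pow (k := k) (r := r) (s := 3) (a := 1) h3r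
  have hNz : NeZero (3 ^ a) := ⟨(pow_pos (by norm_num) a).ne'⟩
  have hNz1 : NeZero (3 ^ 1) := ⟨by norm_num⟩
  have hneg : ∀ n (c : (Fin 6 → ℤ) →+ ZMod (3 ^ n)), 0 < n → n ≤ a → (∀ x, c (g x) = c x) →
      ∀ x, c (θ x) = ((r ^ e : ℕ) : ZMod (3 ^ n)) * c x := by
    intro n c hn0 hn hc x
    rw [hθ, map_zsmul, hc, hcast n hn0 hn, zsmul_eq_mul]
  have R : Row hp hk κ θ 3 r ζ₁ B ee (4 * a) 2 := by
    refine ⟨?_, ?_, hord, fdata hp hθ', by rwa [pow_one] at hζ₁, ?_, reg hp⟩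
    · have h1 := card_dvd_TG hp (κ := κ) hB three_ne_zero h.inj h.frob h.fr hζ
        (fun t _ ht _ => hmem t ht) (Psi (3 ^ a)) (Psi_inj _)
        (fun v x => hneg a (Psi (3 ^ a) v) ha le_rfl (Psi_g v) x)
      have h2 : Nat.card (Fin 4 → ZMod (3 ^ a)) = 3 ^ (4 * a) := by
        rw [Nat.card_fun, Nat.card_zmod, Nat.card_eq_fintype_card, Fintype.card_fin, ← pow_mul, mul_comm]
      rwa [h2] at h1
    · refine (nine_dvd_CT hp hθ').trans (Subgroup.card_dvd_of_le ?_)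
      exact le_im (κ := κ) hk hB three_ne_zero h.e_pos h.frob h.fr hmem
    · intro y
      let c : (Fin 6 → ℤ) →+ ZMod (3 ^ 1) :=
        { toFun := fun x => ((B x y : ℤ) : ZMod (3 ^ 1))
          map_zero' := by
            have h1 := (isForm_B hp).add 0 0 y
            rw [add_zero] at h1
            have h2 : B 0 y = 0 := by omega
            rw [h2, Int.cast_zero]
          map_add' := fun x z => by rw [(isForm_B hp).add, Int.cast_add] }
      obtain ⟨t, ht, hct, htN, hτt⟩ := exists_tor_fix hp hB three_ne_zero h.frob h.fr hζ₁ c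
        (fun x => hneg 1 c one_pos ha (fun x => by
          show ((B (g x) y : ℤ) : ZMod (3 ^ 1)) = ((B x y : ℤ) : ZMod (3 ^ 1))
          rw [B_g hp]) x)
      obtain ⟨x, rfl⟩ := hmem t hτt
      refine ⟨x, ht, h.inj ?_, fun z => ?_⟩
      · rw [map_pow, map_one]
        exact htN
      · rw [hct]
        exact zpow_eq_pow_val hζ₁ _
  refine pairN_three ht2 ht3 h hB three_ne_zero R (0 : Fin 6) (fun i => if i = 0 then 0 else 1) ?_ span_ee
    (a := ![0, 0, 1, 0, 0, 0]) (b := ![1, 0, 0, 0, 0, 0]) (c := ![0, 0, 1, 1, 0, 0])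
    (by rw [B_eq]; rfl) (by rw [B_eq]; rfl) (by rw [B_eq]; rfl) (by rw [B_eq]; rfl) (by rw [B_eq]; rfl)
    (by rw [B_eq]; rfl) ?_
  · intro i
    by_cases hi : i = 0
    · exact Or.inl hi
    · refine Or.inr ⟨0, by rw [if_pos rfl, if_neg hi]; exact one_pos, ?_⟩
      rw [B_eq]
      revert hi
      revert i
      decide +kernel
  · intro H hH _ _ htH
    have h1 : t ∣ Nat.card (CT hp θ) := htH.trans (Subgroup.card_dvd_of_le hH)
    have h2 : t ∣ 51840 := by rw [← hW]; exact h1.trans (Subgroup.card_subgroup_dvd_card _)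
    have h3 : t = 5 := by
      have h4 : t ∣ 2 ^ 7 * 3 ^ 4 * 5 := by norm_num; exact h2
      rcases (ht.out.dvd_mul).1 h4 with h5 | h5
      · rcases (ht.out.dvd_mul).1 h5 with h6 | h6
        · exact absurd ((Nat.prime_dvd_prime_iff_eq ht.out Nat.prime_two).1 (ht.out.dvd_of_dvd_pow h6)) ht2
        · exact absurd ((Nat.prime_dvd_prime_iff_eq ht.out Nat.prime_three).1 (ht.out.dvd_of_dvd_pow h6)) ht3
      · exact (Nat.prime_dvd_prime_iff_eq ht.out Nat.prime_five).1 h5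
    subst h3
    exact five_not_dvd hp hθ' h1

end Row

theorem refl_trans (hp : IsType chevE6 6 CoxeterMatrix.E₆) (w : CoxeterMatrix.E₆.Group) (x : Fin 6 → ℤ) :
    ((AddEquiv.refl (Fin 6 → ℤ)).trans (repAut CoxeterMatrix.E₆.toCoxeterSystem hp.isCartan w)) x =
      rep CoxeterMatrix.E₆.toCoxeterSystem hp.isCartan w x := rfl

theorem card_W6 : Nat.card CoxeterMatrix.E₆.Group = 51840 := S1093.result (⟨6, CoxeterMatrix.E₆⟩, 51840) (by simp)

/-- `E₆(q)`, `q ≡ 2 (3)` -/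
theorem pairN_E6 {F : Type u} [Field F] [Fintype F] (h3 : (3 : F) ≠ 0) (hq3 : Fintype.card F % 3 = 2) {t : ℕ}
    [ht : Fact t.Prime] (ht2 : t ≠ 2) (ht3 : t ≠ 3) : PairN t 3 ↥(chevE6.group F) := by
  obtain ⟨r, e, hr, hrF, hrk, he, hqF, hk⟩ := exists_closure (F := F) rfl
  have h3r : 3 ≠ r := by
    rintro rfl
    exact h3 (by exact_mod_cast CharP.cast_eq_zero F 3)
  have hGf : Finite ↥(chevE6.group F) := inferInstance
  have hroot : ∀ a : F, ∃ b : F, b ^ 3 = a := exists_root_of_coprime three_ne_zero (by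
    refine Nat.Coprime.symm ((Nat.Prime.coprime_iff_not_dvd Nat.prime_three).2 fun h2 => ?_)
    omega)
  have hset := setup_untw_all hp6 hk (algebraMap F (AlgebraicClosure F)) he hqF invC_E6 three_ne_zero hroot 3
  obtain ⟨κ, τ, z, hE, hκ, hb⟩ := exists_emb (hp := hp6) hk hset.inj he hset.frob hset.fr hset.fix hset.fin
    Cfsg.Agent.H795.NotAbData.E6.c6
  have hq1 : (3 : ℤ) ∣ (Fintype.card F : ℤ) - (-1) := by omega
  obtain ⟨a, ha, ha1, ha2⟩ := exists_exp Nat.prime_three (Fintype.one_lt_card (α := F)) (Or.inr rfl) hq1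
  refine pair_row hE (ε := -1) (fun x => ?_) (Or.inr rfl) (fun y hy => ?_) h3r ha ?_
    (Cfsg.Agent.H169.ExcOrd.E6_three_two rfl ha ha1 ha2 hq3) hk ht2 ht3 card_W6
  · have h1 := eps_of_mat (hp := hp6) (g := permE rho6) (w := Cfsg.Agent.H795.NotAbData.E6.c6)
      (U := Cfsg.Agent.H795.NotAbData.E6.c6M) (ε := -1) perm6_mat
      (Cfsg.Agent.H795.NotAbData.E6.is_c6 hp6) (by decide +kernel) (g x)
    have h2 : permE rho6 (g x) = x := g_g x
    rw [h2] at h1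
    rw [refl_trans hp6, h1]
  · obtain ⟨x, hx⟩ := fix_range hp6 CoxeterMatrix.E₆.toCoxeterSystem (algebraMap F (AlgebraicClosure F)) hqF invC_E6
      three_ne_zero hroot (hb y hy)
    refine ⟨x, ?_⟩
    rw [hκ, hx]
    group
  · have h1 := dvd_of_sq Nat.prime_three (by norm_num) (Fintype.card_pos) (Or.inr rfl) hq1 ha1
    rw [hqF] at h1
    push_cast at h1 ⊢
    exact h1

/-- `²E₆(q)`, `q ≡ 1 (3)` -/
theorem pairN_twE6 {F : Type u} [Field F] [Fintype F] {q : ℕ} (h3 : (3 : F) ≠ 0) (hq : IsPrimePow q)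
    (hF : Fintype.card F = q ^ 2) (hq3 : q % 3 = 1) {t : ℕ}
    [ht : Fact t.Prime] (ht2 : t ≠ 2) (ht3 : t ≠ 3) : PairN t 3 ↥(twistedE6 F q) := by
  obtain ⟨r, n, hr, hrF, hrk, hn0, hn, hk⟩ := Cfsg.Agent.H795.Tw.exists_closure_q two_ne_zero hq hF
  have hpr : 3 ≠ r := by
    rintro rfl
    exact h3 (by exact_mod_cast CharP.cast_eq_zero F 3)
  have hG : Finite ↥(twistedE6 F q) := inferInstance
  have : Fact (Nat.Prime 5) := ⟨by norm_num⟩
  have hset := Cfsg.Agent.H795.Tw.setup_six (algebraMap F (AlgebraicClosure F)) r hk hn0 hn hF (p := 5) (by norm_num)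
  obtain ⟨κ, τ, z, hE, hκ, hb⟩ := exists_emb (hp := hp6) hk hset.inj hn0 hset.frob hset.fr hset.fix hset.fin 1
  have hq1 : (3 : ℤ) ∣ (q : ℤ) - 1 := by omega
  obtain ⟨a, ha, ha1, ha2⟩ := exists_exp Nat.prime_three hq.two_le (Or.inl rfl) hq1
  refine pair_row hE (ε := 1) (fun x => ?_) (Or.inl rfl) (fun y hy => ?_) hpr ha ?_
    (Cfsg.Agent.H169.ExcOrd.twE6_three_one hq hF ha ha1 ha2 hq3) hk ht2 ht3 card_W6
  · show rep CoxeterMatrix.E₆.toCoxeterSystem hp6.isCartan 1 (permE rho6 x) = (1 : ℤ) • g x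
    rw [map_one, Module.End.one_apply, one_smul]
  · have h1 := desc6 (algebraMap F (AlgebraicClosure F)) r hk hn0 hn hF (hb y hy)
    have h2 : Nat.gcd 3 (q + 1) = 1 := by
      refine (Nat.Prime.coprime_iff_not_dvd Nat.prime_three).2 fun h5 => ?_
      omega
    rw [h2, pow_one] at h1
    obtain ⟨x, hx⟩ := h1
    refine ⟨x, ?_⟩
    rw [hκ, hx]
    group
  · have h1 := dvd_of_sq Nat.prime_three (by norm_num) (le_trans (by norm_num) hq.two_le) (Or.inl rfl) hq1 ha1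
    rw [hn] at h1
    push_cast at h1 ⊢
    exact h1

end Cfsg.Agent.H565.RowP1
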