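import Cfsg.Agent.H171.Odd.Tools
import Cfsg.Agent.LargeExtra.Perp

/-!
# `Inv1 2 t` from a large extraspecial subgroup

* `eq_bot` : `Q` large extraspecial of order `2 ^ (2 w + 1)` normalises the `t`-group `R`, `2 ^ (w + 1) ∤ |R| - 1`: `R = 1`;
* `inv1_of_large` : `Inv1 2 t G`.
-/

set_option autoImplicit false

namespace Cfsg.Agent.H565.LargeInv

open Subgroup Cfsg.Agent.Co2Type.Quad Cfsg.Agent.H171.Odd Cfsg.Agent.LargeExtra

variable {G : Type*} [Group G] {Q : Subgroup G} {z : G}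

theorem isPGroup (h : Large Q z) : IsPGroup 2 Q := by
  intro x
  refine ⟨2, Subtype.ext ?_⟩
  have h1 : (x : G) ^ 4 = 1 := by
    have e : (x : G) ^ 4 = (x * x) * (x * x) := by simp only [pow_succ, pow_zero, one_mul, mul_assoc]
    rcases h.sq x x.2 with h1 | h1
    · rw [e, h1, one_mul]
    · rw [e, h1, h.z_sq]
  exact h1

/-- a subgroup of `Q` not containing `z` has order at most `2 ^ w` -/
theorem card_sq_le [Finite G] (h : Large Q z) {A : Subgroup G} (hA : A ≤ Q) (hz : z ∉ A) :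
    2 * (Nat.card A * Nat.card A) ≤ Nat.card Q := by
  have hcomm : ∀ x ∈ A, ∀ y ∈ A, x * y = y * x := by
    intro x hx y hy
    rcases h.comm x (hA hx) y (hA hy) with h1 | h1
    · exact h1
    · exfalso
      apply hz
      have h2 : z = (y * x)⁻¹ * (x * y) := by rw [h1]; group
      rw [h2]
      exact mul_mem (inv_mem (mul_mem hy hx)) (mul_mem hx hy)
  have h1 := Perp.card_sq_le h (Local.sub h A) (by
    rintro _ ⟨x, hx, rfl⟩ _ ⟨y, hy, rfl⟩
    exact (h.b_pr x y).2 (hcomm _ hx _ hy))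
  have h2 : Nat.card (Local.sub h A) = Nat.card A := by
    symm
    refine Nat.card_congr (Equiv.ofBijective
      (fun a : A => (⟨h.pr ⟨a, hA a.2⟩, ⟨a, hA a.2⟩, a.2, rfl⟩ : Local.sub h A)) ⟨?_, ?_⟩)
    · intro a b hab
      have h3 : h.pr ⟨a, hA a.2⟩ = h.pr ⟨b, hA b.2⟩ := congrArg Subtype.val hab
      rcases h.pr_eq_pr.1 h3 with h4 | h4
      · exact Subtype.ext h4
      · exfalso
        apply hz
        have h5 : (a : G) = b * z := h4
        have h6 : z = (b : G)⁻¹ * a := by rw [h5]; group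
        rw [h6]
        exact mul_mem (inv_mem b.2) a.2
    · rintro ⟨_, x, hx, rfl⟩
      exact ⟨⟨x, hx⟩, rfl⟩
  rw [h2] at h1
  rw [h.card_eq]
  omega

/-- **`Q` normalises no nontrivial `t`-subgroup.** -/
theorem eq_bot [Finite G] (h : Large Q z) {w : ℕ} (hQ : Nat.card Q = 2 ^ (2 * w + 1)) {t : ℕ} (ht : t.Prime) (ht2 : t ≠ 2)
    {R : Subgroup G} (hR : IsPGroup t R) (hn : Q ≤ normalizer (R : Set G)) (hk : ¬ 2 ^ (w + 1) ∣ Nat.card R - 1) :
    R = ⊥ := by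
  have hft : Fact t.Prime := ⟨ht⟩
  have h2 : Fact (Nat.Prime 2) := ⟨Nat.prime_two⟩
  have hQp := isPGroup h
  have hdis : ∀ g ∈ Q, g ∈ R → g = 1 := by
    intro g hg hgR
    have h1 : Q ⊓ R = ⊥ := (IsPGroup.disjoint_of_ne 2 t (Ne.symm ht2) Q R hQp hR).eq_bot
    have h3 : g ∈ Q ⊓ R := ⟨hg, hgR⟩
    rw [h1, mem_bot] at h3
    exact h3
  have hcz : ∀ g ∈ R, g * z = z * g → g = 1 := by
    intro g hg hgz
    refine hdis g (h.self g hgz fun x hx => ?_) hg
    have h3 : g * x * g⁻¹ * x⁻¹ ∈ Q := mul_mem (h.conj_mem g hgz x hx) (inv_mem hx)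
    have h4 : g * x * g⁻¹ * x⁻¹ ∈ R := by
      have h5 : x * g⁻¹ * x⁻¹ ∈ R := (mem_normalizer_iff.1 (hn hx) _).1 (inv_mem hg)
      have h6 : g * x * g⁻¹ * x⁻¹ = g * (x * g⁻¹ * x⁻¹) := by group
      rw [h6]
      exact mul_mem hg h5
    have h7 := hdis _ h3 h4
    rw [mul_inv_eq_one, mul_inv_eq_iff_eq_mul] at h7
    exact h7
  by_contra hne
  have h1 : ¬ 2 ^ (w + 1) ∣ Nat.card R - Nat.card (⊥ : Subgroup G) := by rwa [card_bot]
  obtain ⟨y, hyR, hy1, hy⟩ := exists_small_orbit hQp hn (by rw [normalizer_eq_top_iff.2 inferInstance]; exact le_top)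
    bot_le h1
  have hzA : z ∉ Q ⊓ centralizer ({y} : Set G) := by
    rintro ⟨-, hz⟩
    apply hy1
    rw [mem_bot]
    exact hcz y hyR (mem_centralizer_singleton_iff.1 hz).symm
  have h3 := card_sq_le h inf_le_left hzA
  have hdv := Nat.le_of_dvd (Nat.mul_pos Nat.card_pos (pow_pos (by norm_num) w)) hy
  rw [hQ] at h3 hdv
  set a := Nat.card ↥(Q ⊓ centralizer ({y} : Set G)) with ha
  have h4 : 2 ^ (2 * w + 1) = 2 * 2 ^ w * 2 ^ w := by rw [pow_succ, two_mul, pow_add]; ring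
  rw [h4] at h3 hdv
  have hw : 0 < 2 ^ w := pow_pos (by norm_num) w
  have h5 : 2 * 2 ^ w ≤ a := Nat.le_of_mul_le_mul_right hdv hw
  have h6 : (2 * 2 ^ w) * (2 * 2 ^ w) ≤ a * a := Nat.mul_le_mul h5 h5
  nlinarith

/-- **`Inv1 2 t` from a large extraspecial subgroup.** -/
theorem inv1_of_large [Finite G] (h : Large Q z) {w : ℕ} (hQ : Nat.card Q = 2 ^ (2 * w + 1)) {t b : ℕ} (ht : t.Prime)
    (ht2 : t ≠ 2) (hb : ¬ t ^ (b + 1) ∣ Nat.card G) (hw : ∀ k, 1 ≤ k → k ≤ b → ¬ 2 ^ (w + 1) ∣ t ^ k - 1) :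
    Inv1 2 t G := by
  have hft : Fact t.Prime := ⟨ht⟩
  have h2 : Fact (Nat.Prime 2) := ⟨Nat.prime_two⟩
  intro S hS hSi R hR hn
  obtain ⟨P, hP⟩ := (isPGroup h).exists_le_sylow
  obtain ⟨g, hg⟩ := MulAction.exists_smul_eq G P (hS.toSylow hSi)
  have hSP : S = (P : Subgroup G).map (MulAut.conj g).toMonoidHom := by
    rw [← IsPGroup.toSylow_coe hS hSi, ← hg]; rfl
  set R' : Subgroup G := R.map (MulAut.conj g⁻¹).toMonoidHom with hR'
  have hR'p : IsPGroup t R' := hR.map _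
  have hn' : Q ≤ normalizer (R' : Set G) := by
    intro x hx
    have h3 : g * x * g⁻¹ ∈ S := by
      rw [hSP]
      exact ⟨x, hP hx, rfl⟩
    have h4 := hn h3
    rw [mem_normalizer_iff] at h4 ⊢
    intro u
    have key : ∀ u, u ∈ R' ↔ g * u * g⁻¹ ∈ R := by
      intro u
      constructor
      · rintro ⟨v, hv, rfl⟩
        have e : g * ((MulAut.conj g⁻¹).toMonoidHom v) * g⁻¹ = v := by
          show g * (g⁻¹ * v * g⁻¹⁻¹) * g⁻¹ = v
          group
        rw [e]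
        exact hv
      · intro hu
        refine ⟨_, hu, ?_⟩
        show g⁻¹ * (g * u * g⁻¹) * g⁻¹⁻¹ = u
        group
    rw [key, key, h4]
    have e : g * x * g⁻¹ * (g * u * g⁻¹) * (g * x * g⁻¹)⁻¹ = g * (x * u * x⁻¹) * g⁻¹ := by group
    rw [e]
  have hk : ¬ 2 ^ (w + 1) ∣ Nat.card R' - 1 ∨ R' = ⊥ := by
    obtain ⟨k, hk, hc⟩ := card_pgroup hb hR'p
    rcases Nat.eq_zero_or_pos k with h3 | h3
    · right
      rw [h3, pow_zero] at hc
      exact card_eq_one.1 hc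
    · left
      rw [hc]
      exact hw k h3 hk
  have h5 : R' = ⊥ := by
    rcases hk with hk | hk
    · exact eq_bot h hQ ht ht2 hR'p hn' hk
    · exact hk
  rw [hR', map_eq_bot_iff_of_injective _ (MulAut.conj g⁻¹).injective] at h5
  exact h5

end Cfsg.Agent.H565.LargeInv
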