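import Cfsg.Agent.H565.TwoLoc
import Cfsg.Agent.H565.LargeInv
import Cfsg.Agent.H573.Hall.Lib
import Cfsg.Agent.H553.GoodSpor
import Cfsg.Agent.H16.NunFi24
import Cfsg.Agent.H16.NunFi22
import Cfsg.Agent.UGT.C.BalSuz
import Cfsg.Agent.KFacts.HN.Large
import Cfsg.Agent.KFacts.HN.Classes

/-!
# The rows `Suz`, `Fi22`, `Fi24'`, `HN` of S4312

* `sporB` : `SporB π S`.
-/

set_option autoImplicit false
set_option exponentiation.threshold 4000

namespace Cfsg.Agent.H565.InvTwoB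

open Subgroup Cfsg.Agent.Co2Type.Quad Cfsg.Agent.H171.Odd Cfsg.Agent.H553.ExtRed Cfsg.Agent.H565.TwoLoc
open Cfsg Cfsg.Agent.H988.CPi

universe u

/-- transport -/
theorem map_iso {G K : Type*} [Group G] [Group K] {T Q : Subgroup G} {z : G} (h : TwoLoc T Q z) (e : G ≃* K) :
    TwoLoc (T.map e.toMonoidHom) (Q.map e.toMonoidHom) (e z) where
  two := h.two.map _
  idx := by
    have e1 : (T.map e.toMonoidHom).index = T.index := by
      rw [index_map_of_bijective e.bijective]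
    rw [e1]
    exact h.idx
  le := map_mono h.le
  ne := by
    intro h1
    apply h.ne
    rw [← map_one e] at h1
    exact e.injective h1
  ctr := by
    rintro _ ⟨x, hx, rfl⟩ hc
    have h1 := h.ctr x hx fun y hy => by
      have h2 := hc _ ⟨y, hy, rfl⟩
      rw [← map_mul, ← map_mul] at h2
      exact e.injective h2
    rcases h1 with rfl | rfl
    · exact Or.inl (map_one _)
    · exact Or.inr rfl
  conj_mem := by
    rintro k hk _ ⟨x, hx, rfl⟩
    obtain ⟨g, rfl⟩ := e.surjective k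
    rw [← map_mul, ← map_mul] at hk
    refine ⟨_, h.conj_mem g (e.injective hk) x hx, ?_⟩
    show e (g * x * g⁻¹) = e g * e x * (e g)⁻¹
    rw [map_mul, map_mul, map_inv]
  self := by
    intro k hk hc
    obtain ⟨g, rfl⟩ := e.surjective k
    rw [← map_mul, ← map_mul] at hk
    refine ⟨g, h.self g (e.injective hk) fun x hx => ?_, rfl⟩
    have h2 : e g * e x = e x * e g := hc _ ⟨x, hx, rfl⟩
    rw [← map_mul, ← map_mul] at h2
    exact e.injective h2

variable {π : Set ℕ} {S : Type u} [Group S] [Finite S] [IsSimpleGroup S]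

/-- the general theorem, with a factored order -/
theorem good_list (hna : ¬ IsMulCommutative S) (hE : IsEPiGroup π S) (h2 : 2 ∈ π) (h3 : 3 ∉ π)
    {T Q : Subgroup S} {z : S} (L0 : TwoLoc T Q z)
    {N : ℕ} (hc : Nat.card S = N) (hN0 : ¬ 2 ^ 22 ∣ N) (hN2 : ¬ szc 2 ∣ N) (hN3 : ¬ szc 3 ∣ N) (hN4 : ¬ szc 4 ∣ N)
    (h7 : 2 ^ 7 ∣ N) (h169 : ¬ 13 * 13 ∣ N) (c a : ℕ) (ha : 2 ^ a ∣ N)
    (L : List (ℕ × ℕ)) (hL : ∀ x ∈ L, x.1.Prime) (hLN : N = (L.map fun x => x.1 ^ x.2).prod)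
    (hinv : ∀ x ∈ L, x.1 = 2 ∨ x.1 = 3 ∨ (¬ x.1 ^ (x.2 + 1) ∣ N ∧ (∀ k ∈ Finset.Icc 1 x.2, ¬ 2 ^ (c + 1) ∣ x.1 ^ k - 1) ∧
      x.2 * c < a)) :
    PiN π (Nat.card S) ∨ Good π S := by
  refine good_of_twoLoc hna hE h2 h3 L0 (by rw [hc]; exact szc_ok hN0 hN2 hN3 hN4) (by rw [hc]; exact h7)
    (by rw [hc]; exact h169) fun r hr hr2 hr3 hd => ?_
  rw [hc] at hd
  obtain ⟨x, hx, rfl⟩ := mem_of_dvd hr L hL (hLN ▸ hd)
  rcases hinv x hx with h | h | ⟨h4, h5, h6⟩
  · exact absurd h hr2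
  · exact absurd h hr3
  · refine L0.inv1 hr hr2 (by rw [hc]; exact ha) (by rw [hc]; exact h4) (fun _ => c) (fun k h1 h2 =>
      h5 k (Finset.mem_Icc.2 ⟨h1, h2⟩)) ?_
    rw [Finset.sum_const, Finset.card_range, smul_eq_mul]
    exact h6

/-! ### `Suz` -/

theorem twoLoc_suz (h : Spor.IsoSuz S) : ∃ (T Q : Subgroup S) (z : S), TwoLoc T Q z := by
  obtain ⟨e⟩ := h
  have : Finite Spor.Suz := Finite.of_equiv S e.toEquiv
  have hi : ¬ 2 ∣ (centralizer ({Cfsg.Agent.SuzThree.CentA.z0} : Set Spor.Suz)).index := by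
    have h1 := KFacts.SuzSheet.odd_index
    rw [Nat.odd_iff] at h1
    have h2 : (centralizer ({Cfsg.Agent.SuzThree.CentA.z0} : Set Spor.Suz)).index = Cfsg.Agent.SuzThree.CentA.C1.index := rfl
    omega
  obtain ⟨T, hT⟩ := of_large UGT.C.BalSuz.large hi (LargeInv.isPGroup UGT.C.BalSuz.large)
  exact ⟨_, _, _, map_iso hT e.symm⟩

theorem good_suz (h : Spor.IsoSuz S) (hna : ¬ IsMulCommutative S) (hE : IsEPiGroup π S) (h2 : 2 ∈ π) (h3 : 3 ∉ π) :
    PiN π (Nat.card S) ∨ Good π S := by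
  obtain ⟨T, Q, z, L⟩ := twoLoc_suz h
  refine good_list hna hE h2 h3 L (NotCT.Orders.suz h) (by norm_num) (by norm_num [szc]) (by norm_num [szc])
    (by norm_num [szc]) (by norm_num) (by norm_num) 3 13 (by norm_num)
    [(2, 13), (3, 7), (5, 2), (7, 1), (11, 1), (13, 1)] (by simp; norm_num) (by norm_num) ?_
  decide +kernel

/-! ### `Fi22` -/

theorem twoLoc_fi22 (h : Spor.IsoFi22 S) : ∃ (T Q : Subgroup S) (z : S), TwoLoc T Q z := by
  obtain ⟨T0, d, d', R, hA⟩ := OddHalf.D8.Fi22.exists_all h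
  have hF := hA.facts
  have hRc : R ≤ centralizer ({d * d'} : Set S) := fun x hx =>
    mem_centralizer_singleton_iff.2 (OddHalf.D8.Fi22.Sheet22.z_comm (hF.R_le hx))
  obtain ⟨P, hRP, hPz⟩ := H16.NunLarge.exists_sylow_between hF.odd.not_two_dvd_nat hF.R_two hRc
  refine ⟨P, R, d * d', P.isPGroup', P.not_dvd_index, hRP, OddHalf.D8.Fi22.Sheet22.z_ne hF, fun x hx hc =>
    hF.center_S P hPz x hx fun y hy => (hc y hy).symm, hF.R_normal, fun g _ hc => ?_⟩
  rcases hF.R_center g hc with rfl | rfl | rfl | rfl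
  · exact R.one_mem
  · exact hF.d_mem
  · exact hF.d'_mem
  · exact R.mul_mem hF.d_mem hF.d'_mem

theorem good_fi22 (h : Spor.IsoFi22 S) (hna : ¬ IsMulCommutative S) (hE : IsEPiGroup π S) (h2 : 2 ∈ π) (h3 : 3 ∉ π) :
    PiN π (Nat.card S) ∨ Good π S := by
  obtain ⟨T, Q, z, L⟩ := twoLoc_fi22 h
  refine good_list hna hE h2 h3 L (NotCT.Orders.fi22 h) (by norm_num) (by norm_num [szc]) (by norm_num [szc])
    (by norm_num [szc]) (by norm_num) (by norm_num) 3 17 (by norm_num)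
    [(2, 17), (3, 9), (5, 2), (7, 1), (11, 1), (13, 1)] (by simp; norm_num) (by norm_num) ?_
  decide +kernel

/-! ### `Fi24'` -/

theorem twoLoc_fi24 (h : Spor.IsoFi24' S) : ∃ (T Q : Subgroup S) (z : S), TwoLoc T Q z := by
  obtain ⟨e⟩ := h
  have : Finite Spor.Fi24 := Cfsg.Agent.R08.FiTwentyFour.finite_Fi24
  have : Finite Spor.Fi24' := Finite.of_equiv S e.toEquiv
  have hL := H16.NunFi24.largeK KFacts.FiTF.frame
  obtain ⟨T, hT⟩ := of_large hL (KFacts.FiTF.Abs.odd_index KFacts.FiTF.frame).not_two_dvd_nat (LargeInv.isPGroup hL)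
  exact ⟨_, _, _, map_iso hT e.symm⟩

theorem good_fi24 (h : Spor.IsoFi24' S) (hna : ¬ IsMulCommutative S) (hE : IsEPiGroup π S) (h2 : 2 ∈ π) (h3 : 3 ∉ π) :
    PiN π (Nat.card S) ∨ Good π S := by
  obtain ⟨T, Q, z, L⟩ := twoLoc_fi24 h
  refine good_list hna hE h2 h3 L (NotCT.Orders.fi24 h) (by norm_num) (by norm_num [szc]) (by norm_num [szc])
    (by norm_num [szc]) (by norm_num) (by norm_num) 6 21 (by norm_num)
    [(2, 21), (3, 16), (5, 2), (7, 3), (11, 1), (13, 1), (17, 1), (23, 1), (29, 1)] (by simp; norm_num) (by norm_num) ?_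
  decide +kernel

/-! ### `HN` -/

theorem inv_hn (h : Spor.IsoHN S) : Inv1 2 5 S := by
  have hc := NotCT.Orders.hn h
  obtain ⟨e⟩ := h
  have : Finite Spor.HN := Finite.of_equiv S e.toEquiv
  refine H573.Hall.Inv1.congr e (LargeInv.inv1_of_large (w := 4) (b := 6) KFacts.HN.large
    (by rw [KFacts.HN.card_RS]; norm_num) (by norm_num) (by norm_num) ?_ ?_)
  · rw [← Nat.card_congr e.toEquiv, hc]
    norm_num
  · intro k h1 h2
    interval_cases k <;> norm_num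

theorem good_hn (h : Spor.IsoHN S) (hna : ¬ IsMulCommutative S) (hE : IsEPiGroup π S) (h2 : 2 ∈ π) (h3 : 3 ∉ π) :
    PiN π (Nat.card S) ∨ Good π S := by
  refine good_of_list hna hE h2 h3 (NotCT.Orders.hn h) (by norm_num) (by norm_num [szc]) (by norm_num [szc])
    (by norm_num [szc]) (a := 1) (fun h => absurd h (by norm_num)) (Or.inr (by norm_num)) (by norm_num)
    [(2, 14), (3, 6), (5, 6), (7, 1), (11, 1), (19, 1)] (by simp; norm_num) (by norm_num) ?_
  intro x hx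
  simp only [List.mem_cons, List.not_mem_nil, or_false] at hx
  rcases hx with rfl | rfl | rfl | rfl | rfl | rfl
  · norm_num
  · norm_num
  · exact Or.inr (Or.inr (Or.inr (inv_hn h)))
  · norm_num
  · norm_num
  · norm_num

/-- **the rows `Suz`, `Fi22`, `Fi24'`, `HN`** -/
theorem sporB (hna : ¬ IsMulCommutative S) (hE : IsEPiGroup π S) (h2 : 2 ∈ π) (h3 : 3 ∉ π) : SporB π S where
  suz h := good_suz h hna hE h2 h3
  fi22 h := good_fi22 h hna hE h2 h3
  fi24 h := good_fi24 h hna hE h2 h3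
  hn h := good_hn h hna hE h2 h3

end Cfsg.Agent.H565.InvTwoB
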