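import Cfsg.Agent.H171.Odd.Tools
import Cfsg.Agent.LargeExtra.Perp
import Cfsg.Agent.H16.NunThree
import Cfsg.Agent.H16.NunLarge
import Cfsg.Agent.H553.GoodInv
import Cfsg.Agent.ThreePrime.Main
import Cfsg.Agent.S2126

/-!
# Sylow 2-subgroups with centre `⟨z⟩`, `F^*(C(z)) = O_2(C(z))` (S4312)

* `TwoLoc T Q z` : `T` a Sylow 2-subgroup of `G`, `Z(T) ≤ {1, z}`, `Q ≤ T` normal in `C(z)`, `C(Q) ∩ C(z) ≤ Q`;
* `TwoLoc.inv1` : `Inv1 2 t G`;
* `TwoLoc.core` : `C_H(O_2(H)) ≤ O_2(H)` for `T ≤ H`, `H` a 3'-group, `O_{2'}(H) = 1`;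
* `good_of_twoLoc` : `Good π S`.
-/

set_option autoImplicit false

namespace Cfsg.Agent.H565.TwoLoc

open Subgroup Cfsg.Agent.Co2Type.Quad Cfsg.Agent.H171.Odd Cfsg.Agent.LargeExtra Cfsg.Agent.H553.ExtRed
open Cfsg Cfsg.Agent.H988.CPi Cfsg.Agent.SignalizersComponents

variable {G : Type*} [Group G] {Q T : Subgroup G} {z : G}

/-- the setting -/
structure TwoLoc (T Q : Subgroup G) (z : G) : Prop where
  two : IsPGroup 2 T
  idx : ¬ 2 ∣ T.index
  le : Q ≤ T
  ne : z ≠ 1
  ctr : ∀ x ∈ T, (∀ y ∈ T, y * x = x * y) → x = 1 ∨ x = z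
  conj_mem : ∀ g, g * z = z * g → ∀ x ∈ Q, g * x * g⁻¹ ∈ Q
  self : ∀ g, g * z = z * g → (∀ x ∈ Q, g * x = x * g) → g ∈ Q

theorem of_large [Finite G] (h : Large Q z) (hodd : ¬ 2 ∣ (centralizer ({z} : Set G)).index) (hQ : IsPGroup 2 Q) :
    ∃ T, TwoLoc T Q z := by
  obtain ⟨S, hQS, hSz⟩ := H16.NunLarge.exists_sylow_between hodd hQ (fun x hx =>
    mem_centralizer_singleton_iff.2 (h.comm_z x hx))
  refine ⟨S, S.isPGroup', S.not_dvd_index, hQS, h.z_ne, fun x hx hc => ?_, h.conj_mem, h.self⟩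
  have h1 : x * z = z * x := mem_centralizer_singleton_iff.1 (hSz hx)
  have h2 : x ∈ Q := h.self x h1 fun y hy => (hc y (hQS hy)).symm
  exact h.cent x h2 fun y hy => (hc y (hQS hy)).symm

/-- conjugates -/
theorem TwoLoc.conj (h : TwoLoc T Q z) (g : G) : TwoLoc (T.map (MulAut.conj g).toMonoidHom)
    (Q.map (MulAut.conj g).toMonoidHom) (g * z * g⁻¹) where
  two := h.two.map _
  idx := by
    have e : (T.map (MulAut.conj g).toMonoidHom).index = T.index := by
      rw [index_map_of_bijective (MulAut.conj g).bijective]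
    rw [e]
    exact h.idx
  le := map_mono h.le
  ne := by
    intro h1
    apply h.ne
    have h2 : g⁻¹ * (g * z * g⁻¹) * g = z := by group
    rw [h1] at h2
    rw [← h2]
    group
  ctr := by
    rintro _ ⟨x, hx, rfl⟩ hc
    have h1 := h.ctr x hx fun y hy => by
      have h2 := hc _ ⟨y, hy, rfl⟩
      rw [← map_mul, ← map_mul] at h2
      exact (MulAut.conj g).injective h2
    rcases h1 with rfl | rfl
    · exact Or.inl (map_one _)
    · exact Or.inr rfl
  conj_mem := by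
    rintro k hk _ ⟨x, hx, rfl⟩
    have h1 : (g⁻¹ * k * g) * z = z * (g⁻¹ * k * g) := by
      calc (g⁻¹ * k * g) * z = g⁻¹ * (k * (g * z * g⁻¹)) * g := by group
        _ = z * (g⁻¹ * k * g) := by rw [hk]; group
    refine ⟨_, h.conj_mem _ h1 x hx, ?_⟩
    show g * ((g⁻¹ * k * g) * x * (g⁻¹ * k * g)⁻¹) * g⁻¹ = k * (g * x * g⁻¹) * k⁻¹
    group
  self := by
    intro k hk hc
    have h1 : (g⁻¹ * k * g) * z = z * (g⁻¹ * k * g) := by
      calc (g⁻¹ * k * g) * z = g⁻¹ * (k * (g * z * g⁻¹)) * g := by group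
        _ = z * (g⁻¹ * k * g) := by rw [hk]; group
    refine ⟨_, h.self _ h1 fun x hx => ?_, ?_⟩
    · have h2 : k * (g * x * g⁻¹) = (g * x * g⁻¹) * k := hc _ ⟨x, hx, rfl⟩
      calc (g⁻¹ * k * g) * x = g⁻¹ * (k * (g * x * g⁻¹)) * g := by group
        _ = x * (g⁻¹ * k * g) := by rw [h2]; group
    · show g * (g⁻¹ * k * g) * g⁻¹ = k
      group

variable [Finite G]

/-- a nontrivial normal subgroup of `T` contains `z` -/
theorem TwoLoc.mem_of_normal (h : TwoLoc T Q z) {N : Subgroup G} (hN : N ≤ T) (hN1 : N ≠ ⊥)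
    (hn : T ≤ normalizer (N : Set G)) : z ∈ N := by
  have h2 : Fact (Nat.Prime 2) := ⟨Nat.prime_two⟩
  obtain ⟨x, hx, hx1, hc⟩ := H16.NunThree.exists_center (h.two.toSylow h.idx) (by rwa [IsPGroup.toSylow_coe]) hN1
    (by rwa [IsPGroup.toSylow_coe])
  rw [IsPGroup.toSylow_coe] at hc
  rcases h.ctr x (hN hx) hc with h3 | h3
  · exact absurd h3 hx1
  · rwa [← h3]

/-- a subgroup of odd order centralising `z`, normalised by `Q` -/
theorem TwoLoc.eq_bot (h : TwoLoc T Q z) {R : Subgroup G} (hR : ¬ 2 ∣ Nat.card R)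
    (hn : Q ≤ normalizer (R : Set G)) (hz : ∀ g ∈ R, g * z = z * g) : R = ⊥ := by
  rw [eq_bot_iff]
  have hdis : ∀ g ∈ Q, g ∈ R → g = 1 := by
    intro g hg hgR
    obtain ⟨k, hk⟩ := (h.two.to_le h.le) ⟨g, hg⟩
    have hk' : g ^ 2 ^ k = 1 := congrArg Subtype.val hk
    have h1 : orderOf g ∣ Nat.card R := by
      have := orderOf_dvd_natCard (⟨g, hgR⟩ : R)
      rwa [orderOf_mk] at this
    obtain ⟨j, -, hj⟩ := (Nat.dvd_prime_pow Nat.prime_two).1 (orderOf_dvd_of_pow_eq_one hk')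
    rcases Nat.eq_zero_or_pos j with h0 | h0
    · rw [h0, pow_zero, orderOf_eq_one_iff] at hj
      exact hj
    · exfalso
      apply hR
      exact (dvd_pow_self 2 (by omega)).trans (hj ▸ h1)
  intro g hg
  rw [mem_bot]
  refine hdis g (h.self g (hz g hg) fun x hx => ?_) hg
  have h3 : g * x * g⁻¹ * x⁻¹ ∈ Q := mul_mem (h.conj_mem g (hz g hg) x hx) (inv_mem hx)
  have h4 : g * x * g⁻¹ * x⁻¹ ∈ R := by
    have h5 : x * g⁻¹ * x⁻¹ ∈ R := (mem_normalizer_iff.1 (hn hx) _).1 (inv_mem hg)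
    have h6 : g * x * g⁻¹ * x⁻¹ = g * (x * g⁻¹ * x⁻¹) := by group
    rw [h6]
    exact mul_mem hg h5
  have h7 := hdis _ h3 h4
  rw [mul_inv_eq_one, mul_inv_eq_iff_eq_mul] at h7
  exact h7

omit [Finite G] in
theorem normalizer_le_cent (R : Subgroup G) : normalizer (R : Set G) ≤ normalizer ((centralizer (R : Set G) : Subgroup G) : Set G) := by
  have key : ∀ g ∈ normalizer (R : Set G), ∀ x ∈ centralizer (R : Set G), g * x * g⁻¹ ∈ centralizer (R : Set G) := by
    intro g hg x hx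
    rw [mem_centralizer_iff] at hx ⊢
    intro r hr
    have h1 : g⁻¹ * r * g ∈ R := by
      have := (mem_normalizer_iff.1 (inv_mem hg) r).1 hr
      rwa [inv_inv] at this
    have h2 := hx _ h1
    calc r * (g * x * g⁻¹) = g * ((g⁻¹ * r * g) * x) * g⁻¹ := by group
      _ = g * (x * (g⁻¹ * r * g)) * g⁻¹ := by rw [h2]
      _ = g * x * g⁻¹ * r := by group
  intro g hg
  rw [mem_normalizer_iff]
  intro x
  refine ⟨key g hg x, fun h => ?_⟩
  have h1 := key g⁻¹ (inv_mem hg) _ h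
  have h2 : g⁻¹ * (g * x * g⁻¹) * g⁻¹⁻¹ = x := by group
  rwa [h2] at h1

/-- **`Inv1 2 t`.** -/
theorem TwoLoc.inv1 (h : TwoLoc T Q z) {t a b : ℕ} (ht : t.Prime) (ht2 : t ≠ 2) (ha : 2 ^ a ∣ Nat.card G)
    (hb : ¬ t ^ (b + 1) ∣ Nat.card G) (w : ℕ → ℕ) (hw : ∀ k, 1 ≤ k → k ≤ b → ¬ 2 ^ (w k + 1) ∣ t ^ k - 1)
    (hW : ∑ i ∈ Finset.range b, w (i + 1) < a) : Inv1 2 t G := by
  have hft : Fact t.Prime := ⟨ht⟩
  have h2 : Fact (Nat.Prime 2) := ⟨Nat.prime_two⟩
  intro S hS hSi R hR hn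
  obtain ⟨g, hg⟩ := MulAction.exists_smul_eq G (h.two.toSylow h.idx) (hS.toSylow hSi)
  have hSP : S = T.map (MulAut.conj g).toMonoidHom := by
    rw [← IsPGroup.toSylow_coe hS hSi, ← hg]
    show _ = _
    rw [Sylow.coe_subgroup_smul, IsPGroup.toSylow_coe]
    rfl
  have h' := h.conj g
  rw [← hSP] at h'
  obtain ⟨k0, hk0, hc0⟩ := card_pgroup hb hR
  have hd := card_dvd_kernel ht2.symm hb w hw hR b S hS hn (fun k j hk _ => by
    have : k = k0 := Nat.pow_right_injective ht.two_le (by show t ^ k = t ^ k0; rw [← hk, ← hc0])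
    omega)
  set K := S ⊓ centralizer (R : Set G) with hK
  have hK1 : K ≠ ⊥ := by
    intro h1
    rw [h1, card_bot, one_mul] at hd
    have h3 := (card_sylow ha hSi).trans hd
    exact absurd ((Nat.pow_dvd_pow_iff_le_right (by norm_num)).1 h3) (by omega)
  have hzK : g * z * g⁻¹ ∈ K := by
    refine h'.mem_of_normal inf_le_left hK1 ?_
    refine (le_inf le_normalizer (hn.trans ?_)).trans inf_normalizer_le_normalizer_inf
    exact normalizer_le_cent R
  refine h'.eq_bot ?_ (h'.le.trans hn) fun x hx => ?_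
  · intro h1
    rw [hc0] at h1
    exact ht2 ((Nat.prime_dvd_prime_iff_eq Nat.prime_two ht).1 (Nat.prime_two.dvd_of_dvd_pow h1)).symm
  · exact (mem_centralizer_iff.1 hzK.2 x hx)

/-! ### no component -/

section Core

variable {H : Subgroup G}

/-- a normal subgroup of `H` of even order contains `z` -/
theorem TwoLoc.mem_of_even (h : TwoLoc T Q z) (hT : T ≤ H) {N : Subgroup H} (hN : N.Normal) (h2 : 2 ∣ Nat.card N) :
    ∃ n ∈ N, (n : G) = z := by
  have hf2 : Fact (Nat.Prime 2) := ⟨Nat.prime_two⟩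
  have hTH : IsPGroup 2 (T.subgroupOf H) :=
    h.two.of_injective (Subgroup.subgroupOfEquivOfLe hT).toMonoidHom (Subgroup.subgroupOfEquivOfLe hT).injective
  have hTi : ¬ 2 ∣ (T.subgroupOf H).index := fun h1 => h.idx (h1.trans (relIndex_dvd_index_of_le hT))
  obtain ⟨t, ht⟩ := exists_prime_orderOf_dvd_card' 2 h2
  have ht' : orderOf (t : H) = 2 := by rw [orderOf_coe, ht]
  have hz2 : IsPGroup 2 (zpowers (t : H)) := IsPGroup.of_card (n := 1) (by rw [Nat.card_zpowers, ht', pow_one])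
  obtain ⟨P, hP⟩ := hz2.exists_le_sylow
  obtain ⟨g, hg⟩ := MulAction.exists_smul_eq H P (hTH.toSylow hTi)
  have h4 : g * (t : H) * g⁻¹ ∈ T.subgroupOf H := by
    have h5 : g * (t : H) * g⁻¹ ∈ ((g • P : Sylow 2 H) : Subgroup H) := by
      rw [Sylow.coe_subgroup_smul]
      exact ⟨_, hP (mem_zpowers (t : H)), rfl⟩
    rw [hg, IsPGroup.toSylow_coe] at h5
    exact h5
  have h6 : g * (t : H) * g⁻¹ ∈ N := hN.conj_mem _ t.2 g
  set N' : Subgroup G := N.map H.subtype ⊓ T with hN'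
  have h7 : ((g * (t : H) * g⁻¹ : H) : G) ∈ N' := ⟨⟨_, h6, rfl⟩, mem_subgroupOf.1 h4⟩
  have h8 : N' ≠ ⊥ := by
    intro h9
    rw [h9, mem_bot] at h7
    have h10 : (g * (t : H) * g⁻¹ : H) = 1 := Subtype.ext h7
    have h11 : (t : H) = 1 := by
      have : g⁻¹ * (g * (t : H) * g⁻¹) * g = t := by group
      rw [h10] at this
      rw [← this]
      group
    rw [h11, orderOf_one] at ht'
    norm_num at ht'
  have h12 : z ∈ N' := by
    refine h.mem_of_normal inf_le_right h8 ?_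
    have key : ∀ y ∈ T, ∀ x ∈ N', y * x * y⁻¹ ∈ N' := by
      rintro y hy x ⟨⟨n, hn, rfl⟩, hx⟩
      refine ⟨⟨⟨y, hT hy⟩ * n * ⟨y, hT hy⟩⁻¹, hN.conj_mem _ hn _, rfl⟩, ?_⟩
      exact T.mul_mem (T.mul_mem hy hx) (T.inv_mem hy)
    intro y hy
    rw [mem_normalizer_iff]
    intro x
    refine ⟨key y hy x, fun h9 => ?_⟩
    have h10 := key y⁻¹ (inv_mem hy) _ h9
    have h11 : y⁻¹ * (y * x * y⁻¹) * y⁻¹⁻¹ = x := by group
    rwa [h11] at h10
  obtain ⟨⟨n, hn, hnz⟩, -⟩ := h12
  exact ⟨n, hn, hnz⟩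

/-- a component does not centralise `z` -/
theorem TwoLoc.not_comp (h : TwoLoc T Q z) (hT : T ≤ H) {Y : Subgroup H} (hY : IsComponent Y)
    (hc : ∀ y ∈ Y, (y : G) * z = z * y) : False := by
  have hf2 : Fact (Nat.Prime 2) := ⟨Nat.prime_two⟩
  have hQ2 : IsPGroup 2 (Q.subgroupOf H) :=
    (h.two.to_le h.le).of_injective (Subgroup.subgroupOfEquivOfLe (h.le.trans hT)).toMonoidHom
      (Subgroup.subgroupOfEquivOfLe (h.le.trans hT)).injective
  have hsol : Group.IsSolvable (Q.subgroupOf H) := by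
    have := hQ2.isNilpotent
    infer_instance
  have hn : Y ≤ normalizer ((Q.subgroupOf H : Subgroup H) : Set H) := by
    have key : ∀ y ∈ Y, ∀ x ∈ Q.subgroupOf H, y * x * y⁻¹ ∈ Q.subgroupOf H := fun y hy x hx =>
      mem_subgroupOf.2 (h.conj_mem _ (hc y hy) _ (mem_subgroupOf.1 hx))
    intro y hy
    rw [mem_normalizer_iff]
    intro x
    refine ⟨key y hy x, fun h9 => ?_⟩
    have h10 := key y⁻¹ (inv_mem hy) _ h9
    have h11 : y⁻¹ * (y * x * y⁻¹) * y⁻¹⁻¹ = x := by group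
    rwa [h11] at h10
  have h1 := Components.component_commutator_solvable hY hn hsol
  rw [commutator_eq_bot_iff_le_centralizer] at h1
  have h2 : Y ≤ Q.subgroupOf H := by
    intro y hy
    refine mem_subgroupOf.2 (h.self _ (hc y hy) fun x hx => ?_)
    have h3 := (mem_centralizer_iff.1 (h1 hy)) ⟨x, hT (h.le hx)⟩ (mem_subgroupOf.2 hx)
    exact (congrArg Subtype.val h3).symm
  apply Components.quasisimple_not_isSolvable hY.2
  exact Group.isSolvable_of_isSolvable_injective (f := inclusion h2) (inclusion_injective h2)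

theorem card_out_odd {Y : Type*} [Group Y] [Finite Y] [IsSimpleGroup Y] (hna : ∃ a b : Y, a * b ≠ b * a)
    (h3 : ¬ 3 ∣ Nat.card Y) : ∃ n, Odd n ∧ Nat.card (MulAut Y) ∣ n * Nat.card Y := by
  obtain ⟨F, _, _, m, hm, hF, ⟨e⟩⟩ := Cfsg.Agent.ThreePrime.Main.isoSuzuki hna h3
  refine ⟨2 * m + 1, ⟨m, rfl⟩, ?_⟩
  have h1 := Cfsg.Agent.S2126.result hm hF
  have h2 : Nat.card (MulAut Y) = Nat.card (MulAut ↥(Cfsg.Lie.Sz F (2 ^ (m + 1)))) :=
    Nat.card_congr (MulAut.congr e).toEquiv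
  have h4 := Subgroup.card_eq_card_quotient_mul_card_subgroup (Cfsg.Inn ↥(Cfsg.Lie.Sz F (2 ^ (m + 1))))
  rw [h2, h4, Nat.card_congr e.toEquiv]
  refine mul_dvd_mul (dvd_of_eq h1) ?_
  exact Subgroup.card_range_dvd _

/-- **`C_H(O_2(H)) ≤ O_2(H)`.** -/
theorem TwoLoc.core (h : TwoLoc T Q z) (hT : T ≤ H) (h3 : ¬ 3 ∣ Nat.card H) (hO : pPrimeCore 2 H = ⊥)
    (hN : ∀ m : ℕ, 1 ≤ m → szc m ∣ Nat.card H → szc m = 29120) (h7 : 2 ^ 7 ∣ Nat.card H)
    (h169 : ¬ 13 * 13 ∣ Nat.card H) : centralizer (Cfsg.pCore 2 H : Set H) ≤ Cfsg.pCore 2 H := by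
  have hF : Fact (Nat.Prime 2) := ⟨Nat.prime_two⟩
  have hfit : fittingSubgroup H = pCore 2 H := PConstrained.fittingSubgroup_eq_pCore_of_pPrimeCore_eq_bot 2 hO
  suffices hlay : layer H = ⊥ by
    apply CharP.centralizer_pCore_le_of_genFitting_eq
    rw [generalizedFittingSubgroup, hlay, bot_sup_eq, hfit]
  by_contra hne
  rw [ComponentExists.layer_eq_bot_iff] at hne
  push Not at hne
  obtain ⟨Y, hY⟩ := hne
  -- `O_2(H) = 1`
  have hO2 : pCore 2 H = ⊥ := by
    by_contra hne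
    have hnt : Nontrivial (pCore 2 H) := (nontrivial_iff_ne_bot _).mpr hne
    have hpg : IsPGroup 2 (pCore 2 H) := Lib.Cores.pCore_isPGroup 2
    have h2 : 2 ∣ Nat.card (pCore 2 H) := by
      obtain ⟨n, hc⟩ := hpg.exists_card_eq
      rw [hc]
      refine dvd_pow_self 2 ?_
      rintro rfl
      rw [pow_zero] at hc
      exact hne (card_eq_one.1 hc)
    have hnorm := Lib.Cores.pCore_normal (G := H) 2
    obtain ⟨n, hn, hnz⟩ := h.mem_of_even hT hnorm h2
    have h1 : ⁅Y, pCore 2 H⁆ = ⊥ := by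
      refine Components.component_commutator_solvable hY ?_ ?_
      · rw [normalizer_eq_top_iff.mpr hnorm]; exact le_top
      · have := hpg.isNilpotent
        infer_instance
    rw [commutator_eq_bot_iff_le_centralizer] at h1
    refine h.not_comp hT hY fun y hy => ?_
    rw [← hnz]
    exact (congrArg Subtype.val ((mem_centralizer_iff.mp (h1 hy)) n hn)).symm
  have hfit1 : fittingSubgroup H = ⊥ := hfit.trans hO2
  have hcard : ∀ {Y : Subgroup H}, IsComponent Y → Nat.card Y = 29120 := by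
    intro Y hY
    have hsim : IsSimpleGroup Y := Cfsg.Agent.H507.SzCase.component_simple hfit1 hY
    have h1 := card_quot h3 hN hY
    have h2 := Subgroup.card_eq_card_quotient_mul_card_subgroup (center Y)
    rcases hsim.eq_bot_or_eq_top_of_normal (center Y) inferInstance with h | h
    · rw [h, card_bot, mul_one] at h2
      rw [h2, ← h1, h]
    · exfalso
      rw [h] at h1
      have : Nat.card (Y ⧸ (⊤ : Subgroup Y)) = 1 := by
        rw [← Subgroup.index, index_top]
      omega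
  have hsim : IsSimpleGroup Y := Cfsg.Agent.H507.SzCase.component_simple hfit1 hY
  have hna : ∃ a b : Y, a * b ≠ b * a := by
    by_contra hcon
    push Not at hcon
    apply Components.quasisimple_not_isSolvable hY.2
    exact IsSimpleGroup.comm_iff_isSolvable.mp hcon
  -- `Y` is the only component
  have huniq : ∀ Z : Subgroup H, IsComponent Z → Z = Y := by
    intro Z hZ
    by_contra hZY
    have h1 := Components.component_le_centralizer_of_ne hZ hY hZY
    have h2 : Z ⊓ Y = ⊥ := by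
      have h4 : (Z ⊓ Y).subgroupOf Y ≤ center Y := by
        intro y hy
        rw [mem_center_iff]
        intro g
        apply Subtype.ext
        exact (mem_centralizer_iff.1 (h1 (mem_subgroupOf.1 hy).1)) g g.2
      have h5 : center Y = ⊥ := by
        rcases hsim.eq_bot_or_eq_top_of_normal (center Y) inferInstance with h6 | h6
        · exact h6
        · exfalso
          obtain ⟨a, b, hab⟩ := hna
          apply hab
          have h7 : b ∈ center Y := by rw [h6]; exact mem_top _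
          exact (mem_center_iff.1 h7) a
      rw [h5, le_bot_iff, subgroupOf_eq_bot] at h4
      rw [disjoint_iff] at h4
      rw [← h4]
      rw [inf_assoc, inf_idem]
    let f : Y × Z →* H := MonoidHom.noncommCoprod Y.subtype Z.subtype
      (fun a b => (mem_centralizer_iff.1 (h1 b.2)) a a.2)
    have hf : Function.Injective f := by
      rw [injective_iff_map_eq_one]
      rintro ⟨a, b⟩ hab
      have h5 : (a : H) * b = 1 := hab
      have h6 : (b : H) ∈ Z ⊓ Y := ⟨b.2, by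
        have h7 : (b : H) = (a : H)⁻¹ := eq_inv_of_mul_eq_one_right h5
        rw [h7]
        exact Y.inv_mem a.2⟩
      rw [h2, mem_bot] at h6
      rw [h6, mul_one] at h5
      exact Prod.ext (Subtype.ext h5) (Subtype.ext h6)
    apply h169
    have h5 := card_dvd_of_injective f hf
    rw [Nat.card_prod, hcard hY, hcard hZ] at h5
    exact dvd_trans (by norm_num) h5
  have hlay : layer H = Y := by
    apply le_antisymm
    · rw [Components.layer_le_iff]
      exact fun K hK => (huniq K hK).le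
    · exact Components.component_le_layer hY
  have hYn : Y.Normal := hlay ▸ Components.layer_normal H
  have hCn : (centralizer (Y : Set H)).Normal := inferInstance
  -- the centralizer of `Y` has odd order
  have hodd : ¬ 2 ∣ Nat.card (centralizer (Y : Set H)) := by
    intro h2
    obtain ⟨n, hn, hnz⟩ := h.mem_of_even hT hCn h2
    refine h.not_comp hT hY fun y hy => ?_
    rw [← hnz]
    exact congrArg Subtype.val ((mem_centralizer_iff.mp hn) y hy)
  have hC1 : centralizer (Y : Set H) = ⊥ := by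
    rw [eq_bot_iff, ← hO]
    exact Lib.Cores.le_pPrimeCore hCn ((Nat.Prime.coprime_iff_not_dvd Nat.prime_two).2 hodd).symm
  have hinj : Function.Injective (MulAut.conjNormal (H := Y) : H →* MulAut Y) := by
    rw [injective_iff_map_eq_one]
    intro x hx
    have h1 : x ∈ centralizer (Y : Set H) := by
      rw [mem_centralizer_iff]
      intro y hy
      have h2 := DFunLike.congr_fun hx ⟨y, hy⟩
      have h4 := congrArg Subtype.val h2
      rw [MulAut.conjNormal_apply] at h4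
      have h5 : x * y * x⁻¹ = y := h4
      calc y * x = x * y * x⁻¹ * x := by rw [h5]
        _ = x * y := by group
    rw [hC1, mem_bot] at h1
    exact h1
  obtain ⟨n, hn, hd⟩ := card_out_odd hna (fun h4 => h3 (h4.trans (card_subgroup_dvd_card Y)))
  have h4 := h7.trans ((card_dvd_of_injective _ hinj).trans hd)
  rw [hcard hY] at h4
  obtain ⟨k, rfl⟩ := hn
  omega

end Core

variable {π : Set ℕ} {S : Type*} [Group S] [Finite S]

/-- `O_{2'}(H) = 1` -/
theorem core_bot (H : Subgroup S) (hi : ¬ 2 ∣ H.index) (hinv : ∀ r : ℕ, r.Prime → r ≠ 2 → r ∣ Nat.card H → Inv1 2 r S) :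
    pPrimeCore 2 H = ⊥ := by
  have hF2 : Fact (Nat.Prime 2) := ⟨Nat.prime_two⟩
  by_contra hO
  have hcop := Lib.Cores.pPrimeCore_coprime (G := H) 2
  have hnt : Nontrivial ↥(pPrimeCore 2 H) := by
    rw [← not_subsingleton_iff_nontrivial]
    intro h
    exact hO (Subgroup.eq_bot_of_subsingleton _)
  have hsolN : Group.IsSolvable ↥(pPrimeCore 2 H) := by
    apply Cfsg.Agent.S0205.result
    exact (Nat.coprime_comm.mp hcop).odd_of_left
  obtain ⟨t, ht, N, hNc, -, hNp, hN'⟩ :=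
    Lib.SolvableMinNormal.exists_characteristic_pgroup (G := ↥(pPrimeCore 2 H))
  have hft : Fact t.Prime := ⟨ht⟩
  have hMn : (N.map (pPrimeCore 2 H).subtype).Normal := by
    have := hNc
    have h3 : (pPrimeCore 2 H).Normal := Lib.Cores.pPrimeCore_normal 2
    exact ConjAct.normal_of_characteristic_of_normal
  set R : Subgroup H := N.map (pPrimeCore 2 H).subtype with hR
  have hRp : IsPGroup t R := hNp.map _
  have hRne : R ≠ ⊥ := by
    intro h
    rw [hR, map_eq_bot_iff_of_injective _ (subtype_injective _)] at h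
    exact hN' h
  have htR : t ∣ Nat.card R := by
    obtain ⟨k, hk⟩ := hRp.exists_card_eq
    rw [hk]
    rcases Nat.eq_zero_or_pos k with h | h
    · exfalso
      rw [h, pow_zero] at hk
      exact hRne (card_eq_one.1 hk)
    · exact dvd_pow_self t (by omega)
  have hRle : Nat.card R ∣ Nat.card ↥(pPrimeCore 2 H) := by
    apply card_dvd_of_le
    rw [hR]
    exact map_subtype_le _
  have ht2 : t ≠ 2 := by
    rintro rfl
    have h3 : 2 ∣ Nat.card ↥(pPrimeCore 2 H) := htR.trans hRle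
    have h4 := Nat.Coprime.eq_one_of_dvd hcop.symm h3
    exact absurd h4 (by norm_num)
  have htH : t ∣ Nat.card H := htR.trans (card_subgroup_dvd_card R)
  have hHA : H ≤ normalizer ((R.map H.subtype : Subgroup S) : Set S) := by
    have h7 := le_normalizer_map (H := R) H.subtype
    rw [normalizer_eq_top_iff.2 hMn] at h7
    have h8 : (⊤ : Subgroup H).map H.subtype = H := by rw [← MonoidHom.range_eq_map, range_subtype]
    rw [h8] at h7
    exact h7
  obtain ⟨P⟩ : Nonempty (Sylow 2 H) := inferInstance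
  have hPi : ¬ 2 ∣ ((P : Subgroup H).map H.subtype).index := by
    rw [index_map_subtype]
    intro h
    rcases Nat.prime_two.dvd_mul.1 h with h | h
    · exact P.not_dvd_index h
    · exact hi h
  have h9 := hinv t ht ht2 htH ((P : Subgroup H).map H.subtype) (P.isPGroup'.map _) hPi (R.map H.subtype)
    (hRp.map _) ((map_subtype_le _).trans hHA)
  rw [map_eq_bot_iff_of_injective _ (subtype_injective _)] at h9
  exact hRne h9

/-- **`Good π S`.** -/
theorem good_of_twoLoc [IsSimpleGroup S] (hna : ¬ IsMulCommutative S) (hE : IsEPiGroup π S) (h2 : 2 ∈ π) (h3 : 3 ∉ π)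
    {T Q : Subgroup S} {z : S} (L : TwoLoc T Q z)
    (hN : ∀ m : ℕ, 1 ≤ m → szc m ∣ Nat.card S → szc m = 29120) (h7 : 2 ^ 7 ∣ Nat.card S)
    (h169 : ¬ 13 * 13 ∣ Nat.card S) (hinv : ∀ r : ℕ, r.Prime → r ≠ 2 → r ≠ 3 → r ∣ Nat.card S → Inv1 2 r S) :
    PiN π (Nat.card S) ∨ Good π S := by
  have hF2 : Fact (Nat.Prime 2) := ⟨Nat.prime_two⟩
  refine good_or_pi hE h2 (two_dvd_card hna) fun H hH hH1 hH2 => ?_
  have h3H : ¬ 3 ∣ Nat.card H := fun h => h3 (hH.1 3 Nat.prime_three h)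
  have hHS : Nat.card H ∣ Nat.card S := card_subgroup_dvd_card H
  have hi : ¬ 2 ∣ H.index := hH.2 2 Nat.prime_two h2
  have hO : pPrimeCore 2 H = ⊥ := core_bot H hi fun r hr hr2 hrH =>
    hinv r hr hr2 (by rintro rfl; exact h3H hrH) (hrH.trans hHS)
  -- a conjugate of `T` in `H`
  obtain ⟨P⟩ : Nonempty (Sylow 2 H) := inferInstance
  have hPi : ¬ 2 ∣ ((P : Subgroup H).map H.subtype).index := by
    rw [index_map_subtype]
    intro h
    rcases Nat.prime_two.dvd_mul.1 h with h | h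
    · exact P.not_dvd_index h
    · exact hi h
  have hP2 : IsPGroup 2 ((P : Subgroup H).map H.subtype) := P.isPGroup'.map _
  obtain ⟨g, hg⟩ := MulAction.exists_smul_eq S (L.two.toSylow L.idx) (hP2.toSylow hPi)
  have hTP : (P : Subgroup H).map H.subtype = T.map (MulAut.conj g).toMonoidHom := by
    rw [← IsPGroup.toSylow_coe hP2 hPi, ← hg, Sylow.coe_subgroup_smul, IsPGroup.toSylow_coe]
    rfl
  have L' := L.conj g
  rw [← hTP] at L'
  have h7H : 2 ^ 7 ∣ Nat.card H := by
    rw [← H.card_mul_index] at h7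
    exact (Nat.Coprime.pow_left _ ((Nat.Prime.coprime_iff_not_dvd Nat.prime_two).2 hi)).dvd_of_dvd_mul_right h7
  exact good_of_stellmacher hna h2 H hH h3H (L'.core (map_subtype_le _) h3H hO
    (fun m hm hd => hN m hm (hd.trans hHS)) h7H fun h => h169 (h.trans hHS))

end Cfsg.Agent.H565.TwoLoc
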