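import Cfsg.Agent.H565.NoMin
import Cfsg.Agent.H42.Tw.F4Asm

/-!
# The `3`-rank of `²F₄(q)` is two

* `exists_ab_pair` : an abelian subgroup of rank at most two from a pair of commuting subgroups;
* `prankLE_of_index` : an abelian subgroup of rank two and index `p` in a Sylow subgroup;
* `prankLE_three_twF4` : `PRankLE 3 2 (²F₄(q))`.
-/

set_option autoImplicit false

namespace Cfsg.Agent.H565.F4R

open Subgroup Cfsg Cfsg.Agent.H795 Cfsg.Agent.H42.Tw Cfsg.Agent.Lib Cfsg.Agent.H565.NM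

open scoped commutatorElement

universe u

variable {G : Type u} [Group G]

/-- **An abelian subgroup of rank at most two.** -/
theorem exists_ab_pair [Finite G] {p : ℕ} [hp : Fact p.Prime] (L M : Subgroup G) (s : G)
    (hcomm : ∀ l ∈ L, ∀ m ∈ M, l * m = m * l) (hs1 : ∀ l ∈ L, s * l * s⁻¹ ∈ M)
    (hcyc : ∀ P : Subgroup G, P ≤ L → IsPGroup p P → IsCyclic P)
    (hq : ∀ K : Subgroup L, K.Normal → (∀ g : L, ∃ k : ℕ, g ^ p ^ k ∈ K) → K = ⊤) :
    ∃ D : Subgroup G, (∀ a ∈ D, ∀ b ∈ D, a * b = b * a) ∧ Nat.card D = p ^ (2 * (Nat.card L).factorization p) ∧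
      ∀ E ≤ D, (∀ e ∈ E, e ^ p = 1) → Nat.card E ≤ p ^ 2 := by
  classical
  obtain ⟨P⟩ : Nonempty (Sylow p L) := inferInstance
  set PL : Subgroup G := (P : Subgroup L).map L.subtype with hPL
  have hPLL : PL ≤ L := map_subtype_le _
  have hPLp : IsPGroup p PL := P.2.map _
  have hPLc : IsCyclic PL := hcyc PL hPLL hPLp
  have hcPL : Nat.card PL = p ^ (Nat.card L).factorization p := by
    rw [hPL, Nat.card_congr ((P : Subgroup L).equivMapOfInjective L.subtype L.subtype_injective).toEquiv.symm,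
      Sylow.card_eq_multiplicity]
  by_cases hbot : (P : Subgroup L) = ⊥
  · -- `p` does not divide `|L|`
    have h1 : (Nat.card L).factorization p = 0 := by
      have h2 := Sylow.card_eq_multiplicity P
      rw [hbot, card_bot] at h2
      by_contra h3
      exact absurd h2.symm (Nat.one_lt_pow h3 hp.out.one_lt).ne'
    refine ⟨⊥, fun a ha b hb => ?_, by rw [h1, card_bot, mul_zero, pow_zero], fun E hE _ => ?_⟩
    · rw [mem_bot] at ha hb
      rw [ha, hb]
    · rw [le_bot_iff.1 hE, card_bot]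
      exact Nat.one_le_pow _ _ hp.out.pos
  have hPcomm : IsMulCommutative (P : Subgroup L) := by
    have : IsMulCommutative PL := IsCyclic.isMulCommutative
    exact isMulCommutative_of fun a ha b hb => Subtype.ext
      (comm_of this (mem_map_of_mem L.subtype ha) (mem_map_of_mem L.subtype hb))
  obtain ⟨c, hc, z, hz, hzp, hcz⟩ := exists_moving P hPcomm hbot hq
  -- no element of order `p` of `PL` is centralised by `c`
  have hmove : ∀ x ∈ PL, x ^ p = 1 → (c : G) * x * (c : G)⁻¹ = x → x = 1 := by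
    intro x hx hxp hcx
    by_contra hx1
    apply hcz
    apply Subtype.ext
    have h1 : (z : G) ∈ centralizer {(c : G)} := by
      refine mem_of_pow hPLc hx hxp hx1 (mem_map_of_mem L.subtype hz) (congrArg Subtype.val hzp) ?_
      rw [mem_centralizer_singleton_iff]
      exact (mul_inv_eq_iff_eq_mul.1 hcx).symm
    rw [mem_centralizer_singleton_iff] at h1
    change (c : G) * z * (c : G)⁻¹ = z
    rw [← h1, mul_inv_cancel_right]
  -- `PL ∩ M = 1`
  have hinf : ∀ x ∈ PL, x ∈ M → x = 1 := by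
    intro x hx hxM
    by_contra hx1
    obtain ⟨k, hk⟩ := hPLp ⟨x, hx⟩
    have hk' : x ^ p ^ k = 1 := congrArg Subtype.val hk
    have h1 : ∃ k : ℕ, x ^ p ^ k = 1 := ⟨k, hk'⟩
    have h2 := Nat.find_spec h1
    have h3 : Nat.find h1 ≠ 0 := by
      intro h0
      rw [h0, pow_zero, pow_one] at h2
      exact hx1 h2
    have h4 := Nat.find_min h1 (m := Nat.find h1 - 1) (by omega)
    apply h4
    apply hmove _ (pow_mem hx _)
    · rw [← pow_mul, ← pow_succ, Nat.sub_add_cancel (Nat.one_le_iff_ne_zero.2 h3)]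
      exact h2
    · rw [hcomm c c.2 _ (pow_mem hxM _), mul_inv_cancel_right]
  -- the second group
  set PM : Subgroup G := PL.map (MulAut.conj s).toMonoidHom with hPM
  have hPMM : PM ≤ M := by
    rintro _ ⟨x, hx, rfl⟩
    exact hs1 x (hPLL hx)
  have hcommP : ∀ x ∈ PL, ∀ y ∈ PM, x * y = y * x := fun x hx y hy => hcomm x (hPLL hx) y (hPMM hy)
  let D : Subgroup G :=
    { carrier := {g | ∃ x ∈ PL, ∃ y ∈ PM, g = x * y}
      one_mem' := ⟨1, one_mem _, 1, one_mem _, by simp⟩
      mul_mem' := by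
        rintro _ _ ⟨x, hx, y, hy, rfl⟩ ⟨x', hx', y', hy', rfl⟩
        refine ⟨x * x', mul_mem hx hx', y * y', mul_mem hy hy', ?_⟩
        calc x * y * (x' * y') = x * (y * x') * y' := by group
          _ = x * (x' * y) * y' := by rw [hcommP x' hx' y hy]
          _ = x * x' * (y * y') := by group
      inv_mem' := by
        rintro _ ⟨x, hx, y, hy, rfl⟩
        refine ⟨x⁻¹, inv_mem hx, y⁻¹, inv_mem hy, ?_⟩
        rw [mul_inv_rev, hcommP x⁻¹ (inv_mem hx) y⁻¹ (inv_mem hy)] }
  have hPLcomm : ∀ a ∈ PL, ∀ b ∈ PL, a * b = b * a := fun a ha b hb =>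
    comm_of (IsCyclic.isMulCommutative (α := PL)) ha hb
  have hPMcomm : ∀ a ∈ PM, ∀ b ∈ PM, a * b = b * a := by
    rintro _ ⟨a, ha, rfl⟩ _ ⟨b, hb, rfl⟩
    rw [← map_mul, ← map_mul, hPLcomm a ha b hb]
  have hcardD : Nat.card D = Nat.card PL * Nat.card PM := by
    rw [← Nat.card_prod]
    symm
    refine Nat.card_eq_of_bijective (fun x : PL × PM => (⟨x.1 * x.2, x.1, x.1.2, x.2, x.2.2, rfl⟩ : D)) ⟨?_, ?_⟩
    · rintro ⟨⟨x, hx⟩, ⟨y, hy⟩⟩ ⟨⟨x', hx'⟩, ⟨y', hy'⟩⟩ h
      have h1 : x * y = x' * y' := congrArg Subtype.val h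
      have h2 : x'⁻¹ * x = y' * y⁻¹ := by
        rw [eq_mul_inv_iff_mul_eq, mul_assoc, h1, inv_mul_cancel_left]
      have h3 : x'⁻¹ * x = 1 := hinf _ (mul_mem (inv_mem hx') hx) (by
        rw [h2]; exact mul_mem (hPMM hy') (inv_mem (hPMM hy)))
      have h4 : x = x' := (inv_mul_eq_one.1 h3).symm
      subst h4
      have h5 : y = y' := mul_left_cancel h1
      subst h5
      rfl
    · rintro ⟨g, x, hx, y, hy, rfl⟩
      exact ⟨(⟨x, hx⟩, ⟨y, hy⟩), rfl⟩
  have hcPM : Nat.card PM = Nat.card PL :=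
    (Nat.card_congr (PL.equivMapOfInjective _ (MulAut.conj s).injective).toEquiv).symm
  have hPMc : IsCyclic PM := by
    have e := PL.equivMapOfInjective (MulAut.conj s).toMonoidHom (MulAut.conj s).injective
    exact isCyclic_of_surjective e.toMonoidHom e.surjective
  refine ⟨D, ?_, by rw [hcardD, hcPM, hcPL, ← pow_add, two_mul], fun E hE hEp => ?_⟩
  · rintro _ ⟨x, hx, y, hy, rfl⟩ _ ⟨x', hx', y', hy', rfl⟩
    have e1 := hcommP x' hx' y hy
    have e2 := hcommP x hx y' hy'
    calc x * y * (x' * y') = x * (y * x') * y' := by group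
      _ = x * (x' * y) * y' := by rw [e1]
      _ = (x * x') * (y * y') := by group
      _ = (x' * x) * (y' * y) := by rw [hPLcomm x hx x' hx', hPMcomm y hy y' hy']
      _ = x' * (x * y') * y := by group
      _ = x' * (y' * x) * y := by rw [e2]
      _ = _ := by group
  · -- the elements of order `p` of the cyclic factors
    have hbd : ∀ C : Subgroup G, IsCyclic C → Nat.card {x : C // x ^ p = 1} ≤ p := by
      intro C hC
      have := Fintype.ofFinite C
      have h1 := IsCyclic.card_pow_eq_one_le (α := C) (n := p) hp.out.pos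
      rw [Nat.card_eq_fintype_card, Fintype.card_subtype]
      exact h1
    have hdec : ∀ e : E, ∃ w : {x : PL // x ^ p = 1} × {x : PM // x ^ p = 1},
        ((w.1.1 : PL) : G) * ((w.2.1 : PM) : G) = e := by
      rintro ⟨e, he⟩
      obtain ⟨x, hx, y, hy, rfl⟩ := hE he
      have hxy' : x ^ p * y ^ p = 1 := by
        have hxy := hEp _ he
        rwa [(show Commute x y from hcommP x hx y hy).mul_pow] at hxy
      have hxp : x ^ p = 1 := by
        apply hinf _ (pow_mem hx p)
        rw [eq_inv_of_mul_eq_one_left hxy']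
        exact inv_mem (pow_mem (hPMM hy) p)
      have hyp : y ^ p = 1 := by rwa [hxp, one_mul] at hxy'
      exact ⟨⟨⟨⟨x, hx⟩, Subtype.ext hxp⟩, ⟨⟨y, hy⟩, Subtype.ext hyp⟩⟩, rfl⟩
    choose f hf using hdec
    have hinj : Function.Injective f := fun a b hab => Subtype.ext (by rw [← hf a, ← hf b, hab])
    calc Nat.card E ≤ Nat.card ({x : PL // x ^ p = 1} × {x : PM // x ^ p = 1}) :=
        Nat.card_le_card_of_injective f hinj
      _ = Nat.card {x : PL // x ^ p = 1} * Nat.card {x : PM // x ^ p = 1} := Nat.card_prod _ _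
      _ ≤ p * p := Nat.mul_le_mul (hbd _ hPLc) (hbd _ hPMc)
      _ = p ^ 2 := (pow_two p).symm

/-- a subgroup of index dividing `p` in a `p`-group is normal -/
theorem normal_of_index_dvd {S : Type*} [Group S] [Finite S] {p : ℕ} [hp : Fact p.Prime] (hS : IsPGroup p S)
    {H : Subgroup S} (h : H.index ∣ p) : H.Normal := by
  rcases (Nat.dvd_prime hp.out).1 h with h1 | h1
  · rw [index_eq_one] at h1
    rw [h1]
    infer_instance
  · apply normal_of_index_eq_minFac_card
    obtain ⟨n, hn⟩ := IsPGroup.iff_card.1 hS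
    have hn0 : n ≠ 0 := by
      rintro rfl
      have h2 := H.index_dvd_card
      rw [hn, h1, pow_zero] at h2
      exact hp.out.one_lt.ne' (Nat.dvd_one.1 h2)
    rw [h1, hn, hp.out.pow_minFac hn0]

theorem pow_class_two {p : ℕ} (hp : p.Prime) (hp2 : p ≠ 2) {x y z : G} (hx : x ^ p = 1) (hy : y ^ p = 1)
    (hzx : z * x = x * z) (hzy : z * y = y * z) (hxy : x * y = z * (y * x)) (i : ℤ) : (x ^ i * y) ^ p = 1 := by
  have e0 : y * x * y⁻¹ = z⁻¹ * x := by
    have : y * x = z⁻¹ * (x * y) := by rw [hxy]; group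
    rw [this]; group
  have e1 : ⁅y, x ^ i⁆ = (z⁻¹) ^ i := by
    have h1 : y * x ^ i * y⁻¹ = (y * x * y⁻¹) ^ i := (conj_zpow).symm
    have h2 : Commute z⁻¹ x := (show Commute z x from hzx).inv_left
    rw [commutatorElement_def, h1, e0, h2.mul_zpow, mul_inv_cancel_right]
  have hzx' : Commute ((z⁻¹) ^ i) x := (show Commute z x from hzx).inv_left.zpow_left i
  have hzy' : Commute ((z⁻¹) ^ i) y := (show Commute z y from hzy).inv_left.zpow_left i
  have e2 : (x ^ i) ^ p = 1 := by
    rw [← zpow_natCast, ← zpow_mul, mul_comm, zpow_mul, zpow_natCast, hx, one_zpow]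
  rw [CoprimeStab.mul_pow_prime_of_class_two hp hp2 (x := x ^ i) (y := y) (by
    rw [e1]; exact hzx'.zpow_right i) (by rw [e1]; exact hzy') (by rw [e2]; exact Commute.one_left y), e2, hy,
    one_mul]

/-- **An abelian subgroup of rank two and index `p` in a nonabelian Sylow subgroup.** -/
theorem prankLE_of_index [Finite G] {p : ℕ} [hp : Fact p.Prime] (hp2 : p ≠ 2) {D : Subgroup G} {n : ℕ}
    (hab : ∀ a ∈ D, ∀ b ∈ D, a * b = b * a) (hD : Nat.card D = p ^ n)
    (hG : (Nat.card G).factorization p ≤ n + 1) (hr : ∀ E ≤ D, (∀ e ∈ E, e ^ p = 1) → Nat.card E ≤ p ^ 2)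
    {x y z : G} (hx : x ^ p = 1) (hy : y ^ p = 1) (hzx : z * x = x * z) (hzy : z * y = y * z)
    (hxy : x * y = z * (y * x)) (hz : z ≠ 1) : PRankLE p 2 G := by
  classical
  have hDp : IsPGroup p D := IsPGroup.of_card hD
  obtain ⟨S, hDS⟩ := hDp.exists_le_sylow
  obtain ⟨P, hP, hxP, hyP⟩ := exists_pgroup (p := p) hx hy hzx hzy hxy
  obtain ⟨Q, hQ⟩ := hP.exists_le_sylow
  obtain ⟨g, hg⟩ := MulAction.exists_smul_eq G Q S
  have hmem : ∀ x ∈ P, g * x * g⁻¹ ∈ (S : Subgroup G) := by
    intro x hx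
    rw [← hg, Sylow.coe_subgroup_smul]
    exact Subgroup.smul_mem_pointwise_smul x (MulAut.conj g) (Q : Subgroup G) (hQ hx)
  -- the index
  have hidx : D.relIndex S ∣ p := by
    have h1 := card_mul_relIndex hDS
    rw [hD, Sylow.card_eq_multiplicity] at h1
    obtain ⟨m, hm⟩ := S.2.index (D.subgroupOf S)
    change D.relIndex S = p ^ m at hm
    rw [hm, ← pow_add] at h1
    have h2 := Nat.pow_right_injective hp.out.two_le h1
    rw [hm]
    have h3 : m ≤ 1 := by omega
    calc p ^ m ∣ p ^ 1 := pow_dvd_pow p h3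
      _ = p := pow_one p
  -- reduction to subgroups of `S`
  have key : ∀ E ≤ (S : Subgroup G), (∀ a ∈ E, ∀ b ∈ E, a * b = b * a) → (∀ e ∈ E, e ^ p = 1) →
      Nat.card E ≤ p ^ 2 := by
    intro E hES hEab hEp
    by_contra hcon
    push Not at hcon
    have hEpg : IsPGroup p E := S.2.to_le hES
    -- `|E ∩ D| = p ^ 2`
    have h1 : (D ⊓ E).relIndex E ≤ p := by
      rw [inf_relIndex_right]
      exact (relIndex_le_of_le_right hES index_ne_zero_of_finite).trans (Nat.le_of_dvd hp.out.pos hidx)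
    have h2 := card_mul_relIndex (A := D ⊓ E) (B := E) inf_le_right
    have h3 : Nat.card (D ⊓ E : Subgroup G) ≤ p ^ 2 := hr _ inf_le_left fun e he => hEp e he.2
    have h4 : p ^ 2 ≤ Nat.card (D ⊓ E : Subgroup G) := by
      obtain ⟨k, hk⟩ := IsPGroup.iff_card.1 hEpg
      rw [hk] at hcon
      have h5 : 2 < k := (Nat.pow_lt_pow_iff_right hp.out.one_lt).1 hcon
      have h6 : p ^ 2 * p ≤ Nat.card (D ⊓ E : Subgroup G) * p := by
        calc p ^ 2 * p = p ^ 3 := (pow_succ p 2).symm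
          _ ≤ p ^ k := Nat.pow_le_pow_right hp.out.pos h5
          _ = Nat.card (D ⊓ E : Subgroup G) * (D ⊓ E).relIndex E := by rw [h2, hk]
          _ ≤ _ := Nat.mul_le_mul_left _ h1
      exact Nat.le_of_mul_le_mul_right h6 hp.out.pos
    -- the elements of order `p` of `D`
    let Om : Subgroup G :=
      { carrier := {d | d ∈ D ∧ d ^ p = 1}
        one_mem' := ⟨D.one_mem, one_pow p⟩
        mul_mem' := fun {a b} ha hb => ⟨D.mul_mem ha.1 hb.1, by
          rw [(show Commute a b from hab a ha.1 b hb.1).mul_pow, ha.2, hb.2, one_mul]⟩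
        inv_mem' := fun {a} ha => ⟨D.inv_mem ha.1, by rw [inv_pow, ha.2, inv_one]⟩ }
    have hOm : Om = D ⊓ E := by
      symm
      apply Subgroup.eq_of_le_of_card_ge
      · intro e he
        exact ⟨he.1, hEp e he.2⟩
      · exact (hr Om (fun e he => he.1) fun e he => he.2).trans h4
    have hEnD : ¬ E ≤ D := by
      intro h5
      rw [inf_eq_right.2 h5] at h3
      omega
    -- `D` and `E` generate `S`
    have hsup : (S : Subgroup G) ≤ D ⊔ E := by
      have h5 : D.relIndex (D ⊔ E) * (D ⊔ E).relIndex S ∣ p := by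
        rw [Subgroup.relIndex_mul_relIndex _ _ _ le_sup_left (sup_le hDS hES)]
        exact hidx
      rcases (Nat.dvd_prime hp.out).1 ((Dvd.intro _ rfl).trans h5) with h6 | h6
      · exact absurd (le_sup_right.trans (relIndex_eq_one.1 h6)) hEnD
      · rw [h6] at h5
        have h7 : (D ⊔ E).relIndex S ∣ 1 := by
          rw [← Nat.mul_dvd_mul_iff_left hp.out.pos, mul_one]
          exact h5
        exact relIndex_eq_one.1 (Nat.dvd_one.1 h7)
    have hcen : ∀ d ∈ D, d ^ p = 1 → ∀ a ∈ (S : Subgroup G), a * d = d * a := by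
      intro d hd hdp a ha
      have h5 : d ∈ D ⊓ E := by rw [← hOm]; exact ⟨hd, hdp⟩
      have h6 : D ⊔ E ≤ centralizer {d} := sup_le
        (fun b hb => mem_centralizer_singleton_iff.2 (hab b hb d hd))
        (fun b hb => mem_centralizer_singleton_iff.2 (hEab b hb d h5.2))
      exact mem_centralizer_singleton_iff.1 (h6 (hsup ha))
    -- the nonabelian subgroup
    set x' := g * x * g⁻¹ with hx'
    set y' := g * y * g⁻¹ with hy'
    set z' := g * z * g⁻¹ with hz'
    have hx'p : x' ^ p = 1 := by rw [hx', conj_pow, hx]; group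
    have hy'p : y' ^ p = 1 := by rw [hy', conj_pow, hy]; group
    have hzx' : z' * x' = x' * z' := by
      calc z' * x' = g * (z * x) * g⁻¹ := by rw [hz', hx']; group
        _ = g * (x * z) * g⁻¹ := by rw [hzx]
        _ = _ := by rw [hz', hx']; group
    have hzy' : z' * y' = y' * z' := by
      calc z' * y' = g * (z * y) * g⁻¹ := by rw [hz', hy']; group
        _ = g * (y * z) * g⁻¹ := by rw [hzy]
        _ = _ := by rw [hz', hy']; group
    have hxy' : x' * y' = z' * (y' * x') := by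
      calc x' * y' = g * (x * y) * g⁻¹ := by rw [hx', hy']; group
        _ = g * (z * (y * x)) * g⁻¹ := by rw [hxy]
        _ = _ := by rw [hz', hx', hy']; group
    have hz'1 : z' ≠ 1 := by
      intro h5
      apply hz
      have : z = g⁻¹ * z' * g := by rw [hz']; group
      rw [this, h5]; group
    have hx'S : x' ∈ (S : Subgroup G) := hmem x hxP
    have hy'S : y' ∈ (S : Subgroup G) := hmem y hyP
    have hncom : ¬ x' * y' = y' * x' := by
      intro h5
      rw [hxy'] at h5
      exact hz'1 (mul_eq_right.1 h5)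
    have hx'D : x' ∉ D := fun h5 => hncom (hcen x' h5 hx'p y' hy'S).symm
    -- the quotient
    have hnor : (D.subgroupOf S).Normal := normal_of_index_dvd S.2 hidx
    have hcq : Nat.card (↥(S : Subgroup G) ⧸ D.subgroupOf S) = p := by
      rw [← index_eq_card]
      rcases (Nat.dvd_prime hp.out).1 hidx with h5 | h5
      · exact absurd (relIndex_eq_one.1 h5 hx'S) hx'D
      · exact h5
    have h5 : (QuotientGroup.mk (⟨y', hy'S⟩ : (S : Subgroup G)) : ↥(S : Subgroup G) ⧸ D.subgroupOf S) ∈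
        zpowers (QuotientGroup.mk (⟨x', hx'S⟩ : (S : Subgroup G)) : ↥(S : Subgroup G) ⧸ D.subgroupOf S) := by
      apply mem_zpowers_of_prime_card hcq
      intro h6
      rw [QuotientGroup.eq_one_iff] at h6
      exact hx'D h6
    obtain ⟨i, hi⟩ := mem_zpowers_iff.1 h5
    rw [← QuotientGroup.mk_zpow, QuotientGroup.eq] at hi
    have h6 : x' ^ (-i) * y' ∈ D := by
      have h7 : ((⟨x', hx'S⟩ : (S : Subgroup G)) ^ i)⁻¹ * ⟨y', hy'S⟩ ∈ D.subgroupOf S := hi
      rw [mem_subgroupOf] at h7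
      rw [zpow_neg]
      exact h7
    have h7 := hcen _ h6 (pow_class_two hp.out hp2 hx'p hy'p hzx' hzy' hxy' (-i)) x' hx'S
    apply hncom
    have h8 : Commute x' (x' ^ (-i)) := (Commute.refl x').zpow_right (-i)
    have h9 : x' ^ (-i) * (x' * y') = x' ^ (-i) * (y' * x') := by
      calc x' ^ (-i) * (x' * y') = (x' ^ (-i) * x') * y' := by group
        _ = (x' * x' ^ (-i)) * y' := by rw [h8.eq]
        _ = x' * (x' ^ (-i) * y') := by group
        _ = (x' ^ (-i) * y') * x' := h7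
        _ = _ := by group
    exact mul_left_cancel h9
  intro E hE hEp
  have hEpg : IsPGroup p E := fun e => ⟨1, by rw [pow_one]; exact Subtype.ext (hEp e e.2)⟩
  obtain ⟨R, hR⟩ := hEpg.exists_le_sylow
  obtain ⟨c, hc⟩ := MulAction.exists_smul_eq G R S
  have h1 := key (E.map (MulAut.conj c).toMonoidHom) (by
    rintro _ ⟨e, he, rfl⟩
    rw [← hc, Sylow.coe_subgroup_smul]
    exact Subgroup.smul_mem_pointwise_smul e (MulAut.conj c) (R : Subgroup G) (hR he)) (by
    rintro _ ⟨a, ha, rfl⟩ _ ⟨b, hb, rfl⟩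
    rw [← map_mul, ← map_mul, comm_of hE ha hb]) (by
    rintro _ ⟨a, ha, rfl⟩
    rw [← map_pow, hEp a ha, map_one])
  rwa [Subgroup.card_map_of_injective (MulAut.conj c).injective] at h1

/-- small Sylow subgroups -/
theorem prankLE_of_nonab [Finite G] {p : ℕ} [hp : Fact p.Prime] (hG : (Nat.card G).factorization p ≤ 3)
    (hS : ∀ S : Sylow p G, ¬ IsMulCommutative (S : Subgroup G)) : PRankLE p 2 G := by
  intro E hE hEp
  by_contra hcon
  push Not at hcon
  have hEpg : IsPGroup p E := fun e => ⟨1, by rw [pow_one]; exact Subtype.ext (hEp e e.2)⟩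
  obtain ⟨k, hk⟩ := IsPGroup.iff_card.1 hEpg
  rw [hk] at hcon
  have h1 : 2 < k := (Nat.pow_lt_pow_iff_right hp.out.one_lt).1 hcon
  have h2 : k ≤ (Nat.card G).factorization p := by
    rw [← hp.out.pow_dvd_iff_le_factorization Nat.card_pos.ne', ← hk]
    exact card_subgroup_dvd_card E
  have h3 : k = (Nat.card G).factorization p := by omega
  exact hS (Sylow.ofCard E (by rw [hk, h3])) hE

theorem fact_sq_mul' {p n a b : ℕ} (hp : p.Prime) (hn : n = a ^ 2 * (p * b)) (ha : a ≠ 0) (hb : ¬ p ∣ b) :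
    n.factorization p = 2 * a.factorization p + 1 := by
  subst hn
  have hb0 : b ≠ 0 := by
    rintro rfl
    exact hb (dvd_zero p)
  rw [Nat.factorization_mul (pow_ne_zero 2 ha) (mul_ne_zero hp.ne_zero hb0), Nat.factorization_pow, Finsupp.add_apply,
    Finsupp.smul_apply, Nat.factorization_mul hp.ne_zero hb0, Finsupp.add_apply,
    Nat.factorization_eq_zero_of_not_dvd hb, hp.factorization_self, smul_eq_mul]

theorem fact_three {m : ℕ} : (ord (2 ^ (2 * m + 1))).factorization 3 = 2 * (2 ^ (2 * m + 1) + 1).factorization 3 + 1 := by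
  obtain ⟨j, hj⟩ : ∃ j, 2 ^ (2 * m + 1) = 3 * j + 2 := by
    induction m with
    | zero => exact ⟨0, by norm_num⟩
    | succ m ih =>
      obtain ⟨j, hj⟩ := ih
      refine ⟨4 * j + 2, ?_⟩
      rw [show 2 * (m + 1) + 1 = (2 * m + 1) + 2 by ring, pow_add, hj]
      ring
  rw [hj]
  have e : ord (3 * j + 2) = (3 * j + 2 + 1) ^ 2 * (3 * ((3 * j + 2) ^ 12 * (3 * j + 1) * (3 * j + 1) *
      (1 + 3 * j + 3 * j ^ 2) * ((3 * j + 2) ^ 2 + 1) * ((3 * j + 2) ^ 6 + 1))) := by
    rw [show 3 * j + 2 = (3 * j + 1) + 1 by ring, ord, pow_four, Nat.add_sub_cancel]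
    ring
  refine fact_sq_mul' Nat.prime_three e (by omega) ?_
  refine not_dvd_of_cast ?_
  push_cast
  have h3 : (3 : ZMod 3) = 0 := by decide
  rw [h3]
  simp only [zero_mul, zero_add]
  decide

section Tw

variable {K : Type u} [Field K] [Fintype K] {m : ℕ} (hK : Fintype.card K = 2 ^ (2 * m + 1))

include hK

theorem exists_nonab_three : ∃ x y z : ↥(Lie.twistedF4 K (2 ^ m)), x ^ 3 = 1 ∧ y ^ 3 = 1 ∧ z * x = x * z ∧
    z * y = y * z ∧ x * y = z * (y * x) ∧ z ≠ 1 := by
  have hch := Cfsg.Agent.ChevalleyStructure.TwF4.Twisted.charP_two hK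
  obtain ⟨x, y, z, hx, hy, hzx, hzy, hxy, hz1⟩ := exists_three
  set f := ZMod.castHom (dvd_refl 2) K with hf
  let j : ↥(Lie.twistedF4 (ZMod 2) 1) →* ↥(Lie.twistedF4 K (2 ^ m)) :=
    ((glF (ZMod 2) K f).comp (Lie.twistedF4 (ZMod 2) 1).subtype).codRestrict (Lie.twistedF4 K (2 ^ m))
      fun g => glF_mem K (by positivity) g.2
  have hj : Function.Injective j := fun a b hab => Subtype.ext (glF_injective _ _ _ (congrArg Subtype.val hab))
  refine ⟨j x, j y, j z, by rw [← map_pow, hx, map_one], by rw [← map_pow, hy, map_one],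
    by rw [← map_mul, hzx, map_mul], by rw [← map_mul, hzy, map_mul], by rw [← map_mul, hxy, map_mul, map_mul],
    fun h => hz1 (hj (by rw [h, map_one]))⟩

/-- **The `3`-rank of `²F₄(q)` is two.** -/
theorem prankLE_three_twF4 : PRankLE 3 2 ↥(Lie.twistedF4 K (2 ^ m)) := by
  have hch := Cfsg.Agent.ChevalleyStructure.TwF4.Twisted.charP_two hK
  have hp : Fact (Nat.Prime 3) := ⟨Nat.prime_three⟩
  have hfin := finite_tw (K := K) (2 ^ m)
  have hq : Nat.card K = 2 ^ (2 * m + 1) := by rw [Nat.card_eq_fintype_card, hK]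
  have hcard : Nat.card ↥(Lie.twistedF4 K (2 ^ m)) = ord (2 ^ (2 * m + 1)) := Cfsg.Agent.S1068.result hK
  rcases Nat.eq_zero_or_pos m with hm | hm
  · apply prankLE_of_nonab
    · rw [hcard, fact_three, hm]
      have h1 : (2 ^ (2 * 0 + 1) + 1).factorization 3 = 1 := Nat.Prime.factorization_self Nat.prime_three
      rw [h1]
    · exact fun S => not_abelian_three K (by positivity) S
  have hF := exists_unit hm hK
  obtain ⟨φ, hφ⟩ := Cfsg.Agent.ChevalleyStructure.TwF4.TwistedFix.exists_rln hK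
  set S := Cfsg.Agent.KFacts.TwF4.Inst.full hK hφ with hS
  have hmod : 2 ^ (2 * m + 1) % 3 = 2 := by
    rw [pow_succ, pow_mul, Nat.mul_mod, Nat.pow_mod]
    norm_num
  have hpm : ¬ 3 ∣ Nat.card K - 1 := by rw [hq]; omega
  obtain ⟨D, hab, hD, hr⟩ := exists_ab_pair (p := 3) (S.XZ 1 ⊔ S.XZ (1 + 8)) (S.XZ (1 + 4) ⊔ S.XZ (1 + 4 + 8))
    (S.rot ^ (2 : ℤ)) (fun l hl m hm => comm_LM S hl hm) (fun l hl => rot_sup S hl)
    (fun P hP hPp => cyc S hF rfl (by norm_num) hpm P hP hPp) (fun K hK h => noquot S rfl (by norm_num) K hK h)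
  obtain ⟨x, y, z, hx, hy, hzx, hzy, hxy, hz1⟩ := exists_nonab_three hK
  refine prankLE_of_index (by norm_num) hab hD ?_ hr hx hy hzx hzy hxy hz1
  rw [hcard, fact_three]
  refine Nat.add_le_add_right (Nat.mul_le_mul_left 2 ?_) 1
  have hne : S.XZ 1 ≠ S.XZ (1 + 8) := by
    intro h
    obtain ⟨x, hx, hx1⟩ := S.zsys8.exists_ne 1
    exact hx1 (S.X_inf_opp hx (h ▸ hx))
  have h1 := card_succ_dvd S.zsys8 hne
  have h2 : Nat.card (S.XZ 1) = 2 ^ (2 * m + 1) := by
    have := card_odd S 0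
    rw [show (2 : ℤ) * 0 + 1 = 1 by ring] at this
    rw [this, hq]
  rw [h2] at h1
  exact (Nat.factorization_le_iff_dvd (by omega) Nat.card_pos.ne').2 h1 3

end Tw

end Cfsg.Agent.H565.F4R
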