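import Cfsg.Agent.H565.NoMin
import Cfsg.Agent.H795.Untw
import Cfsg.Agent.H795.RowsA
import Cfsg.Agent.H795.Tw

/-!
# `t`-elements acting on toral `s`-subgroups of groups of exceptional Lie type

`f : G →* D.group k` injective, `k` algebraically closed, locally finite of characteristic `r`, `G` finite.

* `comm_of_toral` : if `t ∤ |W|`, a `t`-element normalising a toral subgroup centralises it;
* `noMin_of_not_dvd` : `s ∤ |W|`, `t ∤ |W|`, `s ≠ r` imply `NoMin s t G`;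
* `not_comm_of_minD` : `s ^ 2 ∤ |W|`, `Tors`, `t ∤ |W|`, `s ≠ r`: a `MinD s t y D` is nonabelian.
-/

set_option autoImplicit false
set_option linter.unusedSectionVars false

namespace Cfsg.Agent.H565.NM

open CoxeterSystem Cfsg Cfsg.Lie Cfsg.Lie.ChevalleyDatum
open Cfsg.Agent.ChevalleyStructure Cfsg.Agent.ChevalleyStructure.Elts Cfsg.Agent.ChevalleyStructure.CoxeterGeom
  Cfsg.Agent.ChevalleyStructure.CoxeterGeomTypes Cfsg.Agent.ChevalleyStructure.NPerm
open Cfsg.Agent.Tits.Roots Cfsg.Agent.Tits.Core Cfsg.Agent.Nodes Cfsg.Agent.Nodes.Reps Cfsg.Agent.Nodes.BNOf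
  Cfsg.Agent.Nodes.RGDChev Cfsg.Agent.Nodes.Bruhat
open Cfsg.Agent.KFacts.RgdField Cfsg.Agent.KFacts.RgdChevCoord Cfsg.Agent.BpExc.TorCent Cfsg.Agent.BpExc.TorChev
open Cfsg.Agent.GpExc.Field Cfsg.Agent.BpExc.Tow Cfsg.Agent.BpExc.TowChev Cfsg.Agent.BpExc.Fr
  Cfsg.Agent.BpExc.LangFr Cfsg.Agent.H795.SetCent Cfsg.Agent.H795.SetTor Cfsg.Agent.H167.OP

universe u

variable {D : ChevalleyDatum} {l : ℕ} {M : CoxeterMatrix (Fin l)} (hp : IsType D l M)
  (r : ℕ) [Fact r.Prime] {k : Type u} [Field k] [CharP k r]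

theorem rp_pow {J : Type*} [Preorder J] {I W Y : Type*} [Fintype I] [DecidableEq I] [Group W] [Group Y]
    {M : CoxeterMatrix I} {cs : CoxeterSystem M W} {T : Subgroup Y} {n : I → Y} {hN : NSys M T n} {w : W} {g : Y}
    (h : Rp cs hN w g) (m : ℕ) : Rp cs hN (w ^ m) (g ^ m) := by
  induction m with
  | zero => rw [pow_zero, pow_zero]; exact rp_one
  | succ m ih => rw [pow_succ, pow_succ]; exact ih.mul h

include hp r in
/-- **A `t`-element normalising a toral subgroup centralises it.** -/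
theorem comm_of_toral (hk : LocFin k) {G : Type*} [Group G] [Finite G] {f : G →* ↥(D.group k)}
    (hf : Function.Injective f) {t : ℕ} (ht : t.Prime) (hW : ¬ t ∣ Nat.card M.Group) {y : G} {B : Subgroup G}
    (hy : ∃ j : ℕ, y ^ t ^ j = 1) (hn : Nrm y B) {g : ↥(D.group k)} (hg : ∀ x ∈ B, g * f x * g⁻¹ ∈ TT D k) :
    Cen y B := by
  classical
  have hWf := finite_W hp (M.toCoxeterSystem)
  have H := tow hp M.toCoxeterSystem hk r
  have C : Coords M.toCoxeterSystem hp.isCartan (TL (Tj hp (k := k))) (nc hp k) (XL (Xj hp)) (xc hp) (ch hp) := by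
    rw [TL_eq hp hk, XL_eq hp hk]
    exact coordsL hp M.toCoxeterSystem hk r
  have hGt := GG_eq_top hp M.toCoxeterSystem hk
  set c := g * f y * g⁻¹ with hc
  obtain ⟨m, -, w, n, hn', hnk, -⟩ := exists_formZ H C (ι := B) (s := fun b => g * f b * g⁻¹)
    (t := fun b => g * f (y * b * y⁻¹) * g⁻¹) (c := c) (fun b => by
      rw [TL_eq hp hk]
      exact hg _ b.2) (fun b => by
      rw [TL_eq hp hk]
      exact hg _ (hn _ b.2)) (by rw [hGt]; exact Subgroup.mem_top c) (fun b => by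
      rw [hc, map_mul, map_mul, map_inv]
      group)
  -- powers of `n`
  have hpow : ∀ j : ℕ, ∀ b ∈ B, n ^ j * (g * f b * g⁻¹) = (g * f (y ^ j * b * (y ^ j)⁻¹) * g⁻¹) * n ^ j := by
    intro j
    induction j with
    | zero => intro b hb; simp
    | succ j ih =>
      intro b hb
      have h1 : y ^ j * b * (y ^ j)⁻¹ ∈ B := nrm_pow' hn j b hb
      have h2 := hnk ⟨_, h1⟩
      have e : y ^ (j + 1) * b * (y ^ (j + 1))⁻¹ = y * (y ^ j * b * (y ^ j)⁻¹) * y⁻¹ := by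
        rw [pow_succ']; group
      have h3 : n * (g * f (y ^ j * b * (y ^ j)⁻¹) * g⁻¹) =
        (g * f (y * (y ^ j * b * (y ^ j)⁻¹) * y⁻¹) * g⁻¹) * n := h2
      calc n ^ (j + 1) * (g * f b * g⁻¹) = n * (n ^ j * (g * f b * g⁻¹)) := by rw [pow_succ', mul_assoc]
        _ = (n * (g * f (y ^ j * b * (y ^ j)⁻¹) * g⁻¹)) * n ^ j := by rw [ih b hb, mul_assoc n]
        _ = (g * f (y * (y ^ j * b * (y ^ j)⁻¹) * y⁻¹) * g⁻¹) * (n * n ^ j) := by
          rw [h3, mul_assoc _ n]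
        _ = _ := by rw [e, ← pow_succ']
  intro b hb
  obtain ⟨j, hj⟩ := hy
  -- `n ^ |W|` lies in the torus
  have h1 : n ^ Nat.card M.Group ∈ TT D k := by
    have h2 := rp_pow (J := Subfield k) hn' (Nat.card M.Group)
    rw [pow_card_eq_one'] at h2
    have h3 := h2.mem_of_one
    rwa [TL_eq hp hk] at h3
  have h2 := hpow (Nat.card M.Group) b hb
  have h3 := TT_comm hp _ h1 _ (hg b hb)
  rw [h3] at h2
  have h4 := mul_right_cancel h2
  have h5 : f b = f (y ^ Nat.card M.Group * b * (y ^ Nat.card M.Group)⁻¹) :=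
    mul_left_cancel (mul_right_cancel h4)
  have h6 := hf h5
  have h7 : y ^ Nat.card M.Group ∈ Subgroup.centralizer ({b} : Set G) := by
    rw [Subgroup.mem_centralizer_singleton_iff]
    conv_rhs => rw [h6]
    group
  have h8 : y ^ t ^ j ∈ Subgroup.centralizer ({b} : Set G) := by
    rw [hj]; exact one_mem _
  have h9 := mem_of_pow_mem_coprime h7 h8
    (Nat.Coprime.pow_right j (((Nat.Prime.coprime_iff_not_dvd ht).2 hW).symm))
  exact Subgroup.mem_centralizer_singleton_iff.1 h9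

variable [IsAlgClosed k]

include hp in
theorem exists_g_of_not_dvd (hk : LocFin k) {G : Type*} [Group G] [Finite G] (f : G →* ↥(D.group k)) {s : ℕ}
    (hs : s.Prime) (hsr : s ≠ r) (hW : ¬ s ∣ Nat.card M.Group) {B : Subgroup G} (hB : IsPGroup s B) :
    ∃ g : ↥(D.group k), ∀ x ∈ B, g * f x * g⁻¹ ∈ TT D k := by
  have hfin : Finite ↥(B.map f) :=
    Finite.of_surjective (fun u : B => (⟨f u, ⟨u, u.2, rfl⟩⟩ : ↥(B.map f))) (by
      rintro ⟨_, ⟨u, hu, rfl⟩⟩
      exact ⟨⟨u, hu⟩, rfl⟩)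
  obtain ⟨g, hg⟩ := H795.TorSub.exists_toral_of_not_dvd hp r hk hs hsr hW (Q := B.map f) (hB.map f)
  exact ⟨g, fun x hx => hg _ ⟨x, hx, rfl⟩⟩

include hp in
theorem exists_g_of_abelian (hk : LocFin k) {G : Type*} [Group G] [Finite G] (f : G →* ↥(D.group k)) {s : ℕ}
    (hs : s.Prime) (hsr : s ≠ r) (hW : ¬ s ^ 2 ∣ Nat.card M.Group) (hT : Tors M.toCoxeterSystem hp.isCartan s)
    {B : Subgroup G} (hB : IsPGroup s B) (hab : ∀ a ∈ B, ∀ b ∈ B, a * b = b * a) :
    ∃ g : ↥(D.group k), ∀ x ∈ B, g * f x * g⁻¹ ∈ TT D k := by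
  have hfin : Finite ↥(B.map f) :=
    Finite.of_surjective (fun u : B => (⟨f u, ⟨u, u.2, rfl⟩⟩ : ↥(B.map f))) (by
      rintro ⟨_, ⟨u, hu, rfl⟩⟩
      exact ⟨⟨u, hu⟩, rfl⟩)
  obtain ⟨g, hg⟩ := H795.TorSub.exists_toral_abelian hp r hk hs hsr hW hT (S := B.map f) (hB.map f) (by
      rintro _ ⟨a, ha, rfl⟩ _ ⟨b, hb, rfl⟩
      rw [← map_mul, ← map_mul, hab a ha b hb])
  exact ⟨g, fun x hx => hg _ ⟨x, hx, rfl⟩⟩

include hp in
/-- **`s` and `t` do not divide `|W|`.** -/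
theorem noMin_of_not_dvd (hk : LocFin k) {G : Type*} [Group G] [Finite G] {f : G →* ↥(D.group k)}
    (hf : Function.Injective f) {s t : ℕ} (hsr : s ≠ r) (hs : ¬ s ∣ Nat.card M.Group) (ht : ¬ t ∣ Nat.card M.Group) :
    NoMin s t G := by
  intro y B h
  have : Fact s.Prime := ⟨h.hs⟩
  obtain ⟨g, hg⟩ := exists_g_of_not_dvd hp r hk f h.hs hsr hs h.isPGroup
  exact h.ncen (comm_of_toral hp r hk hf h.ht ht h.hy h.nrm hg)

include hp in
/-- **`s ^ 2` and `t` do not divide `|W|`.** -/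
theorem not_comm_of_minD (hk : LocFin k) {G : Type*} [Group G] [Finite G] {f : G →* ↥(D.group k)}
    (hf : Function.Injective f) {s t : ℕ} (hsr : s ≠ r) (hs : ¬ s ^ 2 ∣ Nat.card M.Group)
    (hT : Tors M.toCoxeterSystem hp.isCartan s) (ht : ¬ t ∣ Nat.card M.Group) {y : G} {B : Subgroup G}
    (h : MinD s t y B) : ¬ ∀ a ∈ B, ∀ b ∈ B, a * b = b * a := by
  intro hab
  have : Fact s.Prime := ⟨h.hs⟩
  obtain ⟨g, hg⟩ := exists_g_of_abelian hp r hk f h.hs hsr hs hT h.isPGroup hab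
  exact h.ncen (comm_of_toral hp r hk hf h.ht ht h.hy h.nrm hg)

end Cfsg.Agent.H565.NM
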