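import Cfsg.Agent.H167.OP.MinD2
import Cfsg.Agent.Lib.CoprimeStab
import Cfsg.Agent.Lib.LocalCore
import Cfsg.Agent.Lib.Cores
import Cfsg.Agent.Lib.HallHigman
import Cfsg.Prelude.Def_CaseTheorems

/-!
# Groups in which no `t`-element acts nontrivially on an `s`-subgroup

* `NoMin s t G` : there is no minimal noncentralised invariant `s`-subgroup (`MinD`) of a `t`-element;
* `NoMin.cen` : a `t`-element normalising an `s`-subgroup centralises it;
* `NoMin.of_injective`, `NoMin.of_equiv`;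
* `ns_of_noMin` : a solvable `{s, t}`-group with `NoMin s t` has a normal Sylow `t`-subgroup;
* `noMin_of_rank` : `PRankLE s 2 G`, `2 < s < t` imply `NoMin s t G`; `noMin_of_cyclic`.
-/

set_option autoImplicit false

namespace Cfsg.Agent.H565.NM

open Subgroup Cfsg Cfsg.Agent.H167.OP Cfsg.Agent.Lib

/-- No `t`-element acts nontrivially on an `s`-subgroup. -/
def NoMin (s t : ℕ) (G : Type*) [Group G] : Prop :=
  ∀ (y : G) (D : Subgroup G), ¬ MinD s t y D

variable {G : Type*} [Group G] {s t : ℕ}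

theorem mem_of_pow_mem_coprime {N : Subgroup G} {x : G} {a b : ℕ} (ha : x ^ a ∈ N) (hb : x ^ b ∈ N)
    (hab : a.Coprime b) : x ∈ N := by
  have h1 : x ^ ((Nat.gcd a b : ℕ) : ℤ) ∈ N := by
    rw [Nat.gcd_eq_gcd_ab, zpow_add, zpow_mul, zpow_mul]
    exact mul_mem (zpow_mem (by simpa using ha) _) (zpow_mem (by simpa using hb) _)
  rw [hab, Nat.cast_one, zpow_one] at h1
  exact h1

/-- a `t`-element normalising an `s`-subgroup centralises it -/
theorem NoMin.cen [Finite G] (h : NoMin s t G) (hs : s.Prime) (ht : t.Prime) (hst : s ≠ t) {y : G} {B : Subgroup G}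
    (hB : IsPGroup s B) (hy : ∃ k : ℕ, y ^ t ^ k = 1) (hn : y ∈ normalizer (B : Set G)) : ∀ b ∈ B, y * b = b * y := by
  by_contra hcon
  obtain ⟨D, -, hD⟩ := exists_minD (B := B) hs ht hst (y := y) (fun d hd => by
    obtain ⟨k, hk⟩ := hB ⟨d, hd⟩
    exact ⟨k, congrArg Subtype.val hk⟩) hy (fun d hd => (mem_normalizer_iff.1 hn d).1 hd) hcon
  exact h y D hD

theorem NoMin.of_injective {H : Type*} [Group H] (f : G →* H) (hf : Function.Injective f) (h : NoMin s t H) :
    NoMin s t G := by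
  intro y D hD
  refine h (f y) (D.map f) ⟨hD.hs, hD.ht, hD.hst, ?_, ?_, ?_, ?_, ?_⟩
  · rintro _ ⟨d, hd, rfl⟩
    obtain ⟨k, hk⟩ := hD.hD d hd
    exact ⟨k, by rw [← map_pow, hk, map_one]⟩
  · obtain ⟨k, hk⟩ := hD.hy
    exact ⟨k, by rw [← map_pow, hk, map_one]⟩
  · rintro _ ⟨d, hd, rfl⟩
    exact ⟨y * d * y⁻¹, hD.nrm d hd, by rw [map_mul, map_mul, map_inv]⟩
  · intro hc
    apply hD.ncen
    intro d hd
    apply hf
    rw [map_mul, map_mul]
    exact hc _ ⟨d, hd, rfl⟩
  · intro E hE hEn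
    have hED : (E.comap f).map f = E := by
      rw [Subgroup.map_comap_eq_self]
      exact hE.trans (Subgroup.map_le_range f D)
    rcases hD.hmin (E.comap f) (fun x hx => by
      obtain ⟨d, hd, e⟩ := hE hx
      rw [← hf e]
      exact hd) (fun x hx => by
      have := hEn (f x) hx
      rw [← map_mul, ← map_inv, ← map_mul] at this
      exact this) with h1 | h1
    · left
      rw [← h1, hED]
    · right
      intro x hx
      rw [← hED] at hx
      obtain ⟨z, hz, rfl⟩ := hx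
      rw [← map_mul, ← map_mul, h1 z hz]

theorem NoMin.of_equiv {H : Type*} [Group H] (e : G ≃* H) (h : NoMin s t H) : NoMin s t G :=
  h.of_injective e.toMonoidHom e.injective

theorem NoMin.subgroup (h : NoMin s t G) (X : Subgroup G) : NoMin s t X :=
  h.of_injective X.subtype X.subtype_injective

/-- **Solvable `{s, t}`-groups in which `t`-elements centralise the `s`-subgroups they normalise.** -/
theorem ns_of_noMin [Finite G] (hs : s.Prime) (ht : t.Prime) (hst : s ≠ t) (hG : Group.IsSolvable G)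
    (hpr : ∀ r : ℕ, r.Prime → r ∣ Nat.card G → r = s ∨ r = t) (h : NoMin s t G) :
    ∃ T : Subgroup G, T.Normal ∧ IsPGroup t T ∧ ¬ t ∣ T.index := by
  classical
  have hfs : Fact s.Prime := ⟨hs⟩
  have hft : Fact t.Prime := ⟨ht⟩
  set N := pPrimeCore s G with hN
  have hNn : N.Normal := Cores.pPrimeCore_normal s
  have hNc : (Nat.card N).Coprime s := Cores.pPrimeCore_coprime s
  have hNt : IsPGroup t N := by
    rw [IsPGroup.iff_card]
    refine ⟨_, Nat.eq_prime_pow_of_unique_prime_dvd (p := t) Nat.card_pos.ne' fun {r} hr hrd => ?_⟩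
    rcases hpr r hr (hrd.trans (Subgroup.card_subgroup_dvd_card N)) with rfl | rfl
    · exact absurd (Nat.Coprime.eq_one_of_dvd hNc.symm hrd) hr.ne_one
    · rfl
  set f := QuotientGroup.mk' N with hf
  have hfs' : Function.Surjective f := QuotientGroup.mk'_surjective N
  have hker : ∀ x, f x = 1 ↔ x ∈ N := fun x => by
    rw [← MonoidHom.mem_ker, hf, QuotientGroup.ker_mk']
  have hbot : pPrimeCore s (G ⧸ N) = ⊥ := Cores.pPrimeCore_quotient_pPrimeCore s
  have hcent := HallHigman.centralizer_pCore_le_of_solvable (G := G ⧸ N) s hbot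
  set U := pCore s (G ⧸ N) with hU
  have hUn : U.Normal := Cores.pCore_normal s
  have hUp : IsPGroup s U := Cores.pCore_isPGroup s
  obtain ⟨S⟩ : Nonempty (Sylow s G) := inferInstance
  set P : Subgroup G := (S : Subgroup G) ⊓ U.comap f with hP
  have hPs : IsPGroup s P := S.isPGroup'.to_le inf_le_left
  have hPU : P.map f = U := by
    apply le_antisymm
    · rintro _ ⟨x, hx, rfl⟩
      exact hx.2
    · intro u hu
      have h1 : u ∈ (S.mapSurjective hfs' : Sylow s (G ⧸ N)) := Cores.pCore_le_sylow _ hu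
      obtain ⟨x, hx, rfl⟩ := h1
      exact ⟨x, ⟨hx, hu⟩, rfl⟩
  -- all `t`-elements modulo `N` lie in `N`
  have key : ∀ y : G, (∃ k : ℕ, f y ^ t ^ k = 1) → y ∈ N := by
    rintro y ⟨k, hk⟩
    have hg : ∀ x ∈ P, y * x * y⁻¹ ∈ P ⊔ N := by
      intro x hx
      have h1 : f (y * x * y⁻¹) ∈ P.map f := by
        rw [hPU, map_mul, map_mul, map_inv]
        exact hUn.conj_mem _ hx.2 _
      obtain ⟨z, hz, e⟩ := h1
      have h2 : z⁻¹ * (y * x * y⁻¹) ∈ N := by
        rw [← hker, map_mul, map_inv, e, inv_mul_cancel]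
      have h3 : y * x * y⁻¹ = z * (z⁻¹ * (y * x * y⁻¹)) := by group
      rw [h3]
      exact mul_mem_sup hz h2
    obtain ⟨n, hn, hng⟩ := LocalCore.exists_mul_mem_normalizer s N P hNc hPs hg
    have hfy : f (n * y) = f y := by rw [map_mul, (hker n).2 hn, one_mul]
    have hty : ∃ j : ℕ, (n * y) ^ t ^ j = 1 := by
      have h1 : (n * y) ^ t ^ k ∈ N := by
        rw [← hker, map_pow, hfy, hk]
      obtain ⟨j, hj⟩ := hNt ⟨_, h1⟩
      refine ⟨k + j, ?_⟩
      rw [pow_add, pow_mul]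
      exact congrArg Subtype.val hj
    have hcen := h.cen hs ht hst hPs hty hng
    have h4 : f y ∈ Subgroup.centralizer (U : Set (G ⧸ N)) := by
      rw [mem_centralizer_iff]
      intro u hu
      rw [← hPU] at hu
      obtain ⟨x, hx, rfl⟩ := hu
      rw [← hfy, ← map_mul, ← map_mul, hcen x hx]
    have h5 : f y ∈ U := hcent h4
    obtain ⟨m, hm⟩ := hUp ⟨_, h5⟩
    have hm' : f y ^ s ^ m = 1 := congrArg Subtype.val hm
    rw [← hker]
    exact eq_one_of_coprime_pow hm' hk (Nat.Coprime.pow _ _ ((Nat.coprime_primes hs ht).2 hst))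
  refine ⟨N, hNn, hNt, fun hd => ?_⟩
  rw [Subgroup.index_eq_card] at hd
  obtain ⟨x, hx⟩ := exists_prime_orderOf_dvd_card' t hd
  obtain ⟨y, rfl⟩ := hfs' x
  have h1 : y ∈ N := key y ⟨1, by rw [pow_one, ← hx, pow_orderOf_eq_one]⟩
  rw [(hker y).2 h1, orderOf_one] at hx
  exact ht.ne_one hx.symm

section Rank

theorem nrm_pow' {y : G} {D : Subgroup G} (h : Nrm y D) (n : ℕ) : Nrm (y ^ n) D := by
  induction n with
  | zero => intro d hd; simpa using hd
  | succ n ih =>
    intro d hd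
    have : y ^ (n + 1) * d * (y ^ (n + 1))⁻¹ = y * (y ^ n * d * (y ^ n)⁻¹) * y⁻¹ := by
      rw [pow_succ']; group
    rw [this]
    exact h _ (ih d hd)

theorem mem_normalizer_of_nrm [Finite G] {y : G} {D : Subgroup G} (h : Nrm y D) : y ∈ normalizer (D : Set G) := by
  rw [mem_normalizer_iff]
  intro d
  refine ⟨h d, fun hd => ?_⟩
  have h1 : Nrm (y ^ (orderOf y - 1)) D := nrm_pow' h _
  have h2 : y ^ (orderOf y - 1) = y⁻¹ := by
    rw [eq_inv_iff_mul_eq_one, ← pow_succ, Nat.sub_add_cancel (orderOf_pos y), pow_orderOf_eq_one]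
  rw [h2] at h1
  have h3 := h1 _ hd
  rwa [show y⁻¹ * (y * d * y⁻¹) * y⁻¹⁻¹ = d by group] at h3

variable {y : G} {D : Subgroup G}

theorem ne_bot_of_minD [Finite G] (h : MinD s t y D) : D ≠ ⊥ := by
  obtain ⟨a, ha, hay⟩ := h.exists_ncomm
  intro h1
  rw [h1, mem_bot] at ha
  exact hay (by rw [ha, mul_one, one_mul])

/-- a proper invariant central subgroup containing the `s`-th powers and the commutators -/
theorem exists_frat [Finite G] (h : MinD s t y D) : ∃ K : Subgroup G, K < D ∧ Cen y K ∧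
    (∀ x ∈ D, x ^ s ∈ K) ∧ (∀ a ∈ D, ∀ b ∈ D, a * b * a⁻¹ * b⁻¹ ∈ K) ∧ ∀ k ∈ K, ∀ d ∈ D, k * d = d * k := by
  have hfs : Fact s.Prime := ⟨h.hs⟩
  obtain ⟨K, hKD, hA, hp, hc⟩ := CoprimeStab.exists_agemo_lt (H := D) (Subgroup.zpowers y) h.isPGroup
    (ne_bot_of_minD h) (by
      rw [zpowers_le]
      exact mem_normalizer_of_nrm h.nrm)
  have hn : Nrm y K := fun d hd => (mem_normalizer_iff.1 (hA (mem_zpowers y)) d).1 hd
  have hcm : ∀ a ∈ D, ∀ b ∈ D, a * b * a⁻¹ * b⁻¹ ∈ K := fun a ha b hb => by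
    have := hc (commutator_mem_commutator ha hb)
    rwa [commutatorElement_def] at this
  refine ⟨K, hKD, (h.hmin K hKD.le hn).resolve_left hKD.ne, hp, hcm, fun k hk d hd => ?_⟩
  refine h.central hKD.le hKD.ne hn (fun d hd n hn' => ?_) hk hd
  have h1 : d * n * d⁻¹ = (d * n * d⁻¹ * n⁻¹) * n := by group
  rw [h1]
  exact K.mul_mem (hcm d hd n (hKD.le hn')) hn'

/-- `D` has exponent `s` -/
theorem pow_eq_one_of_minD [Finite G] (h : MinD s t y D) (hs2 : s ≠ 2) {d : G} (hd : d ∈ D) : d ^ s = 1 := by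
  obtain ⟨K, hKD, hcy, hp, hcm, hK⟩ := exists_frat h
  have hmul : ∀ a ∈ D, ∀ b ∈ D, (a * b) ^ s = a ^ s * b ^ s := by
    intro a ha b hb
    refine CoprimeStab.mul_pow_prime_of_class_two h.hs hs2 ?_ ?_ ?_
    · rw [commutatorElement_def]
      exact hK _ (hcm b hb a ha) a ha
    · rw [commutatorElement_def]
      exact hK _ (hcm b hb a ha) b hb
    · exact hK _ (hp a ha) b hb
  let E : Subgroup G :=
    { carrier := {d | d ∈ D ∧ d ^ s = 1}
      one_mem' := ⟨D.one_mem, one_pow s⟩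
      mul_mem' := fun {a b} ha hb => ⟨D.mul_mem ha.1 hb.1, by rw [hmul a ha.1 b hb.1, ha.2, hb.2, one_mul]⟩
      inv_mem' := fun {a} ha => ⟨D.inv_mem ha.1, by rw [inv_pow, ha.2, inv_one]⟩ }
  have h1 : MinD.Cm y D ≤ E := by
    rw [MinD.Cm, Subgroup.closure_le]
    rintro _ ⟨d, hd, rfl⟩
    refine ⟨h.comm_mem hd, ?_⟩
    rw [hmul _ (h.nrm d hd) _ (D.inv_mem hd), conj_pow, inv_pow, hcy _ (hp d hd)]
    group
  rw [h.closure_eq] at h1
  exact (h1 hd).2

/-- proper subgroups of `s`-groups -/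
theorem mul_card_le [Finite G] (hs : s.Prime) {A B : Subgroup G} (hB : IsPGroup s B) (h : A < B) :
    s * Nat.card A ≤ Nat.card B := by
  have hfs : Fact s.Prime := ⟨hs⟩
  have h1 := Subgroup.card_mul_index (A.subgroupOf B)
  have h2 : Nat.card (A.subgroupOf B) = Nat.card A := Nat.card_congr (Subgroup.subgroupOfEquivOfLe h.le).toEquiv
  obtain ⟨n, hn⟩ := hB.index (A.subgroupOf B)
  rw [h2, hn] at h1
  have h3 : n ≠ 0 := by
    rintro rfl
    rw [pow_zero, Subgroup.index_eq_one, Subgroup.subgroupOf_eq_top] at hn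
    exact absurd hn h.not_ge
  rw [← h1, mul_comm]
  exact Nat.mul_le_mul_left _ (Nat.le_self_pow h3 s)

theorem card_mul_relIndex {A B : Subgroup G} (h : A ≤ B) : Nat.card A * A.relIndex B = Nat.card B := by
  have := Subgroup.relIndex_mul_relIndex (⊥ : Subgroup G) A B bot_le h
  simpa using this

/-- adjoining a commuting element -/
def adj (A : Subgroup G) (a : G) (h : ∀ b ∈ A, b * a = a * b) : Subgroup G where
  carrier := {x | ∃ b ∈ A, ∃ k : ℤ, x = b * a ^ k}
  one_mem' := ⟨1, A.one_mem, 0, by simp⟩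
  mul_mem' := by
    rintro _ _ ⟨b, hb, k, rfl⟩ ⟨c, hc, l, rfl⟩
    refine ⟨b * c, A.mul_mem hb hc, k + l, ?_⟩
    have h1 : Commute (a ^ k) c := (Commute.zpow_left (show Commute a c from (h c hc).symm) k)
    rw [zpow_add, mul_assoc, mul_assoc, ← mul_assoc (a ^ k), h1.eq, mul_assoc]
  inv_mem' := by
    rintro _ ⟨b, hb, k, rfl⟩
    refine ⟨b⁻¹, A.inv_mem hb, -k, ?_⟩
    have h1 : Commute (a ^ k) b := (Commute.zpow_left (show Commute a b from (h b hb).symm) k)
    rw [mul_inv_rev, zpow_neg, (h1.inv_inv).eq]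

theorem le_adj {A : Subgroup G} {a : G} {h : ∀ b ∈ A, b * a = a * b} : A ≤ adj A a h :=
  fun b hb => ⟨b, hb, 0, by simp⟩

theorem self_mem_adj {A : Subgroup G} {a : G} {h : ∀ b ∈ A, b * a = a * b} : a ∈ adj A a h :=
  ⟨1, A.one_mem, 1, by simp⟩

theorem adj_le {A B : Subgroup G} {a : G} {h : ∀ b ∈ A, b * a = a * b} (hA : A ≤ B) (ha : a ∈ B) : adj A a h ≤ B := by
  rintro _ ⟨b, hb, k, rfl⟩
  exact B.mul_mem (hA hb) (B.zpow_mem ha k)

theorem adj_comm {A : Subgroup G} {a : G} {h : ∀ b ∈ A, b * a = a * b} (hA : ∀ b ∈ A, ∀ c ∈ A, b * c = c * b) :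
    ∀ x ∈ adj A a h, ∀ z ∈ adj A a h, x * z = z * x := by
  rintro _ ⟨b, hb, k, rfl⟩ _ ⟨c, hc, l, rfl⟩
  have h1 : Commute (b * a ^ k) (c * a ^ l) := by
    have hb' : Commute b a := h b hb
    have hc' : Commute c a := h c hc
    have hbc : Commute b c := hA b hb c hc
    exact ((hbc.mul_right (hb'.zpow_right l))).mul_left
      ((hc'.symm.zpow_left k).mul_right (((Commute.refl a).zpow_left k).zpow_right l))
  exact h1.eq

theorem card_adj [Finite G] (hs : s.Prime) {A : Subgroup G} {a : G} {h : ∀ b ∈ A, b * a = a * b} (ha : a ∉ A)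
    (hB : IsPGroup s (adj A a h)) : s * Nat.card A ≤ Nat.card (adj A a h) :=
  mul_card_le hs hB (lt_of_le_of_ne le_adj fun h1 => ha (h1 ▸ self_mem_adj))

theorem not_modEq_one (hs2 : 2 < s) (hst : s < t) (ht : t.Prime) (hs : s.Prime) {n : ℕ} (hn : n = s ∨ n = s ^ 2)
    (h : n ≡ 1 [MOD t]) : False := by
  have h1 : (t : ℤ) ∣ (n : ℤ) - 1 := by
    have := (Nat.modEq_iff_dvd.1 h.symm)
    simpa using this
  rcases hn with rfl | rfl
  · have h2 := Int.le_of_dvd (by omega) h1
    omega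
  · have h2 : (t : ℤ) ∣ ((s : ℤ) - 1) * ((s : ℤ) + 1) := by
      have e : ((s : ℤ) - 1) * ((s : ℤ) + 1) = ((s ^ 2 : ℕ) : ℤ) - 1 := by push_cast; ring
      rwa [e]
    rcases (Nat.prime_iff_prime_int.1 ht).dvd_or_dvd h2 with h3 | h3
    · have := Int.le_of_dvd (by omega) h3
      omega
    · have h4 := Int.le_of_dvd (by omega) h3
      have h5 : t = s + 1 := by omega
      have h6 := hs.eq_two_or_odd'
      have h7 := ht.eq_two_or_odd'
      rcases h6 with h6 | ⟨a, ha⟩
      · omega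
      · rcases h7 with h7 | ⟨b, hb⟩
        · omega
        · omega

/-- **`s`-rank at most two.** -/
theorem noMin_of_rank [Finite G] (hs2 : 2 < s) (hst : s < t) (hr : PRankLE s 2 G) : NoMin s t G := by
  intro y D h
  have hs := h.hs
  have ht := h.ht
  have hfs : Fact s.Prime := ⟨h.hs⟩
  have hP := h.isPGroup
  have hexp : ∀ d ∈ D, d ^ s = 1 := fun d hd => pow_eq_one_of_minD h (by omega) hd
  -- abelian subgroups
  have hab : ∀ A : Subgroup G, A ≤ D → (∀ a ∈ A, ∀ b ∈ A, a * b = b * a) → Nat.card A ≤ s ^ 2 := by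
    intro A hA hc
    exact hr A ⟨⟨fun a b => Subtype.ext (hc a a.2 b b.2)⟩⟩ fun a ha => hexp a (hA ha)
  obtain ⟨k, hk⟩ := (IsPGroup.iff_card).1 hP
  by_cases hcom : ∀ a ∈ D, ∀ b ∈ D, a * b = b * a
  · -- abelian case
    have h1 := hab D le_rfl hcom
    rw [hk] at h1
    have hk2 : k ≤ 2 := (Nat.pow_le_pow_iff_right hs.one_lt).1 h1
    have h2 := h.relIndex_modEq (X := ⊥) (fun d hd => by
      rw [mem_bot] at hd ⊢
      rw [hd]; group) (fun a ha b hb => by
      rw [mem_bot, hcom a ha b hb]; group)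
    rw [relIndex_bot_left, hk] at h2
    have hk0 : k ≠ 0 := by
      rintro rfl
      rw [pow_zero, Subgroup.card_eq_one] at hk
      exact ne_bot_of_minD h hk
    refine not_modEq_one hs2 hst ht hs (n := s ^ k) ?_ h2
    have hk3 : k = 1 ∨ k = 2 := by omega
    rcases hk3 with rfl | rfl
    · left; rw [pow_one]
    · right; rfl
  · -- nonabelian case
    push Not at hcom
    obtain ⟨a, ha, b₀, hb₀, hab₀⟩ := hcom
    obtain ⟨K, hKD, hcy, hp, hcm, hK⟩ := exists_frat h
    set Z : Subgroup G := D ⊓ centralizer (D : Set G) with hZ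
    have hZD : Z ≤ D := inf_le_left
    have hZc : ∀ z ∈ Z, ∀ d ∈ D, z * d = d * z := fun z hz d hd => (mem_centralizer_iff.1 hz.2 d hd).symm
    have hKZ : K ≤ Z := fun k hk => ⟨hKD.le hk, mem_centralizer_iff.2 fun d hd => (hK k hk d hd).symm⟩
    have haZ : a ∉ Z := fun h1 => hab₀ (hZc a h1 b₀ hb₀)
    -- the center is not trivial
    have hZs : s ≤ Nat.card Z := by
      have h1 : (⊥ : Subgroup G) < Z := by
        rw [bot_lt_iff_ne_bot]
        intro h1
        have h2 := hKZ (hcm a ha b₀ hb₀)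
        rw [h1, mem_bot] at h2
        apply hab₀
        have h3 : a * b₀ = (a * b₀ * a⁻¹ * b₀⁻¹) * (b₀ * a) := by group
        rw [h3, h2, one_mul]
      have h2 := mul_card_le hs (hP.to_le hZD) h1
      rwa [Subgroup.card_bot, mul_one] at h2
    have hZa : ∀ z ∈ Z, z * a = a * z := fun z hz => hZc z hz a ha
    set E := adj Z a hZa with hE
    have hED : E ≤ D := adj_le hZD ha
    have hEc := adj_comm (h := hZa) fun z hz w hw => hZc z hz w (hZD hw)
    have hE1 := hab E hED hEc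
    have hE2 := card_adj hs haZ (hP.to_le hED)
    have hZle : Nat.card Z ≤ s := by
      have h1 : s * Nat.card Z ≤ s * s := by
        calc s * Nat.card Z ≤ Nat.card E := hE2
          _ ≤ s ^ 2 := hE1
          _ = s * s := pow_two s
      exact Nat.le_of_mul_le_mul_left h1 hs.pos
    -- the centraliser of `a` in `D`
    set C : Subgroup G := D ⊓ centralizer {a} with hC
    have hCE : C ≤ E := by
      intro b hb
      by_contra hbE
      have hba : b * a = a * b := mem_centralizer_singleton_iff.1 hb.2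
      have hEb : ∀ e ∈ E, e * b = b * e := by
        rintro _ ⟨z, hz, k, rfl⟩
        have h1 : Commute z b := hZc z hz b hb.1
        have h2 : Commute a b := hba.symm
        exact (h1.mul_left (h2.zpow_left k)).eq
      have h1 := card_adj hs (h := hEb) hbE (hP.to_le (adj_le hED hb.1))
      have h2 := hab (adj E b hEb) (adj_le hED hb.1) (adj_comm hEc)
      have h3 : s * (s * s) ≤ s ^ 2 := by
        calc s * (s * s) ≤ s * (s * Nat.card Z) := Nat.mul_le_mul_left _ (Nat.mul_le_mul_left _ hZs)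
          _ ≤ s * Nat.card E := Nat.mul_le_mul_left _ hE2
          _ ≤ _ := h1
          _ ≤ _ := h2
      rw [pow_two] at h3
      have h4 : 1 * (s * s) < s * (s * s) := Nat.mul_lt_mul_of_pos_right hs.one_lt (Nat.mul_pos hs.pos hs.pos)
      omega
    -- `|D : C| ≤ |Z|`
    let φ : D →* G :=
      { toFun := fun d => (d : G) * a * (d : G)⁻¹ * a⁻¹
        map_one' := by simp
        map_mul' := fun d e => by
          have h1 : (e : G) * a * (e : G)⁻¹ * a⁻¹ ∈ Z := hKZ (hcm e e.2 a ha)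
          have h2 := hZc _ h1 d d.2
          have h3 : (d : G) * a * (d : G)⁻¹ * a⁻¹ ∈ Z := hKZ (hcm d d.2 a ha)
          show (d * e : G) * a * (d * e : G)⁻¹ * a⁻¹ = _
          calc (d * e : G) * a * (d * e : G)⁻¹ * a⁻¹ =
              (d : G) * ((e : G) * a * (e : G)⁻¹ * a⁻¹) * a * (d : G)⁻¹ * a⁻¹ := by group
            _ = ((e : G) * a * (e : G)⁻¹ * a⁻¹) * (d : G) * a * (d : G)⁻¹ * a⁻¹ := by rw [h2]
            _ = ((e : G) * a * (e : G)⁻¹ * a⁻¹) * ((d : G) * a * (d : G)⁻¹ * a⁻¹) := by group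
            _ = _ := hZc _ h1 _ (hZD h3) }
    have hker : φ.ker = C.subgroupOf D := by
      ext d
      rw [MonoidHom.mem_ker, mem_subgroupOf]
      constructor
      · intro h1
        have h2 : (d : G) * a * (d : G)⁻¹ * a⁻¹ = 1 := h1
        refine ⟨d.2, mem_centralizer_singleton_iff.2 ?_⟩
        have h3 : (d : G) * a = ((d : G) * a * (d : G)⁻¹ * a⁻¹) * (a * d) := by group
        rw [h3, h2, one_mul]
      · intro h1
        show (d : G) * a * (d : G)⁻¹ * a⁻¹ = 1
        rw [mem_centralizer_singleton_iff.1 h1.2]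
        group
    have hrange : φ.range ≤ Z := by
      rintro _ ⟨d, rfl⟩
      exact hKZ (hcm d d.2 a ha)
    have hidx : C.relIndex D ≤ s := by
      have h1 : C.relIndex D = Nat.card φ.range := by
        rw [Subgroup.relIndex, ← hker, Subgroup.index_ker]
      rw [h1]
      exact (Subgroup.card_le_of_le hrange).trans hZle
    have hDcard : Nat.card D ≤ s * Nat.card E := by
      have h1 : Nat.card C * C.relIndex D = Nat.card D := card_mul_relIndex inf_le_left
      rw [← h1, mul_comm]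
      exact Nat.mul_le_mul hidx (Subgroup.card_le_of_le hCE)
    have h1 : Nat.card Z * Z.relIndex D = Nat.card D := card_mul_relIndex hZD
    have h2 : Z.relIndex D ≤ s ^ 2 := by
      have h3 : s * Z.relIndex D ≤ s * s ^ 2 := by
        calc s * Z.relIndex D ≤ Nat.card Z * Z.relIndex D := Nat.mul_le_mul_right _ hZs
          _ = Nat.card D := h1
          _ ≤ s * Nat.card E := hDcard
          _ ≤ s * s ^ 2 := Nat.mul_le_mul_left _ hE1
      exact Nat.le_of_mul_le_mul_left h3 hs.pos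
    obtain ⟨m, hm⟩ : ∃ m, Z.relIndex D = s ^ m := by
      have := hP.index (Z.subgroupOf D)
      exact this
    have hZn : Nrm y Z := by
      rintro z hz
      have hy : y * z = z * y := h.cen_center ⟨a, ha, b₀, hb₀, hab₀⟩ hz.1 (hZc z hz)
      rw [hy, mul_inv_cancel_right]
      exact hz
    have h3 := h.relIndex_modEq (X := Z) hZn fun a ha b hb => hKZ (hcm a ha b hb)
    rw [hm] at h3 h2
    have hm2 : m ≤ 2 := (Nat.pow_le_pow_iff_right hs.one_lt).1 h2
    have hm0 : m ≠ 0 := by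
      rintro rfl
      rw [pow_zero, relIndex_eq_one] at hm
      exact haZ (hm ha)
    refine not_modEq_one hs2 hst ht hs (n := s ^ m) ?_ h3
    have hk3 : m = 1 ∨ m = 2 := by omega
    rcases hk3 with rfl | rfl
    · left; rw [pow_one]
    · right; rfl

end Rank

end Cfsg.Agent.H565.NM
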