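import Cfsg.Agent.H565.TorIdx
import Cfsg.Agent.H565.Tors3
import Cfsg.Agent.H565.TwF4Rank
import Cfsg.Agent.OddRank.SzTits
import Cfsg.Agent.H42.Tw.SzRee

/-!
# `NoMin s t` for exceptional groups of Lie type, `s` not the characteristic, `2 < s < t`

* `noMin_isoG2`, `noMin_iso3D4`, `noMin_iso2F4`, `noMin_isoTits`, `noMin_isoSuzuki`, `noMin_isoRee` : all `s`;
* `noMin_isoF4`, `noMin_isoE6`, `noMin_iso2E6` (`5 ≤ s`), `noMin_isoE7` (`5 ≤ s`, `11 ≤ t`), `noMin_isoE8` (`7 ≤ s`).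
-/

set_option autoImplicit false
set_option linter.unusedSectionVars false

namespace Cfsg.Agent.H565.NM

open Subgroup CoxeterSystem Cfsg Cfsg.Lie Cfsg.Lie.ChevalleyDatum
open Cfsg.Agent.Nodes.RGDChev Cfsg.Agent.H795.SetTor Cfsg.Agent.H795.RowsA Cfsg.Agent.H565.T3
  Cfsg.Agent.BpExc.RowsUntw Cfsg.Agent.H129.TorusChar Cfsg.Agent.GpExc.Field Cfsg.Agent.H720.TwFr Cfsg.Agent.BpExc

universe u

theorem noMin_intro {G : Type*} [Group G] {s t : ℕ} (h : s.Prime → t.Prime → NoMin s t G) : NoMin s t G :=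
  fun y D hD => h hD.hs hD.ht y D hD

/-- cyclic `s`-subgroups -/
theorem noMin_of_cyclic {G : Type*} [Group G] [Finite G] {s t : ℕ} (hs2 : 2 < s) (hst : s < t)
    (h : ∀ P : Subgroup G, IsPGroup s P → IsCyclic P) : NoMin s t G := by
  classical
  refine noMin_intro fun hs _ => noMin_of_rank hs2 hst ?_
  intro A _ hA
  have hAp : IsPGroup s A := fun e => ⟨1, by rw [pow_one]; exact Subtype.ext (hA e e.2)⟩
  have hc := h A hAp
  have := Fintype.ofFinite A
  have h1 := IsCyclic.card_pow_eq_one_le (α := A) (n := s) hs.pos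
  have h2 : (Finset.univ.filter fun a : A => a ^ s = 1) = Finset.univ :=
    Finset.filter_true_of_mem fun a _ => Subtype.ext (hA a a.2)
  rw [h2, Finset.card_univ, ← Nat.card_eq_fintype_card] at h1
  exact h1.trans (Nat.le_self_pow (by norm_num) s)

section Untw

variable {D : ChevalleyDatum} {l : ℕ} {M : CoxeterMatrix (Fin l)} (hp : IsType D l M)

include hp in
/-- the untwisted groups -/
theorem noMin_untw {F : Type u} [Field F] [Finite F] {s t : ℕ} (hsF : (s : F) ≠ 0) (hs2 : 2 < s) (hst : s < t)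
    (hs : ¬ s ^ 2 ∣ Nat.card M.Group) (hT : Tors M.toCoxeterSystem hp.isCartan s) (ht : ¬ t ∣ Nat.card M.Group) :
    NoMin s t ↥(D.group F) := by
  have := Fintype.ofFinite F
  obtain ⟨r, e, hr, hrF, hrk, he, hq', hk⟩ := H129.TorusUntw.exists_closure (F := F) rfl
  have hsr : s ≠ r := by
    rintro rfl
    exact hsF (CharP.cast_eq_zero F s)
  exact noMin_of_sq_not_dvd hp r hk (f := emb hp.inList (algebraMap F (AlgebraicClosure F)))
    (emb_injective hp.inList _) hs2 hst hsr hs hT ht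

end Untw

section

variable {s t : ℕ}

theorem five_le_of (ht : t.Prime) (hs2 : 2 < s) (hst : s < t) : 5 ≤ t := by
  by_contra h
  have : t = 4 := by omega
  rw [this] at ht
  exact absurd ht (by norm_num)

section Fld

variable {F : Type u} [Field F] [Finite F] (hsF : (s : F) ≠ 0) (hs2 : 2 < s) (hst : s < t)

include hsF hs2 hst

theorem noMin_g2 : NoMin s t ↥(chevG2.group F) := by
  refine noMin_intro fun hs ht => ?_
  obtain ⟨h1, h2⟩ := torsG2 g2T hs hs2
  exact noMin_untw g2T hsF hs2 hst h1 h2 (by rw [card_G2]; exact not_dvd_12 ht (five_le_of ht hs2 hst))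

theorem noMin_f4 (h5 : 5 ≤ s) : NoMin s t ↥(chevF4.group F) := by
  refine noMin_intro fun hs ht => ?_
  have := finW f4T
  have h := not_dvd_1152 hs h5
  rw [← card_F4] at h
  exact noMin_untw f4T hsF hs2 hst (fun h1 => h ((dvd_pow_self s two_ne_zero).trans h1)) (tors_of_not_dvd h)
    (by rw [card_F4]; exact not_dvd_1152 ht (by omega))

theorem noMin_e6 (h5 : 5 ≤ s) : NoMin s t ↥(chevE6.group F) := by
  refine noMin_intro fun hs ht => ?_
  obtain ⟨h1, h2⟩ := torsE6 e6T hs h5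
  refine noMin_untw e6T hsF hs2 hst h1 h2 ?_
  rw [card_E6]
  intro h
  have := dvd_51840 ht (by omega) h
  omega

theorem noMin_e7 (h5 : 5 ≤ s) (ht7 : 7 < t) : NoMin s t ↥(chevE7.group F) := by
  refine noMin_intro fun hs ht => ?_
  obtain ⟨h1, h2⟩ := torsE7 e7T hs h5
  refine noMin_untw e7T hsF hs2 hst h1 h2 ?_
  rw [card_E7]
  intro h
  have := dvd_2903040 ht (by omega) h
  omega

theorem noMin_e8 (h5 : 5 < s) : NoMin s t ↥(chevE8.group F) := by
  refine noMin_intro fun hs ht => ?_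
  obtain ⟨h1, h2⟩ := torsE8 e8T hs (by omega) (by omega)
  refine noMin_untw e8T hsF hs2 hst h1 h2 ?_
  rw [card_E8]
  intro h
  have h3 := dvd_696729600 ht (by omega) h
  have h4 : s = 6 := by omega
  rw [h4] at hs
  exact absurd hs (by norm_num)

end Fld

section Tw

variable {K : Type u} [Field K] [Fintype K] {q : ℕ} (hq : IsPrimePow q) (hsK : (s : K) ≠ 0) (hs2 : 2 < s) (hst : s < t)

include hq hsK hs2 hst

theorem noMin_3D4 (hK : Fintype.card K = q ^ 3) : NoMin s t ↥(twistedD4 K q) := by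
  refine noMin_intro fun hs ht => ?_
  obtain ⟨r, n, hr, hrF, hrk, hn0, hn, hk⟩ := H795.Tw.exists_closure_q three_ne_zero hq hK
  have hsr : s ≠ r := by
    rintro rfl
    exact hsK (CharP.cast_eq_zero K s)
  obtain ⟨h1, h2⟩ := torsD4 hp4 hs hs2
  exact noMin_of_sq_not_dvd hp4 r hk (f := em4 (algebraMap K (AlgebraicClosure K)) (tw4_le hq hK))
    (em4_injective _ _) hs2 hst hsr h1 h2 (by rw [card_D4]; exact not_dvd_192 ht (five_le_of ht hs2 hst))

theorem noMin_2E6 (hK : Fintype.card K = q ^ 2) (h5 : 5 ≤ s) : NoMin s t ↥(twistedE6 K q) := by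
  refine noMin_intro fun hs ht => ?_
  obtain ⟨r, n, hr, hrF, hrk, hn0, hn, hk⟩ := H795.Tw.exists_closure_q two_ne_zero hq hK
  have hsr : s ≠ r := by
    rintro rfl
    exact hsK (CharP.cast_eq_zero K s)
  obtain ⟨h1, h2⟩ := torsE6 hp6 hs h5
  refine noMin_of_sq_not_dvd hp6 r hk (f := em6 q (algebraMap K (AlgebraicClosure K)))
    (FamTw.Six.em_injective _) hs2 hst hsr h1 h2 ?_
  rw [card_E6]
  intro h
  have := dvd_51840 ht (by omega) h
  omega

end Tw

/-- `²F₄(q)`, `q = 2 ^ (2 * m + 1)`, `m = 0` included -/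
theorem noMin_2F4 {K : Type u} [Field K] [Fintype K] {m : ℕ} (hK : Fintype.card K = 2 ^ (2 * m + 1)) (hs2 : 2 < s)
    (hst : s < t) : NoMin s t ↥(Lie.twistedF4 K (2 ^ m)) := by
  refine noMin_intro fun hs ht => ?_
  have hch := Cfsg.Agent.ChevalleyStructure.TwF4.Twisted.charP_two hK
  have hfin := H42.Tw.finite_tw (K := K) (2 ^ m)
  by_cases h3 : s = 3
  · subst h3
    exact noMin_of_rank hs2 hst (F4R.prankLE_three_twF4 hK)
  have h5 : 5 ≤ s := by
    by_contra h
    have : s = 4 := by omega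
    rw [this] at hs
    exact absurd hs (by norm_num)
  have h1 := H42.Tw.charP_closure (K := K)
  have h2 := H42.Tw.locFin_closure (K := K)
  have : Fact (Nat.Prime 2) := ⟨Nat.prime_two⟩
  exact noMin_of_not_dvd f4T 2 h2 (f := H42.Tw.jj (algebraMap K (AlgebraicClosure K)) (2 ^ m))
    (H42.Tw.jj_injective _ _) (by omega) (by rw [card_F4]; exact not_dvd_1152 hs h5)
    (by rw [card_F4]; exact not_dvd_1152 ht (by omega))

/-! ### the predicates -/

variable {G : Type*} [Group G] [Finite G] (hs2 : 2 < s) (hst : s < t)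

include hs2 hst

theorem noMin_iso2F4 (h : Lie.Iso2F4 G) : NoMin s t G := by
  obtain ⟨K, _, _, m, _, hK, ⟨e⟩⟩ := h
  exact (noMin_2F4 hK hs2 hst).of_equiv e

theorem noMin_isoTits (h : Lie.IsoTits G) : NoMin s t G := by
  obtain ⟨e⟩ := h
  have h1 : NoMin s t ↥(Lie.twistedF4 (ZMod 2) 1) :=
    noMin_2F4 (K := ZMod 2) (m := 0) (by rw [ZMod.card]; norm_num) hs2 hst
  exact NoMin.of_injective e.toMonoidHom e.injective (h1.subgroup _)

theorem noMin_isoSuzuki (h : Lie.IsoSuzuki G) : NoMin s t G :=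
  noMin_intro fun hs _ => by
    have : Fact s.Prime := ⟨hs⟩
    exact noMin_of_cyclic hs2 hst fun P hP => OddRank.SzTits.isCyclic_of_isPGroup h (by omega) P hP

theorem noMin_isoRee (h : Lie.IsoRee G) (hs3 : s ≠ 3) : NoMin s t G :=
  noMin_intro fun hs _ => by
    have : Fact s.Prime := ⟨hs⟩
    exact noMin_of_cyclic hs2 hst fun P hP => H42.Tw.cyclic_ree h (by omega) P hP

end

end Cfsg.Agent.H565.NM
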