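import Mathlib

/-!
# Elements of order five commuting with the graph automorphism of `E₆`

* `mod_two` : a matrix `N` over `ZMod 2` with `N ^ 5 = 1` commuting with the graph automorphism is `1`;
* `nine_dvd` : two commuting elements of order three.
-/

set_option autoImplicit false

namespace Cfsg.Agent.H565.E6Five

abbrev V := Fin 6 → ZMod 2

/-- the graph automorphism modulo two -/
def gp (x : V) : V := ![x 5, x 1, x 4, x 3, x 2, x 0]

theorem gp_add (x y : V) : gp (x + y) = gp x + gp y := by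
  funext i
  fin_cases i <;> rfl

/-- the fixed vectors of `γ` -/
def K : AddSubgroup V where
  carrier := {x | gp x = x}
  zero_mem' := by
    show gp 0 = 0
    funext i
    fin_cases i <;> rfl
  add_mem' := by
    intro a b ha hb
    show gp (a + b) = a + b
    rw [gp_add]
    exact congrArg₂ _ ha hb
  neg_mem' := by
    intro a ha
    show gp (-a) = -a
    have h1 : -a = a := by
      funext i
      exact ZMod.neg_eq_self_mod_two _
    rw [h1]
    exact ha

/-- the range of `γ - 1` -/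
def R : AddSubgroup V where
  carrier := {x | ∃ z, gp z + z = x}
  zero_mem' := ⟨0, by funext i; fin_cases i <;> rfl⟩
  add_mem' := by
    rintro a b ⟨z, rfl⟩ ⟨w, rfl⟩
    exact ⟨z + w, by rw [gp_add]; abel⟩
  neg_mem' := by
    rintro a ⟨z, rfl⟩
    refine ⟨z, ?_⟩
    funext i
    exact (ZMod.neg_eq_self_mod_two _).symm

theorem card_K : Nat.card K = 16 := by
  have h : Nat.card K = Nat.card {x : V // gp x = x} := rfl
  rw [h, Nat.card_eq_fintype_card]
  decide +kernel

theorem card_R : Nat.card R = 4 := by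
  have h : Nat.card R = Nat.card {x : V // ∃ z, gp z + z = x} := rfl
  rw [h, Nat.card_eq_fintype_card]
  decide +kernel

theorem R_le_K : R ≤ K := by
  rintro _ ⟨z, rfl⟩
  show gp (gp z + z) = gp z + z
  have : ∀ z : V, gp (gp z + z) = gp z + z := by decide +kernel
  exact this z

/-- the fixed vectors of `f` -/
def Fx (f : V →+ V) : AddSubgroup V where
  carrier := {x | f x = x}
  zero_mem' := map_zero f
  add_mem' := by
    intro a b ha hb
    show f (a + b) = a + b
    rw [map_add]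
    exact congrArg₂ _ ha hb
  neg_mem' := by
    intro a ha
    show f (-a) = -a
    rw [map_neg]
    exact congrArg _ ha

theorem card_mod {f : V →+ V} (h5 : ∀ x, f (f (f (f (f x)))) = x) {U : AddSubgroup V} (hU : ∀ x ∈ U, f x ∈ U) :
    Nat.card U ≡ Nat.card (Fx f ⊓ U : AddSubgroup V) [MOD 5] := by
  classical
  have : Fact (Nat.Prime 5) := ⟨by norm_num⟩
  let σ : Function.End U := fun x => ⟨f x, hU _ x.2⟩
  have hσ : σ ^ 5 ^ 1 = 1 := by
    funext x
    apply Subtype.ext
    exact h5 _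
  have h1 := Equiv.Perm.card_fixedPoints_modEq (f := σ) (p := 5) (n := 1) hσ
  have h2 : Fintype.card (Function.fixedPoints σ) = Nat.card (Fx f ⊓ U : AddSubgroup V) := by
    rw [← Nat.card_eq_fintype_card]
    refine Nat.card_congr ⟨fun x => ⟨(x : U), ⟨congrArg Subtype.val x.2, (x : U).2⟩⟩, fun x => ⟨⟨x, x.2.2⟩, Subtype.ext x.2.1⟩,
      fun x => rfl, fun x => rfl⟩
  rw [h2] at h1
  rw [Nat.card_eq_fintype_card (α := U)]
  exact h1

theorem eq_one {f : V →+ V} (h5 : ∀ x, f (f (f (f (f x)))) = x) (hc : ∀ x, f (gp x) = gp (f x)) (x : V) : f x = x := by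
  have hR : ∀ x ∈ R, f x ∈ R := by
    rintro _ ⟨z, rfl⟩
    exact ⟨f z, by rw [map_add, hc]⟩
  have hK : ∀ x ∈ K, f x ∈ K := by
    intro z hz
    show gp (f z) = f z
    have h1 : gp z = z := hz
    rw [← hc, h1]
  have h1 := card_mod h5 hR
  have h2 := card_mod h5 hK
  have h3 := card_mod h5 (U := ⊤) (fun x _ => AddSubgroup.mem_top _)
  rw [card_R] at h1
  rw [card_K] at h2
  have e3 : Nat.card (⊤ : AddSubgroup V) = 64 := by
    rw [AddSubgroup.card_top, Nat.card_eq_fintype_card]
    decide +kernel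
  rw [e3] at h3
  have d1 : Nat.card (Fx f ⊓ R : AddSubgroup V) ∣ 2 ^ 2 := by
    have := AddSubgroup.card_dvd_of_le (inf_le_right : Fx f ⊓ R ≤ R)
    rwa [card_R] at this
  have d2 : Nat.card (Fx f ⊓ K : AddSubgroup V) ∣ 2 ^ 4 := by
    have := AddSubgroup.card_dvd_of_le (inf_le_right : Fx f ⊓ K ≤ K)
    rwa [card_K] at this
  have d3 : Nat.card (Fx f ⊓ ⊤ : AddSubgroup V) ∣ 2 ^ 6 := by
    have := AddSubgroup.card_dvd_of_le (inf_le_right : Fx f ⊓ ⊤ ≤ ⊤)
    rwa [e3] at this
  obtain ⟨i1, hi1, e1⟩ := (Nat.dvd_prime_pow Nat.prime_two).1 d1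
  obtain ⟨i2, hi2, e2⟩ := (Nat.dvd_prime_pow Nat.prime_two).1 d2
  obtain ⟨i3, hi3, e3'⟩ := (Nat.dvd_prime_pow Nat.prime_two).1 d3
  have c1 : Nat.card (Fx f ⊓ R : AddSubgroup V) = 4 := by
    rw [e1] at h1 ⊢
    unfold Nat.ModEq at h1
    interval_cases i1 <;> simp_all
  have f1 : Fx f ⊓ R = R := AddSubgroup.eq_of_le_of_card_ge inf_le_right (by rw [c1, card_R])
  have l1 : Fx f ⊓ R ≤ Fx f ⊓ K := inf_le_inf_left _ R_le_K
  have g1 := Nat.le_of_dvd Nat.card_pos (AddSubgroup.card_dvd_of_le l1)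
  rw [c1] at g1
  have c2 : Nat.card (Fx f ⊓ K : AddSubgroup V) = 16 := by
    rw [e2] at h2 g1 ⊢
    unfold Nat.ModEq at h2
    interval_cases i2 <;> simp_all
  have l2 : Fx f ⊓ K ≤ Fx f ⊓ ⊤ := inf_le_inf_left _ le_top
  have g2 := Nat.le_of_dvd Nat.card_pos (AddSubgroup.card_dvd_of_le l2)
  rw [c2] at g2
  have c3 : Nat.card (Fx f ⊓ ⊤ : AddSubgroup V) = 64 := by
    rw [e3'] at h3 g2 ⊢
    unfold Nat.ModEq at h3
    interval_cases i3 <;> simp_all
  have f3 : Fx f ⊓ ⊤ = ⊤ := AddSubgroup.eq_of_le_of_card_ge inf_le_right (by rw [c3, e3])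
  have h6 : x ∈ Fx f ⊓ ⊤ := by rw [f3]; exact AddSubgroup.mem_top _
  exact h6.1

/-- two commuting elements of order three -/
theorem nine_dvd {W : Type*} [Group W] [Finite W] {C : Subgroup W} {y z : W} (hy : y ∈ C) (hz : z ∈ C)
    (hy3 : y ^ 3 = 1) (hz3 : z ^ 3 = 1) (hc : y * z = z * y) (h0 : z ≠ 1) (h1 : y ≠ 1) (h2 : y ≠ z)
    (h3 : y ≠ z * z) : 3 ^ 2 ∣ Nat.card C := by
  have : Fact (Nat.Prime 3) := ⟨Nat.prime_three⟩
  have oy : orderOf y = 3 := orderOf_eq_prime hy3 h1
  have oz : orderOf z = 3 := orderOf_eq_prime hz3 h0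
  classical
  have hny : y ∉ Subgroup.zpowers z := by
    intro h
    rw [mem_zpowers_iff_mem_range_orderOf, oz] at h
    simp only [Finset.mem_image, Finset.mem_range] at h
    obtain ⟨n, hn, e⟩ := h
    interval_cases n
    · exact h1 (by rw [← e, pow_zero])
    · exact h2 (by rw [← e, pow_one])
    · exact h3 (by rw [← e, pow_two])
  have hdis : Disjoint (Subgroup.zpowers y) (Subgroup.zpowers z) := by
    rw [disjoint_iff, ← Subgroup.card_eq_one]
    have h4 : Nat.card (Subgroup.zpowers y ⊓ Subgroup.zpowers z : Subgroup W) ∣ 3 := by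
      have := Subgroup.card_dvd_of_le (inf_le_left : Subgroup.zpowers y ⊓ Subgroup.zpowers z ≤ Subgroup.zpowers y)
      rwa [Nat.card_zpowers, oy] at this
    rcases (Nat.dvd_prime Nat.prime_three).1 h4 with h5 | h5
    · exact h5
    · exfalso
      have h6 : Subgroup.zpowers y ⊓ Subgroup.zpowers z = Subgroup.zpowers y :=
        Subgroup.eq_of_le_of_card_ge inf_le_left (by rw [h5, Nat.card_zpowers, oy])
      apply hny
      have h7 : y ∈ Subgroup.zpowers y ⊓ Subgroup.zpowers z := by rw [h6]; exact Subgroup.mem_zpowers y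
      exact h7.2
  have hp : IsPGroup 3 (Subgroup.zpowers y ⊔ Subgroup.zpowers z : Subgroup W) := by
    refine IsPGroup.to_sup_of_normal_right' ?_ ?_ ?_
    · exact IsPGroup.of_card (n := 1) (by rw [Nat.card_zpowers, oy, pow_one])
    · exact IsPGroup.of_card (n := 1) (by rw [Nat.card_zpowers, oz, pow_one])
    · rw [Subgroup.zpowers_le, Subgroup.mem_normalizer_iff]
      have key : ∀ u ∈ Subgroup.zpowers z, y * u = u * y := by
        rintro _ ⟨n, rfl⟩
        exact (show Commute y z from hc).zpow_right n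
      intro u
      constructor
      · intro h
        rw [key u h, mul_inv_cancel_right]
        exact h
      · intro h
        have h8 := key _ h
        have h9 : y * u * y⁻¹ = u := by
          have : y * (y * u * y⁻¹) * y⁻¹ = y * u * y⁻¹ := by rw [h8, mul_inv_cancel_right]
          exact mul_left_cancel (mul_right_cancel this)
        rwa [h9] at h
  have hle : Subgroup.zpowers y ⊔ Subgroup.zpowers z ≤ C :=
    sup_le (Subgroup.zpowers_le.2 hy) (Subgroup.zpowers_le.2 hz)
  have h9 : 9 ≤ Nat.card (Subgroup.zpowers y ⊔ Subgroup.zpowers z : Subgroup W) := by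
    have h10 := Nat.card_le_card_of_injective
      (fun g : Subgroup.zpowers y × Subgroup.zpowers z =>
        (⟨(g.1 : W) * g.2, mul_mem (Subgroup.mem_sup_left g.1.2) (Subgroup.mem_sup_right g.2.2)⟩ :
          (Subgroup.zpowers y ⊔ Subgroup.zpowers z : Subgroup W)))
      (fun a b hab => Subgroup.mul_injective_of_disjoint hdis (congrArg Subtype.val hab))
    rw [Nat.card_prod, Nat.card_zpowers, Nat.card_zpowers, oy, oz] at h10
    exact h10
  obtain ⟨n, hn⟩ := (IsPGroup.iff_card (p := 3)).1 hp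
  have hn2 : 2 ≤ n := by
    by_contra hlt
    have : 3 ^ n ≤ 3 ^ 1 := Nat.pow_le_pow_right (by norm_num) (by omega)
    omega
  refine dvd_trans ?_ (Subgroup.card_dvd_of_le hle)
  rw [hn]
  exact pow_dvd_pow 3 hn2

end Cfsg.Agent.H565.E6Five
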