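import Cfsg.Agent.H565.E6Lat
import Cfsg.Agent.H565.E6Five
import Cfsg.Agent.H566.PairLat

/-!
# Two commuting elements of order three of `W(E₆)` commuting with the graph automorphism; no element of order five

* `nine_dvd_CT` : `9 ∣ |CT hp θ|`, `θ = ± γ`;
* `five_not_dvd` : `5 ∤ |CT hp θ|`.
-/

set_option autoImplicit false
set_option linter.unusedSectionVars false

namespace Cfsg.Agent.H565.E6Elt

open CoxeterSystem Cfsg Cfsg.Lie Cfsg.Lie.ChevalleyDatum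
open Cfsg.Agent.ChevalleyStructure Cfsg.Agent.ChevalleyStructure.Elts Cfsg.Agent.ChevalleyStructure.CoxeterGeom
  Cfsg.Agent.ChevalleyStructure.CoxeterGeomTypes Cfsg.Agent.ChevalleyStructure.NPerm
open Cfsg.Agent.Tits.Roots Cfsg.Agent.Tits.Core Cfsg.Agent.Nodes Cfsg.Agent.Nodes.Reps Cfsg.Agent.Nodes.BNOf
  Cfsg.Agent.Nodes.RGDChev Cfsg.Agent.Nodes.Bruhat Cfsg.Agent.H129.WData
open Cfsg.Agent.H572.ExcA Cfsg.Agent.H572.ExcB Cfsg.Agent.H572.ExcC Cfsg.Agent.H572.LatQ Cfsg.Agent.H572.LatForm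
open Cfsg.Agent.H795.NotAbRows Cfsg.Agent.H795.NotAbCert Cfsg.Agent.H795.NotAbData Cfsg.Agent.H795.NotAbData.E6
  Cfsg.Agent.H720.TwFr
open Cfsg.Agent.H565.E6Lat (g comm_g)

/-- the chain of `y` -/
def yL : List (Fin 6 × Mat 6) := [
  (1, ![![1, 0, 0, 0, 0, 0], ![1, 1, 2, 3, 2, 1], ![0, 0, 1, 0, 0, 0], ![-1, -1, -2, -2, -2, -1], ![0, 0, 0, 0, 1, 0], ![0, 0, 0, 0, 0, 1]]),
  (3, ![![1, 0, 0, 0, 0, 0], ![1, 2, 2, 3, 2, 1], ![0, 0, 1, 0, 0, 0], ![-1, -1, -2, -2, -2, -1], ![0, 0, 0, 0, 1, 0], ![0, 0, 0, 0, 0, 1]]),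
  (2, ![![1, 0, 0, 0, 0, 0], ![1, 2, 2, 3, 2, 1], ![0, 0, 1, 1, 0, 0], ![-1, -1, -2, -3, -2, -1], ![0, 0, 0, 1, 1, 0], ![0, 0, 0, 0, 0, 1]]),
  (4, ![![1, 0, 1, 0, 0, 0], ![1, 2, 2, 3, 2, 1], ![0, 0, 0, 1, 0, 0], ![-1, -1, -2, -3, -2, -1], ![0, 0, 1, 1, 1, 0], ![0, 0, 0, 0, 0, 1]]),
  (3, ![![1, 0, 1, 0, 0, 0], ![1, 2, 2, 3, 2, 1], ![0, 0, 0, 1, 1, 0], ![-1, -1, -2, -3, -2, -1], ![0, 0, 1, 1, 0, 0], ![0, 0, 0, 0, 1, 1]]),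
  (1, ![![1, 0, 1, 1, 0, 0], ![1, 2, 2, 3, 2, 1], ![0, 0, 0, 0, 1, 0], ![-1, -1, -2, -2, -2, -1], ![0, 0, 1, 0, 0, 0], ![0, 0, 0, 1, 1, 1]]),
  (0, ![![1, 1, 1, 1, 0, 0], ![1, 1, 2, 3, 2, 1], ![0, 0, 0, 0, 1, 0], ![-1, -1, -2, -2, -2, -1], ![0, 0, 1, 0, 0, 0], ![0, 1, 0, 1, 1, 1]]),
  (5, ![![0, 1, 1, 1, 0, 0], ![1, 1, 2, 3, 2, 1], ![0, 0, 0, 0, 1, 0], ![-1, -1, -2, -2, -2, -1], ![1, 0, 1, 0, 0, 0], ![0, 1, 0, 1, 1, 1]]),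
  (2, ![![0, 1, 1, 1, 0, 0], ![1, 1, 2, 3, 2, 1], ![0, 0, 0, 0, 1, 1], ![-1, -1, -2, -2, -2, -1], ![1, 0, 1, 0, 0, 0], ![0, 1, 0, 1, 1, 0]]),
  (4, ![![0, 1, 0, 1, 0, 0], ![1, 1, 2, 3, 2, 1], ![0, 0, 0, 0, 1, 1], ![-1, -1, -1, -2, -2, -1], ![1, 0, 0, 0, 0, 0], ![0, 1, 1, 1, 1, 0]]),
  (3, ![![0, 1, 0, 1, 1, 0], ![1, 1, 2, 3, 2, 1], ![0, 0, 0, 0, 0, 1], ![-1, -1, -1, -2, -1, -1], ![1, 0, 0, 0, 0, 0], ![0, 1, 1, 1, 0, 0]]),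
  (1, ![![0, 1, 0, 1, 1, 0], ![1, 1, 2, 2, 2, 1], ![0, 0, 0, 0, 0, 1], ![-1, -1, -1, -1, -1, -1], ![1, 0, 0, 0, 0, 0], ![0, 1, 1, 1, 0, 0]]),
  (2, ![![0, 0, 0, 1, 1, 0], ![1, 1, 2, 2, 2, 1], ![0, 0, 0, 0, 0, 1], ![-1, 0, -1, -1, -1, -1], ![1, 0, 0, 0, 0, 0], ![0, 0, 1, 1, 0, 0]]),
  (4, ![![0, 0, 1, 1, 1, 0], ![1, 1, 1, 2, 2, 1], ![0, 0, 0, 0, 0, 1], ![-1, 0, -1, -1, -1, -1], ![1, 0, 1, 0, 0, 0], ![0, 0, 0, 1, 0, 0]]),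
  (3, ![![0, 0, 1, 1, 0, 0], ![1, 1, 1, 2, 1, 1], ![0, 0, 0, 0, 1, 1], ![-1, 0, -1, -1, -1, -1], ![1, 0, 1, 0, 0, 0], ![0, 0, 0, 1, 1, 0]]),
  (0, ![![0, 0, 1, 0, 0, 0], ![1, 1, 1, 1, 1, 1], ![0, 0, 0, 1, 1, 1], ![-1, 0, -1, -1, -1, -1], ![1, 0, 1, 1, 0, 0], ![0, 0, 0, 0, 1, 0]]),
  (5, ![![1, 0, 1, 0, 0, 0], ![0, 1, 1, 1, 1, 1], ![0, 0, 0, 1, 1, 1], ![0, 0, -1, -1, -1, -1], ![0, 0, 1, 1, 0, 0], ![0, 0, 0, 0, 1, 0]]),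
  (2, ![![1, 0, 1, 0, 0, 0], ![0, 1, 1, 1, 1, 0], ![0, 0, 0, 1, 1, 0], ![0, 0, -1, -1, -1, 0], ![0, 0, 1, 1, 0, 0], ![0, 0, 0, 0, 1, 1]]),
  (4, ![![1, 0, 0, 0, 0, 0], ![0, 1, 0, 1, 1, 0], ![0, 0, 1, 1, 1, 0], ![0, 0, 0, -1, -1, 0], ![0, 0, 0, 1, 0, 0], ![0, 0, 0, 0, 1, 1]]),
  (3, ![![1, 0, 0, 0, 0, 0], ![0, 1, 0, 1, 0, 0], ![0, 0, 1, 1, 0, 0], ![0, 0, 0, -1, 0, 0], ![0, 0, 0, 1, 1, 0], ![0, 0, 0, 0, 0, 1]])]

theorem yOK : ChainOK Am yL := by decide +kernel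

/-- the matrix of `y` -/
def yM : Mat 6 := ![![1, 0, 0, 0, 0, 0], ![1, 1, 2, 3, 2, 1], ![0, 0, 1, 0, 0, 0], ![-1, -1, -2, -2, -2, -1], ![0, 0, 0, 0, 1, 0], ![0, 0, 0, 0, 0, 1]]

/-- the element -/
noncomputable def y : CoxeterMatrix.E₆.Group := CoxeterMatrix.E₆.toCoxeterSystem.wordProd (yL.map Prod.fst)

theorem is_y (hp : IsType chevE6 6 CoxeterMatrix.E₆) : IsMat hp y yM := by
  have h := isMat_chain hp hA yOK
  have e : hd yL = yM := rfl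
  rw [e] at h
  exact h

/-- the chain of `z` -/
def zL : List (Fin 6 × Mat 6) := [
  (0, ![![0, 0, 1, 0, 0, 0], ![0, 1, 0, 0, 0, 0], ![-1, 0, -1, 0, 0, 0], ![1, 0, 1, 1, 1, 1], ![0, 0, 0, 0, -1, -1], ![0, 0, 0, 0, 1, 0]]),
  (5, ![![1, 0, 1, 0, 0, 0], ![0, 1, 0, 0, 0, 0], ![0, 0, -1, 0, 0, 0], ![0, 0, 1, 1, 1, 1], ![0, 0, 0, 0, -1, -1], ![0, 0, 0, 0, 1, 0]]),
  (2, ![![1, 0, 1, 0, 0, 0], ![0, 1, 0, 0, 0, 0], ![0, 0, -1, 0, 0, 0], ![0, 0, 1, 1, 1, 0], ![0, 0, 0, 0, -1, 0], ![0, 0, 0, 0, 1, 1]]),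
  (4, ![![1, 0, 0, 0, 0, 0], ![0, 1, 0, 0, 0, 0], ![0, 0, 1, 0, 0, 0], ![0, 0, 0, 1, 1, 0], ![0, 0, 0, 0, -1, 0], ![0, 0, 0, 0, 1, 1]])]

theorem zOK : ChainOK Am zL := by decide +kernel

/-- the matrix of `z` -/
def zM : Mat 6 := ![![0, 0, 1, 0, 0, 0], ![0, 1, 0, 0, 0, 0], ![-1, 0, -1, 0, 0, 0], ![1, 0, 1, 1, 1, 1], ![0, 0, 0, 0, -1, -1], ![0, 0, 0, 0, 1, 0]]

/-- the element -/
noncomputable def z : CoxeterMatrix.E₆.Group := CoxeterMatrix.E₆.toCoxeterSystem.wordProd (zL.map Prod.fst)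

theorem is_z (hp : IsType chevE6 6 CoxeterMatrix.E₆) : IsMat hp z zM := by
  have h := isMat_chain hp hA zOK
  have e : hd zL = zM := rfl
  rw [e] at h
  exact h

/-- the matrix of the graph automorphism -/
def gM : Mat 6 := ![![0, 0, 0, 0, 0, 1], ![0, 1, 0, 0, 0, 0], ![0, 0, 0, 0, 1, 0], ![0, 0, 0, 1, 0, 0], ![0, 0, 1, 0, 0, 0], ![1, 0, 0, 0, 0, 0]]

theorem g_mat (j : Fin 6) : g (sr j) = gM j := by
  have h := perm6_mat j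
  rw [show g (sr j) = permE rho6 (sr j) from rfl, h]
  funext m
  fin_cases j <;> fin_cases m <;> decide +kernel

variable (hp : IsType chevE6 6 CoxeterMatrix.E₆)

include hp in
theorem y_pow : y ^ 3 = 1 :=
  pow_three_eq_one (is_y hp) (V2 := ![![1, 0, 0, 0, 0, 0], ![-1, -2, -2, -3, -2, -1], ![0, 0, 1, 0, 0, 0], ![0, 1, 0, 1, 0, 0], ![0, 0, 0, 0, 1, 0], ![0, 0, 0, 0, 0, 1]]) (by decide +kernel) (by decide +kernel)

include hp in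
theorem z_pow : z ^ 3 = 1 :=
  pow_three_eq_one (is_z hp) (V2 := ![![-1, 0, -1, 0, 0, 0], ![0, 1, 0, 0, 0, 0], ![1, 0, 0, 0, 0, 0], ![0, 0, 1, 1, 1, 0], ![0, 0, 0, 0, 0, 1], ![0, 0, 0, 0, -1, -1]]) (by decide +kernel) (by decide +kernel)

theorem isMat_unique {w v : CoxeterMatrix.E₆.Group} {U : Mat 6} (hw : IsMat hp w U) (hv : IsMat hp v U) : w = v := by
  apply rep_injective CoxeterMatrix.E₆.toCoxeterSystem hp.isCartan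
  apply LinearMap.ext
  intro x
  funext m
  rw [hw.apply, hv.apply]

theorem isMat_ne {w v : CoxeterMatrix.E₆.Group} {U V : Mat 6} (hw : IsMat hp w U) (hv : IsMat hp v V)
    (h : ∃ j m, U j m ≠ V j m) : w ≠ v := by
  rintro rfl
  obtain ⟨j, m, hjm⟩ := h
  apply hjm
  rw [← hw j, ← hv j]

include hp in
theorem yz_comm : y * z = z * y :=
  isMat_unique hp ((is_y hp).mul (is_z hp) (Z := ![![0, 0, 1, 0, 0, 0], ![1, 1, 2, 3, 2, 1], ![-1, 0, -1, 0, 0, 0], ![0, -1, -1, -2, -1, 0], ![0, 0, 0, 0, -1, -1], ![0, 0, 0, 0, 1, 0]]) (by decide +kernel))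
    ((is_z hp).mul (is_y hp) (by decide +kernel))

theorem mem_CT_of_mat {w : CoxeterMatrix.E₆.Group} {U : Mat 6} (hw : IsMat hp w U)
    (h : ∀ j m, ∑ n, gM j n * U n m = ∑ n, U j n * gM n m) {θ : (Fin 6 → ℤ) ≃+ (Fin 6 → ℤ)}
    (hθ : (∀ x, θ x = g x) ∨ ∀ x, θ x = - g x) : w ∈ CT hp θ := by
  have key : ∀ x, ac hp w (g x) = g (ac hp w x) := by
    intro x
    refine addHom_ext (f := (ac hp w).comp g.toAddMonoidHom) (f' := g.toAddMonoidHom.comp (ac hp w)) (fun j => ?_) x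
    show ac hp w (g (sr j)) = g (ac hp w (sr j))
    rw [g_mat]
    have h1 : ac hp w (sr j) = U j := hw j
    rw [h1]
    funext m
    have h2 : ac hp w (gM j) m = ∑ n, gM j n * U n m := hw.apply _ _
    have h3 : g (U j) m = ∑ n, U j n * gM n m := apply_of_sr (f := g.toAddMonoidHom) g_mat _ _
    rw [h2, h3, h]
  intro x
  rcases hθ with h1 | h1
  · rw [h1, h1, key]
  · rw [h1, h1, map_neg, key]

/-- `9 ∣ |CT|` -/
theorem nine_dvd_CT {θ : (Fin 6 → ℤ) ≃+ (Fin 6 → ℤ)} (hθ : (∀ x, θ x = g x) ∨ ∀ x, θ x = - g x) :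
    3 ^ 2 ∣ Nat.card (CT hp θ) := by
  have := finite_W hp (CoxeterMatrix.E₆.toCoxeterSystem)
  refine E6Five.nine_dvd (mem_CT_of_mat hp (is_y hp) (by decide +kernel) hθ)
    (mem_CT_of_mat hp (is_z hp) (by decide +kernel) hθ) (y_pow hp) (z_pow hp) (yz_comm hp) ?_ ?_ ?_ ?_
  · exact isMat_ne hp (is_z hp) isMat_one (by decide +kernel)
  · exact isMat_ne hp (is_y hp) isMat_one (by decide +kernel)
  · exact isMat_ne hp (is_y hp) (is_z hp) (by decide +kernel)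
  · exact isMat_ne hp (is_y hp) ((is_z hp).mul (is_z hp) (Z := ![![-1, 0, -1, 0, 0, 0], ![0, 1, 0, 0, 0, 0], ![1, 0, 0, 0, 0, 0], ![0, 0, 1, 1, 1, 0], ![0, 0, 0, 0, 0, 1], ![0, 0, 0, 0, -1, -1]]) (by decide +kernel)) (by decide +kernel)

/-- reduction modulo two -/
def pi2 (x : Fin 6 → ℤ) : E6Five.V := fun i => (x i : ZMod 2)

theorem pi2_surj (v : E6Five.V) : ∃ x, pi2 x = v := by
  choose x hx using fun i => ZMod.intCast_surjective (v i)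
  exact ⟨x, funext hx⟩

theorem pi2_g (x : Fin 6 → ℤ) : pi2 (g x) = E6Five.gp (pi2 x) := by
  funext i
  fin_cases i <;> rfl

/-- an element of order five commuting with `γ` is trivial -/
theorem eq_one_of_five {w : CoxeterMatrix.E₆.Group} (h5 : w ^ 5 = 1) (hc : ∀ x, ac hp w (g x) = g (ac hp w x)) :
    w = 1 := by
  let f : E6Five.V →+ E6Five.V :=
    { toFun := fun v m => ∑ n, v n * ((ac hp w (sr n) m : ℤ) : ZMod 2)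
      map_zero' := by
        funext m
        simp
      map_add' := fun a b => by
        funext m
        simp only [Pi.add_apply, add_mul, Finset.sum_add_distrib] }
  have hf : ∀ x, f (pi2 x) = pi2 (ac hp w x) := by
    intro x
    funext m
    have h1 : ac hp w x m = ∑ n, x n * ac hp w (sr n) m :=
      apply_of_sr (f := ac hp w) (U := fun n => ac hp w (sr n)) (fun _ => rfl) x m
    show ∑ n, pi2 x n * ((ac hp w (sr n) m : ℤ) : ZMod 2) = ((ac hp w x m : ℤ) : ZMod 2)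
    rw [h1]
    push_cast
    rfl
  have hf5 : ∀ v, f (f (f (f (f v)))) = v := by
    intro v
    obtain ⟨x, rfl⟩ := pi2_surj v
    rw [hf, hf, hf, hf, hf, ← ac_mul, ← ac_mul, ← ac_mul, ← ac_mul]
    have h1 : w * w * w * w * w = 1 := by rw [← h5]; simp only [pow_succ, pow_zero, one_mul]
    rw [h1, ac_one]
  have hfg : ∀ v, f (E6Five.gp v) = E6Five.gp (f v) := by
    intro v
    obtain ⟨x, rfl⟩ := pi2_surj v
    rw [← pi2_g, hf, hc, pi2_g, hf]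
  have h1 := E6Five.eq_one hf5 hfg
  have h2 : ∀ x i, (2 : ℤ) ∣ ac hp w x i - x i := by
    intro x i
    have h3 := congrFun (h1 (pi2 x)) i
    rw [hf] at h3
    have h4 : ((ac hp w x i : ℤ) : ZMod 2) = ((x i : ℤ) : ZMod 2) := h3
    rw [← sub_eq_zero, ← Int.cast_sub, ZMod.intCast_zmod_eq_zero_iff_dvd] at h4
    exact_mod_cast h4
  let N : Matrix (Fin 6) (Fin 6) ℤ := LinearMap.toMatrixAlgEquiv' (rep CoxeterMatrix.E₆.toCoxeterSystem hp.isCartan w)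
  have hN5 : N ^ 5 = 1 := by
    show (LinearMap.toMatrixAlgEquiv' (rep CoxeterMatrix.E₆.toCoxeterSystem hp.isCartan w)) ^ 5 = 1
    rw [← map_pow, ← map_pow, h5, map_one, map_one]
  have hN : N = 1 := by
    refine Cfsg.Agent.H566.PairW.minkowski Nat.prime_two (by norm_num : Nat.Prime 5) (by norm_num) hN5 (fun i j => ?_)
    have h3 := h2 (sr j) i
    have h4 : N i j = ac hp w (sr j) i := by
      show (LinearMap.toMatrixAlgEquiv' (rep CoxeterMatrix.E₆.toCoxeterSystem hp.isCartan w)) i j = _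
      rw [LinearMap.toMatrixAlgEquiv'_apply]
      rfl
    have h5 : (1 : Matrix (Fin 6) (Fin 6) ℤ) i j = (sr j : Fin 6 → ℤ) i := by
      rw [Matrix.one_apply, sr_apply']
      by_cases h : i = j
      · rw [if_pos h, if_pos h.symm]
      · rw [if_neg h, if_neg (Ne.symm h)]
    rw [Matrix.sub_apply, h4, h5]
    exact_mod_cast h3
  have h6 : rep CoxeterMatrix.E₆.toCoxeterSystem hp.isCartan w = 1 := by
    apply LinearMap.toMatrixAlgEquiv'.injective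
    rw [map_one]
    exact hN
  apply rep_injective CoxeterMatrix.E₆.toCoxeterSystem hp.isCartan
  rw [h6, map_one]

/-- `5 ∤ |CT|` -/
theorem five_not_dvd {θ : (Fin 6 → ℤ) ≃+ (Fin 6 → ℤ)} (hθ : (∀ x, θ x = g x) ∨ ∀ x, θ x = - g x) :
    ¬ 5 ∣ Nat.card (CT hp θ) := by
  intro h
  have := finite_W hp (CoxeterMatrix.E₆.toCoxeterSystem)
  have : Fact (Nat.Prime 5) := ⟨by norm_num⟩
  obtain ⟨w, hw⟩ := exists_prime_orderOf_dvd_card' 5 h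
  have h1 : w ^ 5 = 1 := by rw [← hw]; exact pow_orderOf_eq_one w
  have h2 : (w : CoxeterMatrix.E₆.Group) = 1 :=
    eq_one_of_five hp (by exact_mod_cast congrArg Subtype.val h1) (comm_g hp hθ w.2)
  have h3 : w = 1 := Subtype.ext h2
  rw [h3, orderOf_one] at hw
  norm_num at hw

end Cfsg.Agent.H565.E6Elt
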