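import Cfsg.Agent.H565.CharCnt
import Cfsg.Agent.H795.NotAbRows
import Cfsg.Agent.Nodes.FrameCent

/-!
# The lattice data of `E₆(q)`, `q ≡ 2 (3)`, and `²E₆(q)`, `q ≡ 1 (3)`, for the prime three

`γ = permE rho6`, `B x y = (x + γ x, y)`: the form of the fixed lattice of type `F₄`.
* `isForm_B`, `fdata` : `FData hp B (CT hp θ) ee`, `θ = ± γ`.
-/

set_option autoImplicit false
set_option linter.unusedSectionVars false

namespace Cfsg.Agent.H565.E6Lat

open CoxeterSystem Cfsg Cfsg.Lie Cfsg.Lie.ChevalleyDatum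
open Cfsg.Agent.ChevalleyStructure Cfsg.Agent.ChevalleyStructure.Elts Cfsg.Agent.ChevalleyStructure.CoxeterGeom
  Cfsg.Agent.ChevalleyStructure.CoxeterGeomTypes Cfsg.Agent.ChevalleyStructure.NPerm
open Cfsg.Agent.Tits.Roots Cfsg.Agent.Tits.Core Cfsg.Agent.Nodes Cfsg.Agent.Nodes.Reps Cfsg.Agent.Nodes.BNOf
  Cfsg.Agent.Nodes.RGDChev Cfsg.Agent.Nodes.Bruhat
open Cfsg.Agent.H572.ExcA Cfsg.Agent.H572.ExcB Cfsg.Agent.H572.ExcC Cfsg.Agent.H572.LatQ Cfsg.Agent.H572.LatForm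
open Cfsg.Agent.H795.NotAbRows Cfsg.Agent.H795.NotAbCert Cfsg.Agent.H720.TwFr

/-- the Cartan matrix -/
abbrev A6 : Fin 6 → Fin 6 → ℤ := cartanOf chevE6 6

/-- the standard form -/
abbrev b (x y : Fin 6 → ℤ) : ℤ := nf A6 (fun _ => 1) x y

/-- the graph automorphism -/
abbrev g : (Fin 6 → ℤ) ≃+ (Fin 6 → ℤ) := permE rho6

/-- the form of the fixed lattice -/
def B (x y : Fin 6 → ℤ) : ℤ := b (x + g x) y

theorem symD : SymD A6 (fun _ => 1) 0 ![0, 3, 1, 2, 3, 4] where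
  sym := by decide +kernel
  pos := fun _ => one_pos
  conn := by decide +kernel

theorem A6_eq : ∀ i j, A6 i j = H795.NotAbData.E6.Am i j := fun i j => (H795.NotAbData.E6.hA i j).symm

theorem b_eq (x y : Fin 6 → ℤ) : b x y =
    2 * (x 0 * y 0 + x 1 * y 1 + x 2 * y 2 + x 3 * y 3 + x 4 * y 4 + x 5 * y 5)
      - (x 0 * y 2 + x 2 * y 0) - (x 2 * y 3 + x 3 * y 2) - (x 1 * y 3 + x 3 * y 1) - (x 3 * y 4 + x 4 * y 3)
      - (x 4 * y 5 + x 5 * y 4) := by
  show PRankPar.Weyl.form A6 (fun _ => 1) x y = _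
  unfold PRankPar.Weyl.form pairing
  simp only [A6_eq, H795.NotAbData.E6.Am, Fin.sum_univ_succ, Fin.sum_univ_zero, Matrix.cons_val_zero,
    Matrix.cons_val_succ, Matrix.cons_val_fin_one]
  simp
  ring

theorem g_apply (x : Fin 6 → ℤ) : g x 0 = x 5 ∧ g x 1 = x 1 ∧ g x 2 = x 4 ∧ g x 3 = x 3 ∧ g x 4 = x 2 ∧
    g x 5 = x 0 := ⟨rfl, rfl, rfl, rfl, rfl, rfl⟩

theorem g_g (x : Fin 6 → ℤ) : g (g x) = x := by
  funext i
  fin_cases i <;> rfl

theorem b_g (x y : Fin 6 → ℤ) : b (g x) (g y) = b x y := by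
  obtain ⟨a0, a1, a2, a3, a4, a5⟩ := g_apply x
  obtain ⟨c0, c1, c2, c3, c4, c5⟩ := g_apply y
  rw [b_eq, b_eq, a0, a1, a2, a3, a4, a5, c0, c1, c2, c3, c4, c5]
  ring

theorem b_add (x y z : Fin 6 → ℤ) : b (x + y) z = b x z + b y z := PRankPar.Weyl.form_add_left _ x y z

theorem b_comm (x y : Fin 6 → ℤ) : b x y = b y x := PRankPar.Weyl.form_comm symD.sym x y

theorem b_gl (x y : Fin 6 → ℤ) : b (g x) y = b x (g y) := by
  have := b_g x (g y)
  rwa [g_g] at this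

section W

variable (hp : IsType chevE6 6 CoxeterMatrix.E₆)

include hp in
theorem isForm_b : IsForm b := by
  have := finite_W hp (CoxeterMatrix.E₆.toCoxeterSystem)
  exact isForm CoxeterMatrix.E₆.toCoxeterSystem hp.isCartan symD

include hp in
theorem isForm_B : IsForm B where
  add x y z := by
    show b (x + y + g (x + y)) z = b (x + g x) z + b (y + g y) z
    rw [← b_add, map_add]
    congr 1
    abel
  comm x y := by
    show b (x + g x) y = b (y + g y) x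
    rw [b_add, b_add, b_comm y x, b_gl, b_comm x (g y)]
  nonneg x := by
    have h1 := (isForm_b hp).nonneg (x + g x)
    have h2 : b (x + g x) (x + g x) = 2 * b (x + g x) x := by
      rw [(isForm_b hp).add' (x + g x) x (g x)]
      have h3 : b (x + g x) (g x) = b (x + g x) x := by
        rw [← b_gl, map_add, g_g, add_comm]
      rw [h3]
      ring
    show 0 ≤ b (x + g x) x
    omega

theorem iso_B {θ : (Fin 6 → ℤ) ≃+ (Fin 6 → ℤ)} (hθ : (∀ x, θ x = g x) ∨ ∀ x, θ x = - g x)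
    {w : CoxeterMatrix.E₆.Group} (hw : w ∈ CT hp θ) : Iso B (ac hp w) := by
  have hwg : ∀ x, ac hp w (g x) = g (ac hp w x) := by
    intro x
    have h1 := hw x
    rcases hθ with h | h
    · rwa [h, h] at h1
    · rw [h, h, map_neg] at h1
      exact neg_injective h1
  constructor
  intro x y
  show b (ac hp w x + g (ac hp w x)) (ac hp w y) = b (x + g x) y
  rw [← hwg, ← map_add]
  exact (iso_act CoxeterMatrix.E₆.toCoxeterSystem hp.isCartan symD w).iso _ _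

/-- the roots generating the lattice -/
def ee : Fin 6 → (Fin 6 → ℤ) := ![![1, 0, 0, 0, 0, 0], ![0, 0, 0, 0, 0, 1], ![0, 0, 1, 0, 0, 0], ![0, 0, 0, 0, 1, 0],
  ![0, 0, 1, 1, 0, 0], ![0, 1, 1, 1, 0, 0]]

/-- the form in coordinates -/
theorem B_eq (x y : Fin 6 → ℤ) : B x y =
    2 * ((x 0 + x 5) * y 0 + 2 * x 1 * y 1 + (x 2 + x 4) * y 2 + 2 * x 3 * y 3 + (x 4 + x 2) * y 4 + (x 5 + x 0) * y 5)
      - ((x 0 + x 5) * y 2 + (x 2 + x 4) * y 0) - ((x 2 + x 4) * y 3 + 2 * x 3 * y 2) - (2 * x 1 * y 3 + 2 * x 3 * y 1)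
      - (2 * x 3 * y 4 + (x 4 + x 2) * y 3) - ((x 4 + x 2) * y 5 + (x 5 + x 0) * y 4) := by
  obtain ⟨a0, a1, a2, a3, a4, a5⟩ := g_apply x
  show b (x + g x) y = _
  rw [b_eq]
  simp only [Pi.add_apply, a0, a1, a2, a3, a4, a5]
  ring

theorem norm_ee (i : Fin 6) : B (ee i) (ee i) = 2 := by
  rw [B_eq]
  fin_cases i <;> rfl

theorem span_ee : AddSubgroup.closure (Set.range ee) = ⊤ := by
  rw [eq_top_iff]
  intro x _
  have hm : ∀ i, ee i ∈ AddSubgroup.closure (Set.range ee) := fun i => AddSubgroup.subset_closure ⟨i, rfl⟩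
  have e : x = x 0 • ee 0 + x 5 • ee 1 + (x 2 - x 3) • ee 2 + x 4 • ee 3 + (x 3 - x 1) • ee 4 + x 1 • ee 5 := by
    funext i
    fin_cases i <;> simp [ee]
  rw [e]
  refine add_mem (add_mem (add_mem (add_mem (add_mem ?_ ?_) ?_) ?_) ?_) ?_ <;>
    exact AddSubgroup.zsmul_mem _ (hm _) _

/-- `2ρ` -/
def rho2 : Fin 6 → ℤ := ![16, 22, 30, 42, 30, 16]

theorem b_rho (x : Fin 6 → ℤ) : b x rho2 = 2 * (x 0 + x 1 + x 2 + x 3 + x 4 + x 5) := by
  rw [b_eq]
  simp [rho2]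
  ring

theorem ht_ne : ∀ r : Fin chevE6.nroots, (vec chevE6 6 r 0 + vec chevE6 6 r 1 + vec chevE6 6 r 2 + vec chevE6 6 r 3 +
    vec chevE6 6 r 4 + vec chevE6 6 r 5 : ℤ) ≠ 0 := by decide +kernel

include hp in
theorem eq_one_of_rho {w : CoxeterMatrix.E₆.Group} (hw : ac hp w rho2 = rho2) : w = 1 := by
  have hWf := finite_W hp (CoxeterMatrix.E₆.toCoxeterSystem)
  have hF := Fintype.ofFinite CoxeterMatrix.E₆.Group
  refine FrameCent.eq_one_of_fix (cs := CoxeterMatrix.E₆.toCoxeterSystem) (h := hp.isCartan) (m := 1)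
    (r := fun _ => rho2) (fun x hx => ⟨0, fun h0 => ?_⟩) (fun _ => hw)
  have h1 := two_form_eq CoxeterMatrix.E₆.toCoxeterSystem hp.isCartan symD x rho2
  rw [h0, mul_zero] at h1
  have h3 := form_pos CoxeterMatrix.E₆.toCoxeterSystem hp.isCartan (sr_ne_zero (0 : Fin 6))
  obtain ⟨r, hr, rfl⟩ := (isRoot_iff hp _ x).1 hx
  have h4 := b_rho (vec chevE6 6 r)
  have h5 := ht_ne ⟨r, hr⟩
  have h6 : b (vec chevE6 6 r) rho2 = 0 := by
    rcases mul_eq_zero.1 h1.symm with h7 | h7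
    · exact absurd h7 h3.ne'
    · exact h7
  rw [h6] at h4
  apply h5
  show (vec chevE6 6 r 0 + vec chevE6 6 r 1 + vec chevE6 6 r 2 + vec chevE6 6 r 3 +
    vec chevE6 6 r 4 + vec chevE6 6 r 5 : ℤ) = 0
  omega

include hp in
theorem rad_B {x : Fin 6 → ℤ} (h : Rad B x) : x + g x = 0 := by
  have := finite_W hp (CoxeterMatrix.E₆.toCoxeterSystem)
  exact eq_zero_of_rad CoxeterMatrix.E₆.toCoxeterSystem hp.isCartan symD (x := x + g x) h

theorem g_rho : g rho2 = rho2 := by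
  funext i
  fin_cases i <;> rfl

theorem comm_g {θ : (Fin 6 → ℤ) ≃+ (Fin 6 → ℤ)} (hθ : (∀ x, θ x = g x) ∨ ∀ x, θ x = - g x)
    {w : CoxeterMatrix.E₆.Group} (hw : w ∈ CT hp θ) (x : Fin 6 → ℤ) : ac hp w (g x) = g (ac hp w x) := by
  have h1 := hw x
  rcases hθ with h | h
  · rwa [h, h] at h1
  · rw [h, h, map_neg] at h1
    exact neg_injective h1

/-- **the data on the form** -/
theorem fdata {θ : (Fin 6 → ℤ) ≃+ (Fin 6 → ℤ)} (hθ : (∀ x, θ x = g x) ∨ ∀ x, θ x = - g x) :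
    FData hp B (CT hp θ) ee where
  form := isForm_B hp
  iso := fun w hw => iso_B hp hθ hw
  norm := norm_ee
  fix := by
    intro w hw h
    have hcl : ∀ x : Fin 6 → ℤ, ac hp w x - x + g (ac hp w x - x) = 0 := by
      intro x
      have hx : x ∈ AddSubgroup.closure (Set.range ee) := by rw [span_ee]; exact AddSubgroup.mem_top _
      induction hx using AddSubgroup.closure_induction with
      | mem x hx =>
        obtain ⟨i, rfl⟩ := hx
        exact rad_B hp (h i)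
      | zero => rw [map_zero, sub_zero, map_zero, add_zero]
      | add x y _ _ h1 h2 =>
        have e : ac hp w (x + y) - (x + y) + g (ac hp w (x + y) - (x + y)) =
            (ac hp w x - x + g (ac hp w x - x)) + (ac hp w y - y + g (ac hp w y - y)) := by
          rw [map_add, map_sub, map_sub, map_sub, map_add, map_add]
          abel
        rw [e, h1, h2, add_zero]
      | neg x _ h1 =>
        have e : ac hp w (-x) - (-x) + g (ac hp w (-x) - (-x)) = -(ac hp w x - x + g (ac hp w x - x)) := by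
          rw [map_neg, map_sub, map_sub, map_neg, map_neg]
          abel
        rw [e, h1, neg_zero]
    apply eq_one_of_rho hp
    have h1 := hcl rho2
    rw [map_sub, ← comm_g hp hθ hw, g_rho] at h1
    funext i
    have h2 := congrFun h1 i
    simp only [Pi.add_apply, Pi.sub_apply, Pi.zero_apply] at h2
    omega

theorem norm_roots : ∀ r : Fin chevE6.nroots, ¬ (3 : ℤ) ∣
    2 * ((vec chevE6 6 r 0 + vec chevE6 6 r 5) * vec chevE6 6 r 0 + 2 * vec chevE6 6 r 1 * vec chevE6 6 r 1 +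
        (vec chevE6 6 r 2 + vec chevE6 6 r 4) * vec chevE6 6 r 2 + 2 * vec chevE6 6 r 3 * vec chevE6 6 r 3 +
        (vec chevE6 6 r 4 + vec chevE6 6 r 2) * vec chevE6 6 r 4 +
        (vec chevE6 6 r 5 + vec chevE6 6 r 0) * vec chevE6 6 r 5)
      - ((vec chevE6 6 r 0 + vec chevE6 6 r 5) * vec chevE6 6 r 2 +
        (vec chevE6 6 r 2 + vec chevE6 6 r 4) * vec chevE6 6 r 0)
      - ((vec chevE6 6 r 2 + vec chevE6 6 r 4) * vec chevE6 6 r 3 + 2 * vec chevE6 6 r 3 * vec chevE6 6 r 2)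
      - (2 * vec chevE6 6 r 1 * vec chevE6 6 r 3 + 2 * vec chevE6 6 r 3 * vec chevE6 6 r 1)
      - (2 * vec chevE6 6 r 3 * vec chevE6 6 r 4 + (vec chevE6 6 r 4 + vec chevE6 6 r 2) * vec chevE6 6 r 3)
      - ((vec chevE6 6 r 4 + vec chevE6 6 r 2) * vec chevE6 6 r 5 +
        (vec chevE6 6 r 5 + vec chevE6 6 r 0) * vec chevE6 6 r 4) := by decide +kernel

theorem reg (a : Fin 6 → ℤ) (ha : IsRoot CoxeterMatrix.E₆.toCoxeterSystem hp.isCartan a) : ¬ (3 : ℤ) ∣ B a a := by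
  obtain ⟨r, hr, rfl⟩ := (isRoot_iff hp _ a).1 ha
  rw [B_eq]
  exact norm_roots ⟨r, hr⟩

end W

end Cfsg.Agent.H565.E6Lat
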