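import Mathlib
import Cfsg.Prelude.Def_Transfer
import Cfsg.Agent.Lib.CoprimeHyperplane
import Cfsg.Agent.H565.NormK
import Cfsg.Agent.SignalizersComponents.CoprimeBasic

/-!
# Coprime action of an elementary abelian group of order `q³`: the subgroup `P0`

`P0 H A P` is generated by the intersections of the invariant Sylow subgroup `P` of `H` with the derived subgroups of
`C_H(a)`, `1 ≠ a ∈ A`. It is normalised by `A` and `P`, contains `⁅P, P⁆` and `⁅H, N⁆` for a normal abelian subgroup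
`N ≤ P`, and it contains the intersection of `P` with the components of `H`.
-/

set_option autoImplicit false

namespace Cfsg.Agent.H565.Focal

open Subgroup
open scoped Pointwise commutatorElement

universe u

/-- The Sylow subgroups of the automorphism group of a simple group, for primes not dividing the order of the group,
are cyclic. -/
def CycHyp : Prop := ∀ (K : Type u) [Group K] [Finite K] [IsSimpleGroup K], (¬ ∀ x y : K, x * y = y * x) →
  ∀ (r : ℕ) [Fact r.Prime], ¬ r ∣ Nat.card K → ∀ R : Sylow r (MulAut K), IsCyclic R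

variable {G : Type u} [Group G]

/-- The derived subgroup of `C_H(a)`. -/
def Dc (H : Subgroup G) (a : G) : Subgroup G :=
  ⁅H ⊓ centralizer ({a} : Set G), H ⊓ centralizer ({a} : Set G)⁆

/-- The subgroup generated by the `P ∩ C_H(a)'`, `1 ≠ a ∈ A`. -/
def P0 (H A P : Subgroup G) : Subgroup G := ⨆ a : {a : G // a ∈ A ∧ a ≠ 1}, P ⊓ Dc H a.1

/-- The situation: `A` elementary abelian of order `q³` acting coprimely on `H`, `P` an `A`-invariant Sylow
`p`-subgroup of `H`. -/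
structure Setup (q p : ℕ) (H A P : Subgroup G) : Prop where
  Hn : H.Normal
  cardA : Nat.card A = q ^ 3
  ab : ∀ a ∈ A, ∀ b ∈ A, a * b = b * a
  exp : ∀ a ∈ A, a ^ q = 1
  cop : ¬ q ∣ Nat.card H
  PH : P ≤ H
  Pp : IsPGroup p P
  Psyl : ¬ p ∣ P.relIndex H
  AP : A ≤ normalizer (P : Set G)

variable {H A P : Subgroup G}

theorem mem_P0 {a x : G} (ha : a ∈ A) (ha1 : a ≠ 1) (hx : x ∈ P) (hxD : x ∈ Dc H a) : x ∈ P0 H A P :=
  (le_iSup (fun a : {a : G // a ∈ A ∧ a ≠ 1} => P ⊓ Dc H a.1) ⟨a, ha, ha1⟩) (mem_inf.mpr ⟨hx, hxD⟩)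

theorem P0_le : P0 H A P ≤ P := iSup_le fun _ => inf_le_left

theorem Dc_le (a : G) : Dc H a ≤ ⁅H, H⁆ := commutator_mono inf_le_left inf_le_left

theorem P0_le_commutator : P0 H A P ≤ ⁅H, H⁆ := iSup_le fun a => inf_le_right.trans (Dc_le a.1)

theorem conj_mem_Dc (hH : H.Normal) {a b : G} (hab : a * b = b * a) {x : G} (hx : x ∈ Dc H a) :
    b * x * b⁻¹ ∈ Dc H a := by
  have h1 : (H ⊓ centralizer ({a} : Set G)).map (MulAut.conj b).toMonoidHom ≤ H ⊓ centralizer ({a} : Set G) := by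
    rintro _ ⟨y, hy, rfl⟩
    obtain ⟨hy1, hy2⟩ := mem_inf.mp hy
    refine mem_inf.mpr ⟨hH.conj_mem y hy1 b, ?_⟩
    rw [mem_centralizer_singleton_iff] at hy2 ⊢
    show b * y * b⁻¹ * a = a * (b * y * b⁻¹)
    have h2 : b⁻¹ * a = a * b⁻¹ := by
      have h3 : b⁻¹ * (a * b) * b⁻¹ = b⁻¹ * (b * a) * b⁻¹ := by rw [hab]
      calc b⁻¹ * a = b⁻¹ * (a * b) * b⁻¹ := by group
        _ = b⁻¹ * (b * a) * b⁻¹ := h3
        _ = a * b⁻¹ := by group
    calc b * y * b⁻¹ * a = b * y * (b⁻¹ * a) := by group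
      _ = b * y * (a * b⁻¹) := by rw [h2]
      _ = b * (y * a) * b⁻¹ := by group
      _ = b * (a * y) * b⁻¹ := by rw [hy2]
      _ = (b * a) * y * b⁻¹ := by group
      _ = (a * b) * y * b⁻¹ := by rw [hab]
      _ = a * (b * y * b⁻¹) := by group
  have h2 : (Dc H a).map (MulAut.conj b).toMonoidHom ≤ Dc H a := by
    unfold Dc
    rw [map_commutator]
    exact commutator_mono h1 h1
  exact h2 ⟨x, hx, rfl⟩

theorem Setup.conj_mem_P {q p : ℕ} (h : Setup q p H A P) {a : G} (ha : a ∈ A) {x : G} (hx : x ∈ P) :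
    a * x * a⁻¹ ∈ P := (mem_normalizer_iff.mp (h.AP ha) x).mp hx

theorem Setup.conj_mem_P0 {q p : ℕ} (h : Setup q p H A P) {b : G} (hb : b ∈ A) {x : G} (hx : x ∈ P0 H A P) :
    b * x * b⁻¹ ∈ P0 H A P := by
  have h1 : (P0 H A P).map (MulAut.conj b).toMonoidHom ≤ P0 H A P := by
    unfold P0
    rw [Subgroup.map_iSup]
    refine iSup_le fun a => ?_
    rintro _ ⟨y, hy, rfl⟩
    obtain ⟨hy1, hy2⟩ := mem_inf.mp hy
    exact mem_P0 a.2.1 a.2.2 (h.conj_mem_P hb hy1) (conj_mem_Dc h.Hn (h.ab _ a.2.1 _ hb) hy2)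
  exact h1 ⟨x, hx, rfl⟩

theorem Setup.le_normalizer_P0 {q p : ℕ} (h : Setup q p H A P) : A ≤ normalizer (P0 H A P : Set G) := by
  intro b hb
  rw [mem_normalizer_iff]
  intro x
  constructor
  · exact h.conj_mem_P0 hb
  · intro hx
    have h1 := h.conj_mem_P0 (A.inv_mem hb) hx
    have h2 : b⁻¹ * (b * x * b⁻¹) * b⁻¹⁻¹ = x := by group
    rwa [h2] at h1

section Finite

variable [Finite G]

theorem Setup.coprime_orderOf {q p : ℕ} (hq : q.Prime) (h : Setup q p H A P) {x : G} (hx : x ∈ P) :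
    q.Coprime (orderOf x) := by
  rw [Nat.Prime.coprime_iff_not_dvd hq]
  intro hd
  exact h.cop (hd.trans (Subgroup.orderOf_dvd_natCard _ (h.PH hx)))

omit [Finite G] in
/-- Two hyperplanes of `A` meet nontrivially. -/
theorem exists_mem_inf {q : ℕ} (hq : q.Prime) (hA : Nat.card A = q ^ 3) {B B' : Subgroup G}
    (hB : B ≤ A ∧ B.relIndex A = q) (hB' : B' ≤ A ∧ B'.relIndex A = q) : ∃ a ∈ B, a ∈ B' ∧ a ≠ 1 := by
  by_contra hcon
  push Not at hcon
  have h1 : B ⊓ B' = ⊥ := by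
    rw [eq_bot_iff]
    intro a ha
    exact mem_bot.mpr (hcon a (mem_inf.mp ha).1 (mem_inf.mp ha).2)
  have h2 : (B ⊓ B').relIndex A ≤ B.relIndex A * B'.relIndex A := relIndex_inf_le
  rw [h1, relIndex_bot_left, hA, hB.2, hB'.2] at h2
  have h3 : q * q * 1 < q * q * q := Nat.mul_lt_mul_of_pos_left hq.one_lt (Nat.mul_pos hq.pos hq.pos)
  have h4 : q ^ 3 = q * q * q := by ring
  omega

theorem comm_mem_Dc {q : ℕ} (hq : q.Prime) (hA : Nat.card A = q ^ 3) {B B' : Subgroup G}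
    (hB : B ≤ A ∧ B.relIndex A = q) (hB' : B' ≤ A ∧ B'.relIndex A = q) {u v : G}
    (hu : u ∈ H ⊓ centralizer (B : Set G)) (hv : v ∈ H ⊓ centralizer (B' : Set G)) :
    ∃ a ∈ A, a ≠ 1 ∧ ⁅u, v⁆ ∈ Dc H a := by
  obtain ⟨a, ha, ha', ha1⟩ := exists_mem_inf hq hA hB hB'
  refine ⟨a, hB.1 ha, ha1, ?_⟩
  have hle : ∀ {C : Subgroup G}, a ∈ C → ∀ w ∈ H ⊓ centralizer (C : Set G), w ∈ H ⊓ centralizer ({a} : Set G) := by
    intro C haC w hw
    refine mem_inf.mpr ⟨(mem_inf.mp hw).1, ?_⟩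
    rw [mem_centralizer_singleton_iff]
    exact ((mem_centralizer_iff.mp (mem_inf.mp hw).2) a haC).symm
  exact commutator_mem_commutator (hle ha u hu) (hle ha' v hv)

variable {q p : ℕ}

omit [Finite G] in
theorem Setup.elem (h : Setup q p H A P) : Cfsg.IsElementaryAbelian q A :=
  ⟨⟨⟨fun a b => Subtype.ext (h.ab a.1 a.2 b.1 b.2)⟩⟩, h.exp⟩

omit [Finite G] in
theorem Setup.A_ne_bot (h : Setup q p H A P) (hq : q.Prime) : A ≠ ⊥ := by
  rintro rfl
  have h1 := h.cardA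
  rw [Subgroup.card_bot] at h1
  have : 1 < q ^ 3 := Nat.one_lt_pow (by norm_num) hq.one_lt
  omega

/-- Generation of invariant subgroups of `H` by the fixed points of hyperplanes. -/
theorem Setup.gen (h : Setup q p H A P) (hq : q.Prime) {Q : Subgroup G} (hQ : Q ≤ H)
    (hAQ : A ≤ normalizer (Q : Set G)) :
    Q = ⨆ B : {B : Subgroup G // B ≤ A ∧ B.relIndex A = q}, Q ⊓ centralizer ((B : Subgroup G) : Set G) := by
  haveI : Fact q.Prime := ⟨hq⟩
  apply Cfsg.Agent.Lib.CoprimeHyperplane.le_iSup_hyperplane A Q h.elem (h.A_ne_bot hq) _ hAQ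
  have h1 : ¬ q ∣ Nat.card Q := fun hd => h.cop (hd.trans (Subgroup.card_dvd_of_le hQ))
  exact ((Nat.Prime.coprime_iff_not_dvd hq).mpr h1).symm

/-- `P` normalises `P0`. -/
theorem Setup.P_le_normalizer (h : Setup q p H A P) (hq : q.Prime) : P ≤ normalizer (P0 H A P : Set G) := by
  have hgP := h.gen hq h.PH h.AP
  have hg0 := h.gen hq (P0_le.trans h.PH) h.le_normalizer_P0
  rw [le_normalizer_iff_commutator_le_right]
  have key : ∀ B : {B : Subgroup G // B ≤ A ∧ B.relIndex A = q}, P ⊓ centralizer ((B : Subgroup G) : Set G) ≤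
      normalizer (P0 H A P : Set G) := by
    intro B u hu
    have hconj : ∀ w : G, w ∈ P ⊓ centralizer ((B : Subgroup G) : Set G) → ∀ x ∈ P0 H A P, w * x * w⁻¹ ∈ P0 H A P := by
      intro w hw
      have h1 : (P0 H A P).map (MulAut.conj w).toMonoidHom ≤ P0 H A P := by
        conv_lhs => rw [hg0]
        rw [Subgroup.map_iSup]
        refine iSup_le fun B' => ?_
        rintro _ ⟨v, hv, rfl⟩
        obtain ⟨hv1, hv2⟩ := mem_inf.mp hv
        obtain ⟨hw1, hw2⟩ := mem_inf.mp hw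
        obtain ⟨a, ha, ha1, hD⟩ := comm_mem_Dc (H := H) hq h.cardA B.2 B'.2 (mem_inf.mpr ⟨h.PH hw1, hw2⟩)
          (mem_inf.mpr ⟨h.PH (P0_le hv1), hv2⟩)
        have h2 : ⁅w, v⁆ ∈ P0 H A P := by
          refine mem_P0 ha ha1 ?_ hD
          rw [commutatorElement_def]
          exact P.mul_mem (P.mul_mem (P.mul_mem hw1 (P0_le hv1)) (P.inv_mem hw1)) (P.inv_mem (P0_le hv1))
        show w * v * w⁻¹ ∈ _
        have h3 : w * v * w⁻¹ = ⁅w, v⁆ * v := by rw [commutatorElement_def]; group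
        rw [h3]
        exact mul_mem h2 hv1
      intro x hx
      exact h1 ⟨x, hx, rfl⟩
    rw [mem_normalizer_iff]
    intro x
    constructor
    · exact hconj u hu x
    · intro hx
      have h1 := hconj u⁻¹ (inv_mem hu) _ hx
      have h2 : u⁻¹ * (u * x * u⁻¹) * u⁻¹⁻¹ = x := by group
      rwa [h2] at h1
  rw [← le_normalizer_iff_commutator_le_right]
  exact hgP.le.trans (iSup_le key)

/-- `⁅P, P⁆ ≤ P0`. -/
theorem Setup.commutator_le (h : Setup q p H A P) (hq : q.Prime) : ⁅P, P⁆ ≤ P0 H A P := by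
  have hgP := h.gen hq h.PH h.AP
  have hn := h.P_le_normalizer hq
  have hconj : ∀ w ∈ P, ∀ x ∈ P0 H A P, w * x * w⁻¹ ∈ P0 H A P := fun w hw x hx =>
    (mem_normalizer_iff.mp (hn hw) x).mp hx
  -- for a fixed `v ∈ P ∩ C(B')`
  have key1 : ∀ B' : {B : Subgroup G // B ≤ A ∧ B.relIndex A = q}, ∀ v ∈ P ⊓ centralizer ((B' : Subgroup G) : Set G),
      ∀ u ∈ P, ⁅u, v⁆ ∈ P0 H A P := by
    intro B' v hv u hu
    rw [hgP] at hu
    have huP : ∀ (w : G), w ∈ (⨆ B : {B : Subgroup G // B ≤ A ∧ B.relIndex A = q},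
        P ⊓ centralizer ((B : Subgroup G) : Set G)) → w ∈ P := fun w hw => by rw [hgP]; exact hw
    induction hu using Subgroup.iSup_induction' with
    | hp B w hw =>
      obtain ⟨hv1, hv2⟩ := mem_inf.mp hv
      obtain ⟨hw1, hw2⟩ := mem_inf.mp hw
      obtain ⟨a, ha, ha1, hD⟩ := comm_mem_Dc (H := H) hq h.cardA B.2 B'.2 (mem_inf.mpr ⟨h.PH hw1, hw2⟩)
        (mem_inf.mpr ⟨h.PH hv1, hv2⟩)
      refine mem_P0 ha ha1 ?_ hD
      rw [commutatorElement_def]
      exact P.mul_mem (P.mul_mem (P.mul_mem hw1 hv1) (P.inv_mem hw1)) (P.inv_mem hv1)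
    | h1 => rw [commutatorElement_one_left]; exact one_mem _
    | hmul w w' hw hw' ih1 ih2 =>
      rw [commutatorElement_mul_left_eq_conj_mul]
      exact mul_mem (hconj w (huP w hw) _ ih2) ih1
  rw [Subgroup.commutator_le]
  intro u hu v hv
  rw [hgP] at hv
  have huP : ∀ (w : G), w ∈ (⨆ B : {B : Subgroup G // B ≤ A ∧ B.relIndex A = q},
      P ⊓ centralizer ((B : Subgroup G) : Set G)) → w ∈ P := fun w hw => by rw [hgP]; exact hw
  induction hv using Subgroup.iSup_induction' with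
  | hp B w hw => exact key1 B w hw u hu
  | h1 => rw [commutatorElement_one_right]; exact one_mem _
  | hmul w w' hw hw' ih1 ih2 =>
    rw [commutatorElement_mul_right_eq_mul_conj]
    have h3 : ⁅u, w⁆ * w * ⁅u, w'⁆ * w⁻¹ = ⁅u, w⁆ * (w * ⁅u, w'⁆ * w⁻¹) := by group
    rw [h3]
    exact mul_mem ih1 (hconj w (huP w hw) _ ih2)

end Finite

end Cfsg.Agent.H565.Focal
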