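import Mathlib
import Cfsg.Agent.H565.FocalA

/-!
# The subgroup `P0`: abelian normal subgroups and components

* `Setup.commutator_abelian_le`: `⁅H, N⁆ ≤ P0` for a normal abelian subgroup `N ≤ P`.
* `Setup.comp_le`: `P ∩ K ≤ P0` for a non-abelian simple subgroup `K` of `H` commuting with its conjugates under `A`.
-/

set_option autoImplicit false

namespace Cfsg.Agent.H565.Focal

open Subgroup
open scoped Pointwise commutatorElement

universe u

variable {G : Type u} [Group G] [Finite G] {H A P : Subgroup G} {q p : ℕ}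

theorem Setup.commutator_abelian_le (h : Setup q p H A P) (hq : q.Prime) (N : Subgroup G) (hN : N.Normal)
    (hNP : N ≤ P) (hab : ∀ x ∈ N, ∀ y ∈ N, Commute x y) : ⁅H, N⁆ ≤ P0 H A P := by
  haveI := h.Hn
  have hgH := h.gen hq le_rfl (by rw [normalizer_eq_top]; exact le_top)
  have hgN := h.gen hq (hNP.trans h.PH) (by rw [normalizer_eq_top]; exact le_top)
  have hmem : ∀ u v : G, v ∈ N → ⁅u, v⁆ ∈ N := by
    intro u v hv
    rw [commutatorElement_def]
    exact N.mul_mem (hN.conj_mem v hv u) (N.inv_mem hv)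
  -- fix `u` centralised by a hyperplane
  have key1 : ∀ B : {B : Subgroup G // B ≤ A ∧ B.relIndex A = q}, ∀ u ∈ H ⊓ centralizer ((B : Subgroup G) : Set G),
      ∀ v ∈ N, ⁅u, v⁆ ∈ P0 H A P := by
    intro B u hu v hv
    have hvN : ∀ (w : G), w ∈ (⨆ B : {B : Subgroup G // B ≤ A ∧ B.relIndex A = q},
        N ⊓ centralizer ((B : Subgroup G) : Set G)) → w ∈ N := fun w hw => by rw [hgN]; exact hw
    rw [hgN] at hv
    induction hv using Subgroup.iSup_induction' with
    | hp B' w hw =>
      obtain ⟨hw1, hw2⟩ := mem_inf.mp hw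
      obtain ⟨a, ha, ha1, hD⟩ := comm_mem_Dc (H := H) hq h.cardA B.2 B'.2 hu
        (mem_inf.mpr ⟨h.PH (hNP hw1), hw2⟩)
      exact mem_P0 ha ha1 (hNP (hmem u w hw1)) hD
    | h1 => rw [commutatorElement_one_right]; exact one_mem _
    | hmul w w' hw hw' ih1 ih2 =>
      rw [commutatorElement_mul_right_eq_mul_conj]
      have h1 : w * ⁅u, w'⁆ = ⁅u, w'⁆ * w := hab w (hvN w hw) _ (hmem u w' (hvN w' hw'))
      have h3 : ⁅u, w⁆ * w * ⁅u, w'⁆ * w⁻¹ = ⁅u, w⁆ * ⁅u, w'⁆ := by
        rw [mul_assoc ⁅u, w⁆, h1]; group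
      rw [h3]
      exact mul_mem ih1 ih2
  rw [Subgroup.commutator_le]
  intro u hu v hv
  rw [hgH] at hu
  induction hu using Subgroup.iSup_induction' generalizing v with
  | hp B w hw => exact key1 B w hw v hv
  | h1 => rw [commutatorElement_one_left]; exact one_mem _
  | hmul w w' hw hw' ih1 ih2 =>
    rw [commutatorElement_mul_left_eq_conj_mul]
    have h3 : w * ⁅w', v⁆ * w⁻¹ * ⁅w, v⁆ = ⁅w, ⁅w', v⁆⁆ * ⁅w', v⁆ * ⁅w, v⁆ := by
      simp only [commutatorElement_def]; group
    rw [h3]
    exact mul_mem (mul_mem (ih1 _ (hmem w' v hv)) (ih2 v hv)) (ih1 v hv)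

/-- Components of `H`. -/
theorem Setup.comp_le (hcyc : CycHyp.{u}) (h : Setup q p H A P) (hq : q.Prime) (K : Subgroup G)
    (hKH : K ≤ H) (hKs : IsSimpleGroup K) (hKna : ¬ ∀ x y : K, x * y = y * x)
    (hcomm : ∀ a ∈ A, a ∉ normalizer (K : Set G) → ∀ x ∈ K, ∀ y ∈ K, Commute x (a * y * a⁻¹)) :
    P ⊓ K ≤ P0 H A P := by
  classical
  haveI : Fact q.Prime := ⟨hq⟩
  -- `K` is perfect
  have hKperf : commutator K = ⊤ := by
    rcases (inferInstance : (commutator K).Normal).eq_bot_or_eq_top with h1 | h1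
    · exfalso
      apply hKna
      intro x y
      have h2 : ⁅x, y⁆ ∈ commutator K := commutator_mem_commutator (mem_top x) (mem_top y)
      rw [h1, mem_bot, commutatorElement_eq_one_iff_mul_comm] at h2
      exact h2
    · exact h1
  have hKK : ⁅K, K⁆ = K := by
    rw [← map_subtype_commutator, hKperf, ← MonoidHom.range_eq_map, range_subtype]
  intro k hk
  obtain ⟨hkP, hkK⟩ := mem_inf.mp hk
  by_cases hC : ∃ a ∈ A, a ≠ 1 ∧ a ∈ centralizer (K : Set G)
  · obtain ⟨a, ha, ha1, haC⟩ := hC
    refine mem_P0 ha ha1 hkP ?_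
    have hle : K ≤ H ⊓ centralizer ({a} : Set G) := by
      intro x hx
      refine mem_inf.mpr ⟨hKH hx, ?_⟩
      rw [mem_centralizer_singleton_iff]
      exact (mem_centralizer_iff.mp haC) x hx
    have h1 := commutator_mono hle hle
    rw [hKK] at h1
    exact h1 hkK
  · push Not at hC
    -- the normaliser of `K` in `A` has order at most `q`
    set B : Subgroup G := A ⊓ normalizer (K : Set G) with hB
    have hBK : B ≤ normalizer (K : Set G) := inf_le_right
    let φ : B →* MulAut K := Cfsg.Agent.Lib.CoprimeHyperplane.conjHom hBK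
    have hφ : Function.Injective φ := by
      rw [injective_iff_map_eq_one]
      intro b hb
      have hbA : (b : G) ∈ A := (mem_inf.mp b.2).1
      by_contra hb1
      have hb1' : (b : G) ≠ 1 := fun h2 => hb1 (Subtype.ext h2)
      apply hC b hbA hb1'
      rw [mem_centralizer_iff]
      intro x hx
      have h2 := Cfsg.Agent.Lib.CoprimeHyperplane.conjHom_apply hBK b ⟨x, hx⟩
      have h3 : (φ b ⟨x, hx⟩ : K) = ⟨x, hx⟩ := by rw [hb]; rfl
      have h4 : (b : G) * x * (b : G)⁻¹ = x := by
        rw [← h2]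
        exact congrArg Subtype.val h3
      calc x * (b : G) = (b : G) * x * (b : G)⁻¹ * b := by rw [h4]
        _ = b * x := by group
    have hBq : IsPGroup q B := by
      have hAq : IsPGroup q A := IsPGroup.of_card h.cardA
      exact hAq.to_le inf_le_left
    have hqK : ¬ q ∣ Nat.card K := fun hd => h.cop (hd.trans (Subgroup.card_dvd_of_le hKH))
    have hBcyc : IsCyclic B := by
      have h1 : IsPGroup q φ.range := hBq.of_surjective φ.rangeRestrict φ.rangeRestrict_surjective
      obtain ⟨R, hR⟩ := h1.exists_le_sylow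
      have h2 : IsCyclic R := hcyc K hKna q hqK R
      haveI : IsCyclic φ.range :=
        isCyclic_of_injective (Subgroup.inclusion hR) (Subgroup.inclusion_injective hR)
      exact isCyclic_of_injective φ.rangeRestrict (MonoidHom.rangeRestrict_injective_iff.mpr hφ)
    have hBcard : Nat.card B ≤ q := by
      obtain ⟨g, hg⟩ := hBcyc.exists_generator
      have h1 : orderOf g = Nat.card B := orderOf_eq_card_of_forall_mem_zpowers hg
      rw [← h1]
      refine Nat.le_of_dvd hq.pos (orderOf_dvd_of_pow_eq_one ?_)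
      exact Subtype.ext (by
        have := h.exp g.1 (mem_inf.mp g.2).1
        simpa using this)
    -- elements `a`, `b` of `A`
    have hexa : ∃ a ∈ A, a ∉ B := by
      by_contra hcon
      push Not at hcon
      have h1 := Subgroup.card_le_of_le (show A ≤ B from hcon)
      rw [h.cardA] at h1
      have h2 : q ^ 1 < q ^ 3 := Nat.pow_lt_pow_right hq.one_lt (by norm_num)
      rw [pow_one] at h2
      omega
    obtain ⟨a, haA, haB⟩ := hexa
    have haq : a ^ q = 1 := h.exp a haA
    have hexb : ∃ b ∈ A, b ∉ B ⊔ zpowers a := by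
      by_contra hcon
      push Not at hcon
      have h1 := Subgroup.card_le_of_le (show A ≤ B ⊔ zpowers a from hcon)
      have hcc : zpowers a ≤ normalizer (B : Set G) := by
        rw [zpowers_le, mem_normalizer_iff]
        intro x
        have hx : ∀ y ∈ A, a * y * a⁻¹ = y := fun y hy => by rw [h.ab a haA y hy]; group
        constructor
        · intro hxB
          rw [hx x (mem_inf.mp hxB).1]; exact hxB
        · intro hxB
          have h2 : a * x * a⁻¹ ∈ A := (mem_inf.mp hxB).1
          have h3 : x ∈ A := by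
            have := A.mul_mem (A.mul_mem (A.inv_mem haA) h2) haA
            have h4 : a⁻¹ * (a * x * a⁻¹) * a = x := by group
            rwa [h4] at this
          rwa [hx x h3] at hxB
      have h2 := Nat.le_of_dvd (Nat.mul_pos Nat.card_pos Nat.card_pos)
        (Cfsg.Agent.SignalizersComponents.CoprimeBasic.card_sup_dvd hcc)
      have h3 : Nat.card (zpowers a) ≤ q := by
        rw [Nat.card_zpowers]
        exact Nat.le_of_dvd hq.pos (orderOf_dvd_of_pow_eq_one haq)
      have h4 : Nat.card B * Nat.card (zpowers a) ≤ q * q := Nat.mul_le_mul hBcard h3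
      rw [h.cardA] at h1
      have h5 : q ^ 2 < q ^ 3 := Nat.pow_lt_pow_right hq.one_lt (by norm_num)
      have h6 : q ^ 2 = q * q := pow_two q
      omega
    obtain ⟨b, hbA, hbB⟩ := hexb
    have hbq : b ^ q = 1 := h.exp b hbA
    have hab : a * b = b * a := h.ab a haA b hbA
    -- powers
    have hval : ∀ (c : G), c ^ q = 1 → ∀ (S : Subgroup G) (i : ZMod q), i ≠ 0 → c ^ i.val ∈ S → c ∈ S := by
      intro c hc S i hi hcS
      have hcop : (i.val).Coprime (orderOf c) := by
        have h1 : orderOf c ∣ q := orderOf_dvd_of_pow_eq_one hc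
        refine Nat.Coprime.coprime_dvd_right h1 ?_
        rw [Nat.coprime_comm, Nat.Prime.coprime_iff_not_dvd hq]
        intro hd
        have h2 := Nat.eq_zero_of_dvd_of_lt hd (ZMod.val_lt i)
        exact hi ((ZMod.val_eq_zero i).mp h2)
      obtain ⟨m, hm⟩ := exists_pow_eq_self_of_coprime hcop
      rw [← hm]
      exact S.pow_mem hcS m
    have hclaim : ∀ i j : ZMod q, a ^ i.val * b ^ j.val ∈ B → i = 0 ∧ j = 0 := by
      intro i j hij
      have hj : j = 0 := by
        by_contra hj
        apply hbB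
        apply hval b hbq _ j hj
        have h1 : b ^ j.val = (a ^ i.val)⁻¹ * (a ^ i.val * b ^ j.val) := by group
        rw [h1]
        exact mul_mem (inv_mem (pow_mem (mem_sup_right (mem_zpowers a)) _)) (mem_sup_left hij)
      refine ⟨?_, hj⟩
      by_contra hi
      apply haB
      apply hval a haq _ i hi
      rw [hj, ZMod.val_zero, pow_zero, mul_one] at hij
      exact hij
    have hcommK : ∀ i j i' j' : ZMod q, (i, j) ≠ (i', j') → ∀ x ∈ K, ∀ y ∈ K,
        Commute (a ^ i.val * b ^ j.val * x * (a ^ i.val * b ^ j.val)⁻¹)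
          (a ^ i'.val * b ^ j'.val * y * (a ^ i'.val * b ^ j'.val)⁻¹) := by
      intro i j i' j' hne x hx y hy
      have hsA : a ^ (i' - i).val * b ^ (j' - j).val ∈ A :=
        A.mul_mem (A.pow_mem haA _) (A.pow_mem hbA _)
      have hsN : a ^ (i' - i).val * b ^ (j' - j).val ∉ normalizer (K : Set G) := by
        intro hsN
        obtain ⟨h1, h2⟩ := hclaim _ _ (mem_inf.mpr ⟨hsA, hsN⟩)
        apply hne
        rw [sub_eq_zero] at h1 h2
        rw [h1, h2]
      have h1 := hcomm _ hsA hsN x hx y hy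
      have hcomm2 : ∀ m n : ℕ, a ^ m * b ^ n = b ^ n * a ^ m := fun m n =>
        (Commute.pow_pow (show Commute a b from hab) m n)
      have h2 : a ^ i'.val * b ^ j'.val = (a ^ i.val * b ^ j.val) * (a ^ (i' - i).val * b ^ (j' - j).val) := by
        have e1 : a ^ i'.val = a ^ i.val * a ^ (i' - i).val := by
          rw [← Cfsg.Agent.Lib.CoprimeHyperplane.pow_val_add haq]; congr 2; ring
        have e2 : b ^ j'.val = b ^ j.val * b ^ (j' - j).val := by
          rw [← Cfsg.Agent.Lib.CoprimeHyperplane.pow_val_add hbq]; congr 2; ring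
        rw [e1, e2]
        calc a ^ i.val * a ^ (i' - i).val * (b ^ j.val * b ^ (j' - j).val)
            = a ^ i.val * (a ^ (i' - i).val * b ^ j.val) * b ^ (j' - j).val := by group
          _ = a ^ i.val * (b ^ j.val * a ^ (i' - i).val) * b ^ (j' - j).val := by rw [hcomm2]
          _ = _ := by group
      rw [h2]
      generalize a ^ i.val * b ^ j.val = t at *
      generalize a ^ (i' - i).val * b ^ (j' - j).val = s at *
      have h3 : t * s * y * (t * s)⁻¹ = t * (s * y * s⁻¹) * t⁻¹ := by group
      rw [h3]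
      show t * x * t⁻¹ * (t * (s * y * s⁻¹) * t⁻¹) = t * (s * y * s⁻¹) * t⁻¹ * (t * x * t⁻¹)
      have h4 : x * (s * y * s⁻¹) = (s * y * s⁻¹) * x := h1
      calc t * x * t⁻¹ * (t * (s * y * s⁻¹) * t⁻¹) = t * (x * (s * y * s⁻¹)) * t⁻¹ := by group
        _ = t * ((s * y * s⁻¹) * x) * t⁻¹ := by rw [h4]
        _ = _ := by group
    have hkq : (k : G) ^ q ∈ P0 H A P := by
      have h1 := NormK.pow_mem (q := q) hab haq hbq hcommK ⟨k, hkK⟩ (P0 H A P) ?_ (fun x hx => h.conj_mem_P0 haA hx)
      · exact h1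
      · intro c hc hcc
        have hcA : c ∈ A ∧ c ≠ 1 := by
          rcases hcc with rfl | ⟨j, rfl⟩
          · refine ⟨hbA, ?_⟩
            rintro rfl
            exact hbB (one_mem _)
          · refine ⟨A.mul_mem haA (A.pow_mem hbA _), ?_⟩
            intro h2
            have h3 := hclaim 1 j (by
              rw [Cfsg.Agent.Lib.CoprimeHyperplane.pow_val_one, h2]; exact one_mem _)
            exact one_ne_zero h3.1
        have hcq : c ^ q = 1 := h.exp c hcA.1
        exact mem_P0 hcA.1 hcA.2 (NormK.nrm_mem hc (fun x hx => h.conj_mem_P hcA.1 hx) hkP)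
          (NormK.nrm_mem_commutator hc hcq hKH (fun x hx => h.Hn.conj_mem x hx c) hKperf _)
    obtain ⟨m, hm⟩ := exists_pow_eq_self_of_coprime (h.coprime_orderOf hq hkP)
    rw [← hm]
    exact pow_mem hkq m

end Cfsg.Agent.H565.Focal
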