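import Mathlib
import Cfsg.Agent.H565.FocalB
import Cfsg.Agent.H565.CopSylow
import Cfsg.Agent.Lib.MinNormalNonabelian
import Cfsg.Agent.QTUniq.SylowSup
import Cfsg.Agent.WreathFusion.Transfer

/-!
# Focal generation under a coprime action of an elementary abelian group of order `q³`

`main`: `P ⊓ ⁅H, H⁆ ≤ P0 H A P` in a `Setup`, given that coprime `r`-subgroups of automorphism groups of simple groups
are cyclic.
-/

set_option autoImplicit false

namespace Cfsg.Agent.H565.Focal

open Subgroup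
open scoped Pointwise commutatorElement

universe u

variable {G : Type u} [Group G] [Finite G] {H A P : Subgroup G} {q p : ℕ}

omit [Finite G] in
theorem relIndex_map_dvd {G' : Type*} [Group G'] (f : G →* G') (X D : Subgroup G) :
    (X.map f).relIndex (D.map f) ∣ X.relIndex D := by
  have h1 := index_map_dvd (X.subgroupOf D) (f := f.subgroupMap D) (f.subgroupMap_surjective D)
  refine dvd_trans (index_dvd_of_le ?_) h1
  rintro _ ⟨x, hx, rfl⟩
  rw [mem_subgroupOf]
  exact ⟨x, mem_subgroupOf.mp hx, rfl⟩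

/-- The intersection of `P` with a subgroup `D` normal in `C_H(a)` is a Sylow subgroup of `D`. -/
theorem Setup.not_dvd_fix (h : Setup q p H A P) (hq : q.Prime) (hp : p.Prime) {a : G} (ha : a ∈ A) :
    ¬ p ∣ (P ⊓ (H ⊓ centralizer ({a} : Set G))).relIndex (H ⊓ centralizer ({a} : Set G)) := by
  haveI : Fact p.Prime := ⟨hp⟩
  -- `P` as a Sylow subgroup of `H`
  have hPs : IsPGroup p (P.subgroupOf H) := h.Pp.comap_of_injective H.subtype H.subtype_injective
  let S : Sylow p H := hPs.toSylow h.Psyl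
  have hS : (S : Subgroup H).map H.subtype = P := by
    have h1 : (S : Subgroup H) = P.subgroupOf H := rfl
    rw [h1, subgroupOf_map_subtype, inf_eq_left]
    exact h.PH
  have hza : zpowers a ≤ A := zpowers_le.mpr ha
  haveI := h.Hn
  have hcop : (Nat.card (zpowers a)).Coprime (Nat.card H) := by
    have h1 : Nat.card (zpowers a) ∣ q := by
      rw [Nat.card_zpowers]; exact orderOf_dvd_of_pow_eq_one (h.exp a ha)
    exact Nat.Coprime.coprime_dvd_left h1 ((Nat.Prime.coprime_iff_not_dvd hq).mpr h.cop)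
  have hsol : Group.IsSolvable (zpowers a) := by
    infer_instance
  have h1 := CopSylow.card_sylow_inf_centralizer (zpowers a) H (by rw [normalizer_eq_top]; exact le_top) hcop
    (Or.inl hsol) p S (by rw [hS]; exact hza.trans h.AP)
  have hcz : centralizer ((zpowers a : Subgroup G) : Set G) = centralizer ({a} : Set G) := by
    rw [zpowers_eq_closure, centralizer_closure]
  rw [hS, hcz] at h1
  set C : Subgroup G := H ⊓ centralizer ({a} : Set G) with hC
  have h2 : P ⊓ C = P ⊓ centralizer ({a} : Set G) := by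
    rw [hC, ← inf_assoc, inf_eq_left.mpr h.PH]
  rw [h2]
  have hle : P ⊓ centralizer ({a} : Set G) ≤ C := inf_le_inf_right _ h.PH
  have h3 := relIndex_mul_relIndex ⊥ _ _ bot_le hle
  rw [relIndex_bot_left, relIndex_bot_left, h1] at h3
  intro hd
  obtain ⟨m, hm⟩ := hd
  rw [hm] at h3
  have h4 : p ^ ((Nat.card C).factorization p + 1) ∣ Nat.card C :=
    ⟨m, by rw [pow_succ, mul_assoc]; exact h3.symm⟩
  have h5 := (hp.pow_dvd_iff_le_factorization (Nat.card_pos (α := C)).ne').mp h4
  omega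

/-- Passage to the quotient by a normal subgroup `N ≤ H`. -/
theorem Setup.quot (h : Setup q p H A P) (hq : q.Prime) (N : Subgroup G) [N.Normal] (hNH : N ≤ H) :
    Setup q p (H.map (QuotientGroup.mk' N)) (A.map (QuotientGroup.mk' N)) (P.map (QuotientGroup.mk' N)) where
  Hn := h.Hn.map _ (QuotientGroup.mk'_surjective N)
  cardA := by
    have hinj : Function.Injective ((QuotientGroup.mk' N).comp A.subtype) := by
      rw [injective_iff_map_eq_one]
      intro a ha
      have h1 : (a : G) ∈ N := (QuotientGroup.eq_one_iff (a : G)).mp ha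
      have h2 : orderOf (a : G) ∣ q := orderOf_dvd_of_pow_eq_one (h.exp a a.2)
      have h3 : orderOf (a : G) ∣ Nat.card H := Subgroup.orderOf_dvd_natCard _ (hNH h1)
      have h4 : orderOf (a : G) = 1 := by
        rcases (Nat.dvd_prime hq).mp h2 with h5 | h5
        · exact h5
        · exact absurd (h5 ▸ h3) h.cop
      exact Subtype.ext (orderOf_eq_one_iff.mp h4)
    have h1 : A.map (QuotientGroup.mk' N) = ((QuotientGroup.mk' N).comp A.subtype).range := by
      rw [MonoidHom.range_comp, range_subtype]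
    rw [h1, ← h.cardA]
    exact Nat.card_congr (MonoidHom.ofInjective hinj).toEquiv.symm
  ab := by
    rintro _ ⟨a, ha, rfl⟩ _ ⟨b, hb, rfl⟩
    rw [← map_mul, h.ab a ha b hb, map_mul]
  exp := by
    rintro _ ⟨a, ha, rfl⟩
    rw [← map_pow, h.exp a ha, map_one]
  cop := fun hd => h.cop (hd.trans (card_map_dvd _ _))
  PH := map_mono h.PH
  Pp := h.Pp.map _
  Psyl := by
    intro hd
    apply h.Psyl
    refine hd.trans ?_
    rw [relIndex_map_map, QuotientGroup.ker_mk', sup_eq_left.mpr hNH]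
    exact relIndex_dvd_of_le_left _ le_sup_left
  AP := (map_mono h.AP).trans (le_normalizer_map _)

/-- Fixed points in the quotient. -/
theorem Setup.fix_quot (h : Setup q p H A P) (hq : q.Prime) (N : Subgroup G) [hN : N.Normal] (hNH : N ≤ H)
    {a : G} (ha : a ∈ A) :
    H.map (QuotientGroup.mk' N) ⊓ centralizer ({QuotientGroup.mk' N a} : Set (G ⧸ N)) ≤
      (H ⊓ centralizer ({a} : Set G)).map (QuotientGroup.mk' N) := by
  haveI : Fact q.Prime := ⟨hq⟩
  intro x hx
  obtain ⟨⟨y, hyH, rfl⟩, hx2⟩ := mem_inf.mp hx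
  rw [mem_centralizer_singleton_iff] at hx2
  have h1 : y⁻¹ * (a * y * a⁻¹) ∈ N := by
    have h2 : (QuotientGroup.mk' N) (y⁻¹ * (a * y * a⁻¹)) = 1 := by
      rw [map_mul, map_mul, map_mul, map_inv, map_inv, ← hx2]
      group
    exact (QuotientGroup.eq_one_iff _).mp h2
  obtain ⟨d, hd, hda⟩ := Cfsg.Agent.SignalizersComponents.CoprimeBasic.exists_fixed_in_coset_of_pow (p := q) a 1
    (by rw [pow_one]; exact h.exp a ha) N (fun hdvd => h.cop (hdvd.trans (Subgroup.card_dvd_of_le hNH)))
    (fun d hd => hN.conj_mem d hd a) y h1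
  refine ⟨y * d, mem_inf.mpr ⟨H.mul_mem hyH (hNH hd), ?_⟩, ?_⟩
  · rw [mem_centralizer_singleton_iff]; exact hda.symm
  · rw [map_mul, (QuotientGroup.eq_one_iff d).mpr hd |> fun h => (show (QuotientGroup.mk' N) d = 1 from h), mul_one]

/-- `P0` of the quotient is the image of `P0`. -/
theorem Setup.P0_quot_le (h : Setup q p H A P) (hq : q.Prime) (hp : p.Prime) (N : Subgroup G) [hN : N.Normal]
    (hNH : N ≤ H) :
    P0 (H.map (QuotientGroup.mk' N)) (A.map (QuotientGroup.mk' N)) (P.map (QuotientGroup.mk' N)) ≤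
      (P0 H A P).map (QuotientGroup.mk' N) := by
  haveI : Fact p.Prime := ⟨hp⟩
  refine iSup_le ?_
  rintro ⟨_, ⟨a, ha, rfl⟩, ha1⟩
  have ha1' : a ≠ 1 := fun h2 => ha1 (by rw [h2, map_one])
  set π := QuotientGroup.mk' N with hπ
  set C : Subgroup G := H ⊓ centralizer ({a} : Set G) with hC
  have h1 : Dc (H.map π) (π a) ≤ (Dc H a).map π := by
    unfold Dc
    rw [map_commutator]
    exact commutator_mono (h.fix_quot hq N hNH ha) (h.fix_quot hq N hNH ha)
  have h2 : ¬ p ∣ (P ⊓ Dc H a).relIndex (Dc H a) := by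
    have h3 := h.not_dvd_fix hq hp ha
    have h4 : Dc H a ≤ C := commutator_le_self C
    have h5 : C ≤ normalizer (Dc H a : Set G) := normalizer_commutator_ge_left C C
    have h6 := Cfsg.Agent.WreathFusion.Transfer.not_dvd_inf h4 h5 h3
    have h7 : P ⊓ C ⊓ Dc H a = P ⊓ Dc H a := by
      rw [inf_assoc, inf_eq_right.mpr h4]
    rwa [h7] at h6
  -- the intersection in the quotient
  have h3 : P.map π ⊓ (Dc H a).map π ≤ (P ⊓ Dc H a).map π := by
    set E : Subgroup (G ⧸ N) := P.map π ⊓ (Dc H a).map π with hE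
    have hEp : IsPGroup p E := (h.Pp.map π).to_le inf_le_left
    have hQE : (P ⊓ Dc H a).map π ≤ E := le_inf (map_mono inf_le_left) (map_mono inf_le_right)
    have h4 : ¬ p ∣ ((P ⊓ Dc H a).map π).relIndex ((Dc H a).map π) := by
      intro hd
      exact h2 (hd.trans (relIndex_map_dvd π _ _))
    have h5 : ¬ p ∣ ((P ⊓ Dc H a).map π).relIndex E := by
      intro hd
      apply h4
      refine hd.trans (Dvd.intro _ (relIndex_mul_relIndex _ _ _ hQE inf_le_right))
    obtain ⟨n, hn⟩ := hEp.exists_card_eq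
    have h6 : ((P ⊓ Dc H a).map π).relIndex E ∣ p ^ n := by rw [← hn]; exact relIndex_dvd_card _ _
    obtain ⟨m, -, hm⟩ := (Nat.dvd_prime_pow hp).mp h6
    have hm0 : m = 0 := by
      by_contra hm0
      exact h5 (by rw [hm]; exact dvd_pow_self p hm0)
    rw [hm0, pow_zero, relIndex_eq_one] at hm
    exact hm
  calc P.map π ⊓ Dc (H.map π) (π a) ≤ P.map π ⊓ (Dc H a).map π := inf_le_inf_left _ h1
    _ ≤ (P ⊓ Dc H a).map π := h3
    _ ≤ (P0 H A P).map π := map_mono (le_iSup (fun a : {a : G // a ∈ A ∧ a ≠ 1} => P ⊓ Dc H a.1) ⟨a, ha, ha1'⟩)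

theorem le_of_relIndex_prime_pow {p : ℕ} (hp : p.Prime) {E Q : Subgroup G} (hE : IsPGroup p E)
    (h : ¬ p ∣ Q.relIndex E) : E ≤ Q := by
  haveI : Fact p.Prime := ⟨hp⟩
  obtain ⟨n, hn⟩ := hE.exists_card_eq
  have h6 : Q.relIndex E ∣ p ^ n := by rw [← hn]; exact relIndex_dvd_card _ _
  obtain ⟨m, -, hm⟩ := (Nat.dvd_prime_pow hp).mp h6
  have hm0 : m = 0 := by
    by_contra hm0
    exact h (by rw [hm]; exact dvd_pow_self p hm0)
  rw [hm0, pow_zero, relIndex_eq_one] at hm
  exact hm

omit [Finite G] in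
/-- Minimal normal subgroups below a normal subgroup. -/
theorem exists_min [Finite G] (H : Subgroup G) (hH : H.Normal) (hne : H ≠ ⊥) :
    ∃ N : Subgroup G, N.Normal ∧ N ≠ ⊥ ∧ N ≤ H ∧ ∀ M : Subgroup G, M.Normal → M ≤ N → M = ⊥ ∨ M = N := by
  obtain ⟨N, ⟨hN1, hN2, hN3⟩, hmin⟩ := (Set.toFinite {N : Subgroup G | N.Normal ∧ N ≠ ⊥ ∧ N ≤ H}).exists_minimal
    ⟨H, hH, hne, le_rfl⟩
  refine ⟨N, hN1, hN2, hN3, fun M hM hMN => ?_⟩
  by_cases hMb : M = ⊥
  · exact Or.inl hMb
  · exact Or.inr (le_antisymm hMN (hmin ⟨hM, hMb, hMN.trans hN3⟩ hMN))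

theorem main_aux (hcyc : CycHyp.{u}) {q p : ℕ} (hq : q.Prime) (hp : p.Prime) (n : ℕ) :
    ∀ (G : Type u) [Group G] [Finite G] (H A P : Subgroup G), Nat.card G = n → Setup q p H A P →
      P ⊓ ⁅H, H⁆ ≤ P0 H A P := by
  induction n using Nat.strong_induction_on with
  | _ n ih =>
  intro G _ _ H A P hn h
  haveI : Fact p.Prime := ⟨hp⟩
  haveI : Fact q.Prime := ⟨hq⟩
  by_cases hHb : H = ⊥
  · intro x hx
    have h1 := h.PH (mem_inf.mp hx).1
    rw [hHb, mem_bot] at h1
    rw [h1]; exact one_mem _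
  obtain ⟨N, hN, hNb, hNH, hmin⟩ := exists_min H h.Hn hHb
  haveI := hN
  -- the part of `P ∩ H'` in `N`
  have hcore : P ⊓ N ⊓ ⁅H, H⁆ ≤ P0 H A P := by
    have hSylN : ¬ p ∣ (P ⊓ N).relIndex N :=
      Cfsg.Agent.WreathFusion.Transfer.not_dvd_inf hNH (by rw [normalizer_eq_top]; exact le_top) h.Psyl
    by_cases hab : ∀ x ∈ N, ∀ y ∈ N, Commute x y
    · obtain ⟨r, hr, hrN, -⟩ := Cfsg.Agent.Lib.MinNormalNonabelian.abelian_structure N hNb hmin hab
      by_cases hrp : r = p
      · subst hrp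
        have hNP : N ≤ P := (le_of_relIndex_prime_pow hr hrN hSylN).trans inf_le_left
        haveI := h.Hn
        have hcn : (⁅H, N⁆).Normal := inferInstance
        have hcle : ⁅H, N⁆ ≤ N := commutator_le_right H N
        rcases hmin _ hcn hcle with h1 | h1
        · -- `N` is central in `H`
          intro x hx
          obtain ⟨hx1, hx2⟩ := mem_inf.mp hx
          obtain ⟨hxP, hxN⟩ := mem_inf.mp hx1
          have hcent : ∀ y ∈ H, x * y = y * x := by
            intro y hy
            have h2 := commutator_mem_commutator hy hxN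
            rw [h1, mem_bot, commutatorElement_eq_one_iff_mul_comm] at h2
            exact h2.symm
          have h3 := Cfsg.Agent.WreathFusion.Transfer.pow_relIndex_mem h.PH hcent hx2
          have h4 := h.commutator_le hq h3
          have hcop : (P.relIndex H).Coprime (orderOf x) := by
            obtain ⟨k, hk⟩ := (IsPGroup.iff_orderOf.mp h.Pp) ⟨x, hxP⟩
            have h5 : orderOf x = r ^ k := by
              rw [← hk]; exact (orderOf_mk x hxP).symm
            rw [h5]
            exact Nat.Coprime.pow_right _ (((Nat.Prime.coprime_iff_not_dvd hr).mpr h.Psyl).symm)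
          obtain ⟨m, hm⟩ := exists_pow_eq_self_of_coprime hcop
          rw [← hm]
          exact pow_mem h4 m
        · have h2 := h.commutator_abelian_le hq N hN hNP hab
          rw [h1] at h2
          exact (inf_le_left.trans inf_le_right).trans h2
      · -- `N` is a `p'`-group
        intro x hx
        obtain ⟨hx1, -⟩ := mem_inf.mp hx
        obtain ⟨hxP, hxN⟩ := mem_inf.mp hx1
        have hx1 : x = 1 := by
          obtain ⟨k, hk⟩ := (IsPGroup.iff_orderOf.mp h.Pp) ⟨x, hxP⟩
          haveI : Fact r.Prime := ⟨hr⟩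
          obtain ⟨l, hl⟩ := (IsPGroup.iff_orderOf.mp hrN) ⟨x, hxN⟩
          rw [orderOf_mk] at hk hl
          rw [← orderOf_eq_one_iff]
          by_contra hne
          obtain ⟨s, hs, hsx⟩ := Nat.exists_prime_and_dvd hne
          have e1 : s = p := (Nat.prime_dvd_prime_iff_eq hs hp).mp (hs.dvd_of_dvd_pow (hk ▸ hsx))
          have e2 : s = r := (Nat.prime_dvd_prime_iff_eq hs hr).mp (hs.dvd_of_dvd_pow (hl ▸ hsx))
          exact hrp (e2.symm.trans e1)
        rw [hx1]; exact one_mem _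
    · obtain ⟨-, hind, hsup, hsimple, hcen, -⟩ :=
        Cfsg.Agent.Lib.MinNormalNonabelian.nonabelian_structure N hmin hab
      have hle : ∀ K ∈ Cfsg.Agent.Lib.MinNormalNonabelian.minSet N, K ≤ N := fun K hK =>
        (Cfsg.Agent.Lib.MinNormalNonabelian.mem_minSet.mp hK).1
      have hno : ∀ K ∈ Cfsg.Agent.Lib.MinNormalNonabelian.minSet N, N ≤ normalizer (K : Set G) := fun K hK =>
        (Cfsg.Agent.Lib.MinNormalNonabelian.mem_minSet.mp hK).2.2.1
      have hPN : IsPGroup p ↥(P ⊓ N) := h.Pp.to_le inf_le_left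
      have h1 := Cfsg.Agent.QTUniq.SylowSup.inf_sSup_le_rel (T := P ⊓ N) (J := N) hPN hSylN
        (Cfsg.Agent.Lib.MinNormalNonabelian.minSet N) hle hno hsup (P0 H A P) (by
          intro K hK
          have hKs := hsimple K hK
          refine le_trans (inf_le_inf_right _ inf_le_left) (h.comp_le hcyc hq K ((hle K hK).trans hNH) hKs ?_ ?_)
          · intro hc
            haveI := hKs
            obtain ⟨z, hz⟩ := exists_ne (1 : K)
            exact hz (Subtype.ext (hcen K hK z z.2 (fun t ht => congrArg Subtype.val (hc z ⟨t, ht⟩))))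
          · intro a ha haK x hx y hy
            have hKa := Cfsg.Agent.Lib.MinNormalNonabelian.map_conj_mem_minSet hK a
            refine Cfsg.Agent.Lib.MinNormal.commute_of_mem hind hno hle hK hKa ?_ hx ⟨y, hy, rfl⟩
            intro heq
            apply haK
            rw [mem_normalizer_iff]
            intro z
            constructor
            · intro hz
              rw [heq]; exact ⟨z, hz, rfl⟩
            · intro hz
              rw [heq] at hz
              obtain ⟨w, hw, hwz⟩ := hz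
              have h3 : a * w * a⁻¹ = a * z * a⁻¹ := hwz
              have h4 : w = z := mul_left_cancel (mul_right_cancel h3)
              rwa [← h4])
      intro x hx
      obtain ⟨hx1, -⟩ := mem_inf.mp hx
      exact h1 (mem_inf.mpr ⟨hx1, (mem_inf.mp hx1).2⟩)
  -- the quotient
  have hlt : Nat.card (G ⧸ N) < n := by
    rw [← hn, card_eq_card_quotient_mul_card_subgroup N]
    have h1 : 1 < Nat.card N := (one_lt_card_iff_ne_bot N).mpr hNb
    have h2 : 0 < Nat.card (G ⧸ N) := Nat.card_pos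
    calc Nat.card (G ⧸ N) = Nat.card (G ⧸ N) * 1 := (mul_one _).symm
      _ < Nat.card (G ⧸ N) * Nat.card N := Nat.mul_lt_mul_of_pos_left h1 h2
  have hIH := ih _ hlt (G ⧸ N) _ _ _ rfl (h.quot hq N hNH)
  intro x hx
  obtain ⟨hxP, hxH⟩ := mem_inf.mp hx
  have h1 : QuotientGroup.mk' N x ∈ (P0 H A P).map (QuotientGroup.mk' N) := by
    apply h.P0_quot_le hq hp N hNH
    apply hIH
    refine mem_inf.mpr ⟨⟨x, hxP, rfl⟩, ?_⟩
    rw [← map_commutator]
    exact ⟨x, hxH, rfl⟩
  obtain ⟨y, hy, hyx⟩ := h1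
  have h2 : y⁻¹ * x ∈ N := by
    have h3 : (QuotientGroup.mk' N) (y⁻¹ * x) = 1 := by
      rw [map_mul, map_inv, hyx]; group
    exact (QuotientGroup.eq_one_iff _).mp h3
  have h3 : y⁻¹ * x ∈ P0 H A P :=
    hcore (mem_inf.mpr ⟨mem_inf.mpr ⟨P.mul_mem (P.inv_mem (P0_le hy)) hxP, h2⟩,
      mul_mem (inv_mem (P0_le_commutator hy)) hxH⟩)
  have h4 : x = y * (y⁻¹ * x) := by group
  rw [h4]
  exact mul_mem hy h3

/-- **Focal generation**: `P ∩ H' = ⟨P ∩ C_H(a)' | 1 ≠ a ∈ A⟩`. -/
theorem main (hcyc : CycHyp.{u}) (hq : q.Prime) (hp : p.Prime) (h : Setup q p H A P) :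
    P ⊓ ⁅H, H⁆ = P0 H A P :=
  le_antisymm (main_aux hcyc hq hp (Nat.card G) G H A P rfl h) (le_inf P0_le P0_le_commutator)

end Cfsg.Agent.H565.Focal
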