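import Mathlib

/-!
# Products of subgroups in nilpotent groups

`PS l` is the set of products `s₁ ⋯ sₙ`, `sᵢ` in the `i`-th member of the list `l` of subgroups.
`mem_PS_of_isNilpotent`: if each term of the lower central series of the nilpotent group `R` is generated by its
intersections with the members of `l` then `R = PS l`.
`index_le_of_mem_PS`: bound for the number of conjugates of a product.
-/

set_option autoImplicit false

namespace Cfsg.Agent.H565.ProdSet

open Subgroup
open scoped commutatorElement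

variable {R : Type*} [Group R]

/-- Products of elements of the members of a list of subgroups, in this order. -/
def PS : List (Subgroup R) → Set R
  | [] => {1}
  | S :: l => {x | ∃ s ∈ S, ∃ t ∈ PS l, x = s * t}

theorem one_mem_PS (l : List (Subgroup R)) : (1 : R) ∈ PS l := by
  induction l with
  | nil => exact rfl
  | cons S l ih => exact ⟨1, S.one_mem, 1, ih, by simp⟩

/-- Inserting a factor which is central modulo `N`. -/
theorem exists_mem_PS_mul (N : Subgroup R) {z : R} (hz : ∀ t : R, t⁻¹ * z⁻¹ * t * z ∈ N) :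
    ∀ (l : List (Subgroup R)) (S : Subgroup R), S ∈ l → z ∈ S → ∀ y ∈ PS l, ∃ y' ∈ PS l, y'⁻¹ * (y * z) ∈ N := by
  intro l
  induction l with
  | nil => intro S hS; simp at hS
  | cons S' l ih =>
    intro S hS hzS y hy
    obtain ⟨s, hs, t, ht, rfl⟩ := hy
    rcases List.mem_cons.mp hS with rfl | hS'
    · refine ⟨(s * z) * t, ⟨s * z, S.mul_mem hs hzS, t, ht, rfl⟩, ?_⟩
      have h1 := hz t
      have h2 : (s * z * t)⁻¹ * (s * t * z) = t⁻¹ * z⁻¹ * t * z := by group
      rw [h2]; exact h1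
    · obtain ⟨y', hy', h2⟩ := ih S hS' hzS t ht
      refine ⟨s * y', ⟨s, hs, y', hy', rfl⟩, ?_⟩
      have h3 : (s * y')⁻¹ * (s * t * z) = y'⁻¹ * (t * z) := by group
      rw [h3]; exact h2

theorem exists_mem_PS_step (M N : Subgroup R) [N.Normal] (l : List (Subgroup R))
    (hMN : ∀ z ∈ M, ∀ t : R, t⁻¹ * z⁻¹ * t * z ∈ N)
    (hgen : M ≤ ⨆ S : {S : Subgroup R // S ∈ l}, S.1 ⊓ M) {z : R} (hz : z ∈ M) :
    ∀ y ∈ PS l, ∃ y' ∈ PS l, y'⁻¹ * (y * z) ∈ N := by
  have hz' := hgen hz
  clear hz
  induction hz' using Subgroup.iSup_induction' with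
  | hp S x hx =>
    intro y hy
    exact exists_mem_PS_mul N (hMN x hx.2) l S.1 S.2 hx.1 y hy
  | h1 =>
    intro y hy
    exact ⟨y, hy, by simp [N.one_mem]⟩
  | hmul x x' hx hx' ih1 ih2 =>
    intro y hy
    obtain ⟨y1, hy1, h1⟩ := ih1 y hy
    obtain ⟨y2, hy2, h2⟩ := ih2 y1 hy1
    refine ⟨y2, hy2, ?_⟩
    have h3 : y2⁻¹ * (y * (x * x')) = (y2⁻¹ * (y1 * x')) * (x'⁻¹ * (y1⁻¹ * (y * x)) * x') := by group
    rw [h3]
    refine N.mul_mem h2 ?_
    have := (inferInstance : N.Normal).conj_mem _ h1 x'⁻¹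
    simpa using this

theorem mem_PS_of_isNilpotent (hR : Group.IsNilpotent R) (l : List (Subgroup R))
    (h : ∀ k : ℕ, (⊤ : Subgroup R).lowerCentralSeries k ≤ ⨆ S : {S : Subgroup R // S ∈ l}, S.1 ⊓ (⊤ : Subgroup R).lowerCentralSeries k) (x : R) :
    x ∈ PS l := by
  have key : ∀ k : ℕ, ∃ y ∈ PS l, y⁻¹ * x ∈ (⊤ : Subgroup R).lowerCentralSeries k := by
    intro k
    induction k with
    | zero => exact ⟨1, one_mem_PS l, by simp⟩
    | succ k ih =>
      obtain ⟨y, hy, hyx⟩ := ih
      obtain ⟨y', hy', h1⟩ := exists_mem_PS_step ((⊤ : Subgroup R).lowerCentralSeries k)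
        ((⊤ : Subgroup R).lowerCentralSeries (k + 1)) l (by
        intro z hz t
        have h2 : ⁅z⁻¹, t⁻¹⁆ ∈ (⊤ : Subgroup R).lowerCentralSeries (k + 1) := by
          rw [Subgroup.lowerCentralSeries_succ]
          exact subset_closure ⟨z⁻¹, ((⊤ : Subgroup R).lowerCentralSeries k).inv_mem hz, t⁻¹, mem_top _, rfl⟩
        have h3 : t⁻¹ * z⁻¹ * t * z = (⁅z⁻¹, t⁻¹⁆)⁻¹ := by
          rw [commutatorElement_def]; group
        rw [h3]
        exact inv_mem h2) (h k) hyx y hy
      refine ⟨y', hy', ?_⟩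
      have h4 : y * (y⁻¹ * x) = x := by group
      rwa [h4] at h1
  obtain ⟨n, hn⟩ := Subgroup.nilpotent_iff_lowerCentralSeries.mp hR
  obtain ⟨y, hy, hyx⟩ := key n
  rw [hn, mem_bot, inv_mul_eq_one] at hyx
  rwa [← hyx]

/-- The number of conjugates of a product. -/
theorem index_mul_le [Finite R] (x y : R) : (centralizer ({x * y} : Set R)).index ≤
    (centralizer ({x} : Set R)).index * (centralizer ({y} : Set R)).index := by
  have hle : centralizer ({x} : Set R) ⊓ centralizer ({y} : Set R) ≤ centralizer ({x * y} : Set R) := by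
    intro g hg
    have h1 := (mem_inf.mp hg).1
    have h2 := (mem_inf.mp hg).2
    rw [mem_centralizer_singleton_iff] at h1 h2 ⊢
    rw [← mul_assoc, h1, mul_assoc, h2, mul_assoc]
  exact le_trans (Nat.le_of_dvd (Nat.pos_of_ne_zero index_ne_zero_of_finite) (index_dvd_of_le hle)) index_inf_le

theorem index_le_of_mem_PS {K : Type*} [Group K] [Finite K] (f : R →* K) {k : ℕ} :
    ∀ (l : List (Subgroup R)), (∀ S ∈ l, ∀ s ∈ S, (centralizer ({f s} : Set K)).index ≤ k) → ∀ x ∈ PS l,
      (centralizer ({f x} : Set K)).index ≤ k ^ l.length := by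
  intro l
  induction l with
  | nil =>
    intro _ x hx
    have hx1 : x = 1 := hx
    subst hx1
    have : centralizer ({f 1} : Set K) = ⊤ := by
      rw [eq_top_iff]
      intro g _
      rw [mem_centralizer_singleton_iff]; simp
    rw [this]; simp
  | cons S l ih =>
    intro h x hx
    obtain ⟨s, hs, t, ht, rfl⟩ := hx
    rw [List.length_cons, pow_succ, mul_comm (k ^ l.length), map_mul]
    exact le_trans (index_mul_le (f s) (f t)) (Nat.mul_le_mul (h S List.mem_cons_self s hs)
      (ih (fun S' hS' => h S' (List.mem_cons_of_mem _ hS')) t ht))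

end Cfsg.Agent.H565.ProdSet
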