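import Mathlib
import Cfsg.Prelude.Def_Transfer
import Cfsg.Agent.Lib.CoprimeHyperplane
import Cfsg.Agent.H565.RankTwo
import Cfsg.Agent.H565.ProdSet
import Cfsg.Agent.H565.PrimePow

/-!
# Coprime action of an elementary abelian group of order `q³`: the order of the derived subgroup

`exists_bound`: `A` elementary abelian of order `q³` acts coprimely on `K` and the derived subgroup of `C_K(a)` has order
at most `m` for `1 ≠ a ∈ A`. Then the order of the derived subgroup of `K` is bounded in terms of `q` and `m`.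
-/

set_option autoImplicit false

namespace Cfsg.Agent.H565.RankThree

open Subgroup
open scoped Pointwise

theorem index_le_card_commutator {L : Type*} [Group L] [Finite L] (y : L) :
    (centralizer ({y} : Set L)).index ≤ Nat.card (commutator L) := by
  classical
  rw [← BFC.card_cls]
  have h1 : (BFC.cls y).card = Nat.card {b : L // b ∈ BFC.cls y} := by
    rw [Nat.card_eq_fintype_card]; simp
  rw [h1]
  refine Nat.card_le_card_of_injective
    (fun b : {b : L // b ∈ BFC.cls y} => (⟨b.1 * y⁻¹, ?_⟩ : commutator L)) ?_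
  · obtain ⟨g, hg⟩ := BFC.mem_cls.mp b.2
    rw [← hg]
    exact commutator_mem_commutator (mem_top g) (mem_top y)
  · intro a b hab
    have h2 : a.1 * y⁻¹ = b.1 * y⁻¹ := congrArg Subtype.val hab
    exact Subtype.ext (mul_right_cancel h2)

theorem index_conj {L : Type*} [Group L] [Finite L] (g y : L) :
    (centralizer ({g * y * g⁻¹} : Set L)).index = (centralizer ({y} : Set L)).index := by
  rw [← BFC.card_cls, ← BFC.card_cls]
  congr 1
  ext b
  rw [BFC.mem_cls, BFC.mem_cls]
  constructor
  · rintro ⟨h, rfl⟩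
    exact ⟨h * g, by group⟩
  · rintro ⟨h, rfl⟩
    exact ⟨h * g⁻¹, by group⟩

variable {G : Type*} [Group G] [Finite G]

omit [Finite G] in
theorem index_centralizer_subtype (L : Subgroup G) (y : L) :
    (centralizer ({y} : Set L)).index = (centralizer ({(y : G)} : Set G)).relIndex L := by
  rw [relIndex]
  congr 1
  ext g
  rw [mem_centralizer_singleton_iff, mem_subgroupOf, mem_centralizer_singleton_iff]
  constructor
  · intro h; exact congrArg Subtype.val h
  · intro h; exact Subtype.ext h

/-- Elements of `K` centralised by a subgroup `M` of order `q²` of `A` have few conjugates in `K`. -/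
theorem relIndex_le_of_rank_two {q m : ℕ} (hq : q.Prime) (M K : Subgroup G) (hMK : M ≤ normalizer (K : Set G))
    (hM : Nat.card M = q ^ 2) (hMab : ∀ a ∈ M, ∀ b ∈ M, a * b = b * a) (hMexp : ∀ a ∈ M, a ^ q = 1)
    (hcop : ¬ q ∣ Nat.card K)
    (hm : ∀ a ∈ M, a ≠ 1 → Nat.card (commutator ↥(K ⊓ centralizer ({a} : Set G))) ≤ m)
    {y : G} (hyK : y ∈ K) (hyM : y ∈ centralizer (M : Set G)) :
    (centralizer ({y} : Set G)).relIndex K ≤ m ^ q ^ 3 := by
  have h1 : (K ⊓ centralizer ({y} : Set G)).relIndex K = (centralizer ({y} : Set G)).relIndex K :=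
    inf_relIndex_left _ _
  rw [← h1]
  have hMy : ∀ a ∈ M, a * y * a⁻¹ = y := by
    intro a ha
    rw [(mem_centralizer_iff.mp hyM) a ha]; group
  refine RankTwo.relIndex_le hq M K (K ⊓ centralizer ({y} : Set G)) hMK ?_ inf_le_left hM hMab hMexp hcop ?_
  · -- `M` normalises `C_K(y)`
    have key : ∀ a ∈ M, ∀ g ∈ K ⊓ centralizer ({y} : Set G), a * g * a⁻¹ ∈ K ⊓ centralizer ({y} : Set G) := by
      intro a ha g hg
      obtain ⟨hg1, hg2⟩ := mem_inf.mp hg
      refine mem_inf.mpr ⟨(mem_normalizer_iff.mp (hMK ha) g).mp hg1, ?_⟩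
      rw [mem_centralizer_singleton_iff] at hg2 ⊢
      have h2 := hMy a ha
      have h3 : a⁻¹ * y * a = y := by
        have := hMy a⁻¹ (M.inv_mem ha)
        simpa using this
      calc a * g * a⁻¹ * y = a * (g * (a⁻¹ * y * a)) * a⁻¹ := by group
        _ = a * (g * y) * a⁻¹ := by rw [h3]
        _ = a * (y * g) * a⁻¹ := by rw [hg2]
        _ = (a * y * a⁻¹) * (a * g * a⁻¹) := by group
        _ = y * (a * g * a⁻¹) := by rw [h2]
    intro a ha
    rw [mem_normalizer_iff]
    intro g
    constructor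
    · exact key a ha g
    · intro hg
      have h2 := key a⁻¹ (M.inv_mem ha) _ hg
      have h3 : a⁻¹ * (a * g * a⁻¹) * a⁻¹⁻¹ = g := by group
      rwa [h3] at h2
  · intro f hf hf1
    set L : Subgroup G := K ⊓ centralizer ({f} : Set G) with hL
    have hyL : y ∈ L := by
      refine mem_inf.mpr ⟨hyK, ?_⟩
      rw [mem_centralizer_singleton_iff]
      exact ((mem_centralizer_iff.mp hyM) f hf).symm
    have h2 : K ⊓ centralizer ({y} : Set G) ⊓ centralizer ({f} : Set G) = centralizer ({y} : Set G) ⊓ L := by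
      rw [hL]; ac_rfl
    rw [h2, inf_relIndex_right]
    have h3 := index_centralizer_subtype L ⟨y, hyL⟩
    have h4 := index_le_card_commutator (⟨y, hyL⟩ : L)
    rw [h3] at h4
    exact h4.trans (hm f hf hf1)

/-- Elements of prime power order of `K` have few conjugates. -/
theorem index_le_of_primePow {q m : ℕ} (hq : q.Prime) (A K : Subgroup G) (hAK : A ≤ normalizer (K : Set G))
    (hA : Nat.card A = q ^ 3) (hAel : Cfsg.IsElementaryAbelian q A)
    (hAab : ∀ a ∈ A, ∀ b ∈ A, a * b = b * a) (hAexp : ∀ a ∈ A, a ^ q = 1)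
    (hcop : ¬ q ∣ Nat.card K)
    (hm : ∀ a ∈ A, a ≠ 1 → Nat.card (commutator ↥(K ⊓ centralizer ({a} : Set G))) ≤ m)
    (x : K) (hx : ∃ r a : ℕ, r.Prime ∧ orderOf x = r ^ a) :
    (centralizer ({x} : Set K)).index ≤ (m ^ q ^ 3) ^ 2 ^ q ^ 3 := by
  classical
  haveI : Fact q.Prime := ⟨hq⟩
  obtain ⟨r, a, hr, hxr⟩ := hx
  haveI : Fact r.Prime := ⟨hr⟩
  have hcop' : (Nat.card A).Coprime (Nat.card K) := by
    rw [hA]
    exact Nat.Coprime.pow_left _ ((Nat.Prime.coprime_iff_not_dvd hq).mpr hcop)
  have hsolv : Group.IsSolvable A := by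
    have h1 : IsPGroup q A := IsPGroup.of_card hA
    have := h1.isNilpotent
    infer_instance
  have hAne : A ≠ ⊥ := by
    rintro rfl
    rw [Subgroup.card_bot] at hA
    have : 1 < q ^ 3 := Nat.one_lt_pow (by norm_num) hq.one_lt
    omega
  -- an invariant Sylow subgroup
  have hAbot : A ≤ normalizer ((⊥ : Subgroup G) : Set G) := by
    rw [Subgroup.normalizer_eq_top (H := (⊥ : Subgroup G))]; exact le_top
  obtain ⟨P, -, hP⟩ := Cfsg.Agent.S0025.result A K hAK hcop' (Or.inl hsolv) r ⊥ bot_le (IsPGroup.of_bot) hAbot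
  set R : Subgroup G := (P : Subgroup K).map K.subtype with hR
  have hRK : R ≤ K := Subgroup.map_subtype_le _
  have hRp : IsPGroup r R := P.isPGroup'.map _
  have hRn : Group.IsNilpotent R := hRp.isNilpotent
  -- hyperplanes
  let HP : Finset (Subgroup G) := (Set.toFinite {B : Subgroup G | B ≤ A ∧ B.relIndex A = q}).toFinset
  have hHP : ∀ B, B ∈ HP ↔ B ≤ A ∧ B.relIndex A = q := fun B => by simp [HP]
  have hm1 : 1 ≤ m := by
    obtain ⟨a, ha, ha1⟩ := (Subgroup.bot_or_exists_ne_one A).resolve_left hAne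
    exact le_trans Nat.card_pos (hm a ha ha1)
  let l : List (Subgroup R) := HP.toList.map (fun B : Subgroup G => (centralizer (B : Set G)).subgroupOf R)
  have hlen : l.length ≤ 2 ^ q ^ 3 := by
    have h1 : l.length = HP.card := by simp [l]
    rw [h1, ← hA]
    have h2 : HP.card ≤ Nat.card (Set A) := by
      have h3 : HP.card = Nat.card {B : Subgroup G // B ∈ HP} := by
        rw [Nat.card_eq_fintype_card]; simp
      rw [h3]
      refine Nat.card_le_card_of_injective
        (fun B : {B : Subgroup G // B ∈ HP} => ((B.1.subgroupOf A : Subgroup A) : Set A)) ?_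
      intro B C hBC
      have h4 : B.1.subgroupOf A = C.1.subgroupOf A := SetLike.coe_injective hBC
      apply Subtype.ext
      have h5 := congrArg (Subgroup.map A.subtype) h4
      rwa [subgroupOf_map_subtype, subgroupOf_map_subtype, inf_eq_left.mpr ((hHP _).mp B.2).1,
        inf_eq_left.mpr ((hHP _).mp C.2).1] at h5
    have h6 : Nat.card (Set A) = 2 ^ Nat.card A := by
      haveI := Fintype.ofFinite A
      rw [Nat.card_eq_fintype_card, Nat.card_eq_fintype_card, Fintype.card_set]
    omega
  -- the elements of the members of `l` have few conjugates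
  have hmem : ∀ S ∈ l, ∀ s ∈ S, (centralizer ({(Subgroup.inclusion hRK) s} : Set K)).index ≤ m ^ q ^ 3 := by
    intro S hS s hs
    simp only [l, List.mem_map, Finset.mem_toList] at hS
    obtain ⟨B, hB, rfl⟩ := hS
    obtain ⟨hBA, hBi⟩ := (hHP B).mp hB
    rw [index_centralizer_subtype]
    have hBcard : Nat.card B = q ^ 2 := by
      have h1 := relIndex_mul_relIndex ⊥ B A bot_le hBA
      rw [relIndex_bot_left, relIndex_bot_left, hBi, hA] at h1
      have h2 : q ^ 3 = q ^ 2 * q := by ring
      rw [h2] at h1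
      exact Nat.eq_of_mul_eq_mul_right hq.pos h1
    have hs' : (s : G) ∈ centralizer (B : Set G) := mem_subgroupOf.mp hs
    exact relIndex_le_of_rank_two hq B K (hBA.trans hAK) hBcard (fun a ha b hb => hAab a (hBA ha) b (hBA hb))
      (fun a ha => hAexp a (hBA ha)) hcop (fun a ha => hm a (hBA ha)) (hRK s.2) hs'
  -- generation
  have hgen : ∀ k : ℕ, (⊤ : Subgroup R).lowerCentralSeries k ≤
      ⨆ S : {S : Subgroup R // S ∈ l}, S.1 ⊓ (⊤ : Subgroup R).lowerCentralSeries k := by
    intro k
    have hQ : ((⊤ : Subgroup R).lowerCentralSeries k).map R.subtype = R.lowerCentralSeries k :=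
      top_subtype_lowerCentralSeries R k
    have hQR : R.lowerCentralSeries k ≤ R := by rw [← hQ]; exact map_subtype_le _
    have hAQ : ∀ j, A ≤ normalizer (R.lowerCentralSeries j : Set G) := by
      intro j
      intro a ha
      have hmap : R.map (MulAut.conj a).toMonoidHom = R := by
        have h1 := hP ha
        rw [mem_normalizer_iff] at h1
        ext z
        rw [mem_map]
        constructor
        · rintro ⟨w, hw, rfl⟩
          exact (h1 w).mp hw
        · intro hz
          refine ⟨a⁻¹ * z * a, ?_, ?_⟩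
          · rw [h1]; convert hz using 1; group
          · show a * (a⁻¹ * z * a) * a⁻¹ = z
            group
      have h2 : (R.lowerCentralSeries j).map (MulAut.conj a).toMonoidHom = R.lowerCentralSeries j := by
        rw [map_lowerCentralSeries, hmap]
      rw [mem_normalizer_iff]
      intro z
      constructor
      · intro hz
        rw [← h2]
        exact ⟨z, hz, rfl⟩
      · intro hz
        rw [← h2] at hz
        obtain ⟨w, hw, hwz⟩ := hz
        have h3 : a * w * a⁻¹ = a * z * a⁻¹ := hwz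
        have h4 : w = z := by
          have := mul_right_cancel h3
          exact mul_left_cancel this
        rwa [← h4]
    have hcopQ : (Nat.card (R.lowerCentralSeries k)).Coprime q := by
      have h1 : ¬ q ∣ Nat.card (R.lowerCentralSeries k) := fun h =>
        hcop (h.trans (Subgroup.card_dvd_of_le (hQR.trans hRK)))
      exact ((Nat.Prime.coprime_iff_not_dvd hq).mpr h1).symm
    have hgen := Cfsg.Agent.Lib.CoprimeHyperplane.le_iSup_hyperplane A (R.lowerCentralSeries k) hAel hAne hcopQ (hAQ k)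
    rw [← Subgroup.map_le_map_iff_of_injective (f := R.subtype) R.subtype_injective, hQ]
    refine hgen.le.trans (iSup_le ?_)
    rintro ⟨B, hBA, hBi⟩
    have hSl : (centralizer (B : Set G)).subgroupOf R ∈ l := by
      simp only [l, List.mem_map, Finset.mem_toList]
      exact ⟨B, (hHP B).mpr ⟨hBA, hBi⟩, rfl⟩
    refine le_trans ?_ (Subgroup.map_mono (le_iSup (fun S : {S : Subgroup R // S ∈ l} =>
      S.1 ⊓ (⊤ : Subgroup R).lowerCentralSeries k) ⟨_, hSl⟩))
    intro z hz
    obtain ⟨hz1, hz2⟩ := mem_inf.mp hz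
    refine ⟨⟨z, hQR hz1⟩, mem_inf.mpr ⟨mem_subgroupOf.mpr hz2, ?_⟩, rfl⟩
    rw [← hQ] at hz1
    obtain ⟨w, hw, hwz⟩ := hz1
    have : w = ⟨z, hQR (by rw [← hQ]; exact ⟨w, hw, hwz⟩)⟩ := Subtype.ext hwz
    rw [← this]
    exact hw
  -- every element of the Sylow subgroup is a product
  have hall : ∀ s : R, (centralizer ({(Subgroup.inclusion hRK) s} : Set K)).index ≤ (m ^ q ^ 3) ^ 2 ^ q ^ 3 := by
    intro s
    have h1 := ProdSet.mem_PS_of_isNilpotent hRn l hgen s
    have h2 := ProdSet.index_le_of_mem_PS (Subgroup.inclusion hRK) (k := m ^ q ^ 3) l hmem s h1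
    exact h2.trans (Nat.pow_le_pow_right (Nat.pow_pos hm1) hlen)
  -- conjugation
  have hzp : IsPGroup r (zpowers x) := by
    apply IsPGroup.of_card (n := a)
    rw [Nat.card_zpowers, hxr]
  obtain ⟨Q, hQ⟩ := hzp.exists_le_sylow
  obtain ⟨g, hg⟩ := MulAction.exists_smul_eq K Q P
  have hgx : g * x * g⁻¹ ∈ (P : Subgroup K) := by
    rw [← hg]
    have h1 : ((g • Q : Sylow r K) : Subgroup K) = MulAut.conj g • (Q : Subgroup K) := rfl
    rw [h1]
    exact Subgroup.smul_mem_pointwise_smul _ (MulAut.conj g) _ (hQ (mem_zpowers x))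
  rw [← index_conj g x]
  have h1 : ((g * x * g⁻¹ : K) : G) ∈ R := ⟨_, hgx, rfl⟩
  exact hall ⟨_, h1⟩

end Cfsg.Agent.H565.RankThree
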