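import Cfsg.Agent.H565.NoMinTor

/-!
# `q`-subgroups of groups of Lie type have toral subgroups of small index

`k` algebraically closed of characteristic `r`, locally finite, `q ≠ r` a prime, `q ^ (e + 1) ∤ |W|`:

* `exists_toral_index` : every finite `q`-subgroup `Q` of `D.group k` has a subgroup `B`, `|Q : B| ∣ q ^ e`, conjugate
  into the torus;
* `minD_no_index` : a nonabelian `MinD s t y D`, `2 < s < t`, has no abelian subgroup of index dividing `s`;
* `noMin_of_sq_not_dvd` : `s ^ 2 ∤ |W|`, `Tors`, `t ∤ |W|`, `s ≠ r`, `2 < s < t` imply `NoMin s t G`.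
-/

set_option autoImplicit false
set_option linter.unusedSectionVars false

namespace Cfsg.Agent.H565.NM

open Subgroup CoxeterSystem Cfsg Cfsg.Lie Cfsg.Lie.ChevalleyDatum
open Cfsg.Agent.ChevalleyStructure Cfsg.Agent.ChevalleyStructure.Elts Cfsg.Agent.ChevalleyStructure.CoxeterGeom
  Cfsg.Agent.ChevalleyStructure.CoxeterGeomTypes Cfsg.Agent.ChevalleyStructure.NPerm
open Cfsg.Agent.Tits.Roots Cfsg.Agent.Tits.Core Cfsg.Agent.Nodes Cfsg.Agent.Nodes.Reps Cfsg.Agent.Nodes.BNOf
  Cfsg.Agent.Nodes.RGDChev Cfsg.Agent.Nodes.Bruhat Cfsg.Agent.Nodes.OppDec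
open Cfsg.Agent.KFacts.RgdField Cfsg.Agent.KFacts.RgdChevCoord Cfsg.Agent.BpExc.TorCent Cfsg.Agent.BpExc.TorChev
open Cfsg.Agent.CpAut.RgdFix Cfsg.Agent.CpAut.RgdSub Cfsg.Agent.KFacts.RgdDiag
open Cfsg.Agent.GpExc.Field Cfsg.Agent.BpExc.Tow Cfsg.Agent.BpExc.TowChev Cfsg.Agent.BpExc.TorAll
  Cfsg.Agent.BpExc.FamUntw Cfsg.Agent.BpExc.FamInst Cfsg.Agent.BpExc.LangFr
open Cfsg.Agent.CpAut.RgdUntw
open Cfsg.Agent.H795.SetCent Cfsg.Agent.H795.SetTor Cfsg.Agent.H795.TorCnt Cfsg.Agent.H795.TorSub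
open Cfsg.Agent.H167.OP
open scoped commutatorElement Pointwise

universe u

/-- a `q`-group acting on a finite set of size not divisible by `q ^ (e + 1)` -/
theorem exists_index_stabilizer {q e : ℕ} (hq : q.Prime) {Q X : Type*} [Group Q] [Finite Q] [Finite X] [MulAction Q X]
    (hQ : IsPGroup q Q) (hX : ¬ q ^ (e + 1) ∣ Nat.card X) : ∃ x : X, (MulAction.stabilizer Q x).index ∣ q ^ e := by
  classical
  have hfq : Fact q.Prime := ⟨hq⟩
  by_contra hcon
  push Not at hcon
  apply hX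
  have : Fintype X := Fintype.ofFinite X
  have : Fintype (MulAction.orbitRel.Quotient Q X) := Fintype.ofFinite _
  rw [Nat.card_congr (MulAction.selfEquivSigmaOrbits Q X), Nat.card_sigma]
  refine Finset.dvd_sum fun ω _ => ?_
  have h1 : Nat.card ↥(MulAction.orbit Q (Quotient.out ω)) = (MulAction.stabilizer Q (Quotient.out ω)).index :=
    (MulAction.index_stabilizer Q (Quotient.out ω)).symm
  rw [h1]
  obtain ⟨n, hn⟩ := hQ.index (MulAction.stabilizer Q (Quotient.out ω))
  have h2 := hcon (Quotient.out ω)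
  rw [hn] at h2 ⊢
  apply pow_dvd_pow
  by_contra h3
  exact h2 (pow_dvd_pow q (by omega))

variable {D : ChevalleyDatum} {l : ℕ} {M : CoxeterMatrix (Fin l)} (hp : IsType D l M)
  (r : ℕ) [Fact r.Prime] {k : Type u} [Field k] [CharP k r] [IsAlgClosed k]

include hp in
/-- **Toral subgroups of small index.** -/
theorem exists_toral_index (hk : LocFin k) {q e : ℕ} (hq : q.Prime) (hqr : q ≠ r)
    (hW : ¬ q ^ (e + 1) ∣ Nat.card M.Group) {Q : Subgroup ↥(D.group k)} [Finite ↥Q] (hQ : IsPGroup q ↥Q) :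
    ∃ B ≤ Q, B.relIndex Q ∣ q ^ e ∧ ∃ g : ↥(D.group k), ∀ x ∈ B, g * x * g⁻¹ ∈ TT D k := by
  classical
  have hr : r.Prime := Fact.out
  have hfq : Fact q.Prime := ⟨hq⟩
  have hWf := finite_W hp (M.toCoxeterSystem)
  obtain ⟨N, hN, hdN, hS, -⟩ := exists_level_EE hp r hk (Set.toFinite (Q : Set ↥(D.group k)))
    Set.finite_empty (Set.empty_subset _) (Nat.totient_pos.2 (pow_pos hq.pos (e + 1)))
  have hcop : r.Coprime (q ^ (e + 1)) := Nat.Coprime.pow_right _ ((Nat.coprime_primes hr hq).2 (Ne.symm hqr))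
  have hN1 : r ^ N ≡ 1 [MOD q ^ (e + 1)] := by
    obtain ⟨d, rfl⟩ := hdN
    rw [pow_mul]
    have := (Nat.ModEq.pow_totient hcop).pow d
    rwa [one_pow] at this
  have hfinN : Finite ↥(EE r N : Subfield k) := finite_EE r hN
  have : CharP ↥(EE r N : Subfield k) r := charP_fixF r _
  have hGfin : Finite ↥(D.group ↥(EE r N : Subfield k)) := finite_group
  have R := rgd (K := ↥(EE r N : Subfield k)) hp M.toCoxeterSystem r
  have hG := GG_top (K := ↥(EE r N : Subfield k)) hp M.toCoxeterSystem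
  set f := emb hp.inList (EE r N : Subfield k).subtype with hf
  have hinj : Function.Injective f := emb_injective hp.inList _
  have hQ' : IsPGroup q ↥(Q.comap f) := hQ.comap_of_injective f hinj
  -- the chambers
  have h1 := card_sylowZ_modEq R hG (B := ∅) (fun β hβ => absurd hβ (Set.notMem_empty β)) (k := q ^ (e + 1)) (fun a ha => by
    have h2 : (FB (∅ : Set (MulAut ↥(D.group ↥(EE r N : Subfield k))))) = ⊤ := by
      rw [eq_top_iff]
      intro y _ β hβ
      exact absurd hβ (Set.notMem_empty β)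
    rw [h2, inf_top_eq, card_XX hp r M.toCoxeterSystem ha, card_EE r hN]
    exact hN1)
  have h2 : Nat.card {S : Sylow r ↥(D.group ↥(EE r N : Subfield k)) // ∀ β ∈ (∅ : Set (MulAut ↥(D.group ↥(EE r N : Subfield k)))), β • S = S} =
      Nat.card (Sylow r ↥(D.group ↥(EE r N : Subfield k))) :=
    Nat.card_congr ⟨fun S => S.1, fun S => ⟨S, fun β hβ => absurd hβ (Set.notMem_empty β)⟩, fun _ => rfl, fun _ => rfl⟩
  rw [h2] at h1
  have h3 : ¬ q ^ (e + 1) ∣ Nat.card (Sylow r ↥(D.group ↥(EE r N : Subfield k))) := by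
    intro hd
    exact hW (Nat.modEq_zero_iff_dvd.1 (h1.symm.trans (Nat.modEq_zero_iff_dvd.2 hd)))
  obtain ⟨S, hSf⟩ := exists_index_stabilizer hq (X := Sylow r ↥(D.group ↥(EE r N : Subfield k))) hQ' h3
  set B' : Subgroup ↥(D.group ↥(EE r N : Subfield k)) := (MulAction.stabilizer ↥(Q.comap f) S).map (Q.comap f).subtype
    with hB'
  have hB'Q : B' ≤ Q.comap f := Subgroup.map_subtype_le _
  obtain ⟨g, hg⟩ := exists_conj_le_T R hG hq hqr (hQ'.to_le hB'Q) (S := S) (fun x hx => by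
    obtain ⟨y, hy, rfl⟩ := hx
    exact hy)
  have hQr : (Q.comap f).map f = Q := by
    rw [Subgroup.map_comap_eq_self]
    exact fun x hx => hS hx
  refine ⟨B'.map f, ?_, ?_, f g, ?_⟩
  · rw [← hQr]
    exact Subgroup.map_mono hB'Q
  · have h4 : B'.relIndex (Q.comap f) = (MulAction.stabilizer ↥(Q.comap f) S).index := by
      rw [hB', Subgroup.relIndex, Subgroup.subgroupOf, Subgroup.comap_map_eq_self_of_injective (Subgroup.subtype_injective _)]
    have h5 : (B'.map f).relIndex Q = B'.relIndex (Q.comap f) := by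
      conv_lhs => rw [← hQr]
      rw [Subgroup.relIndex_map_map, (MonoidHom.ker_eq_bot_iff f).2 hinj, sup_bot_eq, sup_bot_eq]
    rw [h5, h4]
    exact hSf
  · rintro _ ⟨y, hy, rfl⟩
    rw [← map_mul, ← map_inv, ← map_mul]
    exact emb_T hp _ ⟨_, hg y hy, rfl⟩

section NoIndex

variable {G : Type*} [Group G] {s t : ℕ} {y : G} {D : Subgroup G}

/-- **A nonabelian minimal noncentralised invariant subgroup has no abelian subgroup of index `s`.** -/
theorem minD_no_index [Finite G] (hs2 : 2 < s) (hst : s < t) (h : MinD s t y D)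
    (hna : ¬ ∀ a ∈ D, ∀ b ∈ D, a * b = b * a) {B : Subgroup G} (hB : B ≤ D)
    (hab : ∀ a ∈ B, ∀ b ∈ B, a * b = b * a) : ¬ B.relIndex D ∣ s := by
  classical
  intro hBs
  have hs := h.hs
  have ht := h.ht
  have hfs : Fact s.Prime := ⟨h.hs⟩
  have hP := h.isPGroup
  obtain ⟨K, hKD, hcy, hp, hcm, hK⟩ := exists_frat h
  set Z : Subgroup G := D ⊓ centralizer (D : Set G) with hZ
  have hZD : Z ≤ D := inf_le_left
  have hZc : ∀ z ∈ Z, ∀ d ∈ D, z * d = d * z := fun z hz d hd => (mem_centralizer_iff.1 hz.2 d hd).symm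
  have hKZ : K ≤ Z := fun k hk => ⟨hKD.le hk, mem_centralizer_iff.2 fun d hd => (hK k hk d hd).symm⟩
  have hcmZ : ∀ a ∈ D, ∀ b ∈ D, a * b * a⁻¹ * b⁻¹ ∈ Z := fun a ha b hb => hKZ (hcm a ha b hb)
  have hZn : Nrm y Z := by
    intro z hz
    refine ⟨h.nrm z hz.1, mem_centralizer_iff.2 fun d hd => ?_⟩
    have h1 : y⁻¹ * d * y⁻¹⁻¹ ∈ D := by
      have := (mem_normalizer_iff.1 (inv_mem (mem_normalizer_of_nrm h.nrm)) d).1 hd
      exact this
    have h2 := hZc z hz _ h1
    have h3 : y * (z * (y⁻¹ * d * y⁻¹⁻¹)) * y⁻¹ = y * ((y⁻¹ * d * y⁻¹⁻¹) * z) * y⁻¹ := by rw [h2]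
    have e1 : y * (z * (y⁻¹ * d * y⁻¹⁻¹)) * y⁻¹ = (y * z * y⁻¹) * d := by group
    have e2 : y * ((y⁻¹ * d * y⁻¹⁻¹) * z) * y⁻¹ = d * (y * z * y⁻¹) := by group
    rw [e1, e2] at h3
    exact h3.symm
  -- enlarge `B`
  set C : Subgroup G := B ⊔ Z with hC
  have hCD : C ≤ D := sup_le hB hZD
  have hCab : ∀ a ∈ C, ∀ b ∈ C, a * b = b * a := by
    have h1 : B ≤ centralizer (C : Set G) := by
      rw [le_centralizer_iff]
      exact sup_le (fun b hb => mem_centralizer_iff.2 fun c hc => hab c hc b hb) fun z hz =>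
        mem_centralizer_iff.2 fun c hc => (hZc z hz c (hB hc)).symm
    have h2 : C ≤ centralizer (C : Set G) := by
      refine sup_le h1 fun z hz => mem_centralizer_iff.2 fun c hc => (hZc z hz c (hCD hc)).symm
    intro a ha b hb
    exact (mem_centralizer_iff.1 (h2 ha) b hb).symm
  have hCs : C.relIndex D ∣ s := (relIndex_dvd_of_le_left D le_sup_left).trans hBs
  have hCne : ¬ D ≤ C := fun h1 => hna fun a ha b hb => hCab a (h1 ha) b (h1 hb)
  have hCi : C.relIndex D = s := by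
    rcases (Nat.dvd_prime hs).1 hCs with h1 | h1
    · exact absurd (relIndex_eq_one.1 h1) hCne
    · exact h1
  have hCnD : ∀ d ∈ D, ∀ n ∈ C, d * n * d⁻¹ ∈ C := by
    intro d hd n hn
    have h1 : d * n * d⁻¹ = (d * n * d⁻¹ * n⁻¹) * n := by group
    rw [h1]
    exact C.mul_mem (Subgroup.mem_sup_right (hcmZ d hd n (hCD hn))) hn
  -- the index of the center
  have hidx : Z.relIndex D ≤ s ^ 2 := by
    by_cases hn : Nrm y C
    · -- `C` is central
      have h1 : C ≤ Z := by
        intro c hc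
        exact ⟨hCD hc, mem_centralizer_iff.2 fun d hd =>
          (h.central hCD (fun e => hCne e.ge) hn hCnD hc hd).symm⟩
      have h2 : Z.relIndex D ≤ C.relIndex D :=
        Nat.le_of_dvd (by rw [hCi]; exact hs.pos) (relIndex_dvd_of_le_left D h1)
      rw [hCi] at h2
      exact h2.trans (Nat.le_self_pow (by norm_num) s)
    · set C' : Subgroup G := C.map (MulAut.conj y).toMonoidHom with hC'
      have hC'D : C' ≤ D := by
        rintro _ ⟨c, hc, rfl⟩
        exact h.nrm c (hCD hc)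
      have hDD : D.map (MulAut.conj y).toMonoidHom = D := by
        apply Subgroup.eq_of_le_of_card_ge
        · rintro _ ⟨c, hc, rfl⟩
          exact h.nrm c hc
        · rw [Subgroup.card_map_of_injective (MulAut.conj y).injective]
      have hC'i : C'.relIndex D = s := by
        rw [← hCi]
        conv_lhs => rw [← hDD]
        rw [hC', Subgroup.relIndex_map_map, (MonoidHom.ker_eq_bot_iff (MulAut.conj y).toMonoidHom).2
          (MulAut.conj y).injective, sup_bot_eq, sup_bot_eq]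
      have hC'ab : ∀ a ∈ C', ∀ b ∈ C', a * b = b * a := by
        rintro _ ⟨a, ha, rfl⟩ _ ⟨b, hb, rfl⟩
        rw [← map_mul, ← map_mul, hCab a ha b hb]
      have hsup : D ≤ C ⊔ C' := by
        have h1 : C.relIndex (C ⊔ C') * (C ⊔ C').relIndex D = s := by
          rw [Subgroup.relIndex_mul_relIndex _ _ _ le_sup_left (sup_le hCD hC'D), hCi]
        rcases (Nat.dvd_prime hs).1 (Dvd.intro _ h1) with h2 | h2
        · exfalso
          apply hn
          have h3 : C' ≤ C := le_sup_right.trans (relIndex_eq_one.1 h2)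
          intro c hc
          exact h3 ⟨c, hc, rfl⟩
        · rw [h2] at h1
          exact relIndex_eq_one.1 (Nat.eq_of_mul_eq_mul_left hs.pos (h1.trans (mul_one s).symm))
      have hle : C ⊓ C' ≤ Z := by
        rintro c ⟨hc, hc'⟩
        refine ⟨hCD hc, ?_⟩
        have h1 : C ⊔ C' ≤ centralizer {c} := sup_le
          (fun a ha => mem_centralizer_singleton_iff.2 (hCab a ha c hc))
          (fun a ha => mem_centralizer_singleton_iff.2 (hC'ab a ha c hc'))
        exact mem_centralizer_iff.2 fun d hd => mem_centralizer_singleton_iff.1 (h1 (hsup hd))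
      have h2 : Z.relIndex D ≤ (C ⊓ C').relIndex D := by
        refine Nat.le_of_dvd (Nat.pos_of_ne_zero ?_) (relIndex_dvd_of_le_left D hle)
        exact Subgroup.index_ne_zero_of_finite
      refine h2.trans ((Subgroup.relIndex_inf_le).trans ?_)
      rw [hCi, hC'i, pow_two]
  -- the conclusion
  have h1 := h.relIndex_modEq (X := Z) hZn hcmZ
  obtain ⟨n, hn⟩ := hP.index (Z.subgroupOf D)
  change Z.relIndex D = s ^ n at hn
  have h0 : n ≠ 0 := by
    rintro rfl
    rw [pow_zero, relIndex_eq_one] at hn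
    exact hna fun a ha b hb => hZc a (hn ha) b hb
  rw [hn] at hidx h1
  have h2 : n ≤ 2 := (Nat.pow_le_pow_iff_right hs.one_lt).1 hidx
  refine not_modEq_one hs2 hst ht hs (n := s ^ n) ?_ h1
  have h3 : n = 1 ∨ n = 2 := by omega
  rcases h3 with rfl | rfl
  · left; rw [pow_one]
  · right; rfl

end NoIndex

include hp in
/-- **`s ^ 2` and `t` do not divide `|W|`, `2 < s < t`.** -/
theorem noMin_of_sq_not_dvd (hk : LocFin k) {G : Type*} [Group G] [Finite G] {f : G →* ↥(D.group k)}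
    (hf : Function.Injective f) {s t : ℕ} (hs2 : 2 < s) (hst : s < t) (hsr : s ≠ r)
    (hs : ¬ s ^ 2 ∣ Nat.card M.Group)
    (hT : Tors M.toCoxeterSystem hp.isCartan s) (ht : ¬ t ∣ Nat.card M.Group) : NoMin s t G := by
  intro y B h
  have : Fact s.Prime := ⟨h.hs⟩
  have hna := not_comm_of_minD hp r hk hf hsr hs hT ht h
  have hfin : Finite ↥(B.map f) :=
    Finite.of_surjective (fun u : B => (⟨f u, ⟨u, u.2, rfl⟩⟩ : ↥(B.map f))) (by
      rintro ⟨_, ⟨u, hu, rfl⟩⟩
      exact ⟨⟨u, hu⟩, rfl⟩)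
  obtain ⟨A, hA, hAi, g, hg⟩ := exists_toral_index hp r hk (e := 1) h.hs hsr hs (Q := B.map f) (h.isPGroup.map f)
  have hAB : A.comap f ≤ B := by
    intro x hx
    obtain ⟨z, hz, e⟩ := hA hx
    rwa [← hf e]
  refine minD_no_index hs2 hst h hna (B := A.comap f) hAB (fun a ha b hb => ?_) ?_
  · have h1 := TT_comm hp _ (hg _ ha) _ (hg _ hb)
    have h2 : g * (f a * f b) * g⁻¹ = g * (f b * f a) * g⁻¹ := by
      calc g * (f a * f b) * g⁻¹ = (g * f a * g⁻¹) * (g * f b * g⁻¹) := by group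
        _ = (g * f b * g⁻¹) * (g * f a * g⁻¹) := h1
        _ = _ := by group
    have h3 := mul_left_cancel (mul_right_cancel h2)
    rw [← map_mul, ← map_mul] at h3
    exact hf h3
  · have hAr : (A.comap f).map f = A := by
      rw [Subgroup.map_comap_eq_self]
      exact hA.trans (Subgroup.map_le_range f B)
    have h5 : A.relIndex (B.map f) = (A.comap f).relIndex B := by
      conv_lhs => rw [← hAr]
      rw [Subgroup.relIndex_map_map, (MonoidHom.ker_eq_bot_iff f).2 hf, sup_bot_eq, sup_bot_eq]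
    rw [← h5, ← pow_one s]
    exact hAi

end Cfsg.Agent.H565.NM
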